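import Mathlib
import Cfsg.Agent.H496.CyclicCount
import Cfsg.Agent.OddOrderLocal.CyclicSub
import Cfsg.Agent.H864.FrobOrder
import Cfsg.Agent.S0034
import Cfsg.Agent.S0035
import Cfsg.Agent.S0039
import Cfsg.Agent.S0042
import Cfsg.Agent.Lib.NilpotentCoprime
import Cfsg.Agent.Lib.Cores
import Cfsg.Agent.FastGrp
import Cfsg.Agent.Prune
set_option linter.all false
prune_inst 0x7f00000000000000000000000000000000000000000000000000000000000000000000000000000000000000000000000000000000000000000000000000000000000000000000000000000000000000003fffffffffffffffffffffffffffbeffbdffffffff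
open scoped Cfsg.Agent.FastGrp

-- part: H702/Iso
section
/-!
# Isolated cyclic Hall subgroups (helper702)

`Iso T` : `T` is a cyclic Hall subgroup of odd order `> 1` which contains the centralizers of its nontrivial elements.
-/

set_option autoImplicit false

namespace Cfsg.Agent.H702.TF

open Subgroup
open scoped Pointwise

/-- isolated cyclic Hall subgroup -/
structure Iso {X : Type*} [Group X] (T : Subgroup X) : Prop where
  cyc : IsCyclic T
  odd : Odd (Nat.card T)
  one_lt : 1 < Nat.card T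
  cop : (Nat.card T).Coprime T.index
  cent : ∀ z ∈ T, z ≠ 1 → ∀ g : X, g * z = z * g → g ∈ T

variable {X : Type*} [Group X] [Finite X]

theorem Iso.of_order {t m : ℕ} (hcard : Nat.card X = t * m) (hcop : t.Coprime m) (hodd : Odd t) (ht : 1 < t)
    (hno : ∀ r s : ℕ, r.Prime → s.Prime → r ∣ t → ¬ s ∣ t → ∀ g : X, orderOf g ≠ r * s) {x : X}
    (hx : orderOf x = t) : Iso (zpowers x) where
  cyc := inferInstance
  odd := by rwa [Nat.card_zpowers, hx]
  one_lt := by rwa [Nat.card_zpowers, hx]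
  cop := by
    have h1 := (zpowers x).card_mul_index
    rw [Nat.card_zpowers, hx, hcard] at h1
    rw [Nat.card_zpowers, hx, Nat.eq_of_mul_eq_mul_left (by omega) h1]
    exact hcop
  cent := by
    intro z hz hz1 g hg
    set C := centralizer ({z} : Set X) with hC
    have hTC : zpowers x ≤ C := by
      intro y hy
      rw [hC, mem_centralizer_singleton_iff]
      obtain ⟨i, rfl⟩ := mem_zpowers_iff.1 hy
      obtain ⟨j, rfl⟩ := mem_zpowers_iff.1 hz
      rw [← zpow_add, ← zpow_add, add_comm]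
    have hgC : g ∈ C := by
      rw [hC, mem_centralizer_singleton_iff]
      exact hg
    -- the centralizer has order dividing `t`
    have hzt : orderOf z ∣ t := by
      rw [← hx]
      exact orderOf_dvd_of_mem_zpowers hz
    have hz1' : orderOf z ≠ 1 := by rwa [Ne, orderOf_eq_one_iff]
    have hrp := Nat.minFac_prime hz1'
    have hrz := Nat.minFac_dvd (orderOf z)
    set r := (orderOf z).minFac with hr
    have hCm : (Nat.card C).Coprime m := by
      apply Nat.coprime_of_dvd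
      intro s hs h1 h2
      have hst : ¬ s ∣ t := fun h3 => hs.one_lt.ne' (Nat.dvd_one.1 (hcop ▸ Nat.dvd_gcd h3 h2))
      have : Fact s.Prime := ⟨hs⟩
      obtain ⟨u, hu⟩ := exists_prime_orderOf_dvd_card' (G := C) s h1
      have hu' : orderOf (u : X) = s := by rw [orderOf_coe, hu]
      have hcom : Commute (u : X) z := mem_centralizer_singleton_iff.1 u.2
      have hw : orderOf (z ^ (orderOf z / r)) = r := by
        rw [orderOf_pow_of_dvd (Nat.div_pos (Nat.le_of_dvd (orderOf_pos z) hrz) hrp.pos).ne'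
          (Nat.div_dvd_of_dvd hrz), Nat.div_div_self hrz (orderOf_pos z).ne']
      have hrs : r ≠ s := by
        intro h3
        exact hst (h3 ▸ hrz.trans hzt)
      apply hno r s hrp hs (hrz.trans hzt) hst (z ^ (orderOf z / r) * u)
      rw [((hcom.pow_right _).symm).orderOf_mul_eq_mul_orderOf_of_coprime, hw, hu']
      rw [hw, hu']
      exact (Nat.coprime_primes hrp hs).2 hrs
    have h1 : Nat.card C ∣ t * m := hcard ▸ card_subgroup_dvd_card C
    have h2 : Nat.card C ∣ t := hCm.dvd_of_dvd_mul_right h1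
    have h3 : zpowers x = C := by
      apply eq_of_le_of_card_ge hTC
      rw [Nat.card_zpowers, hx]
      exact Nat.le_of_dvd (by omega) h2
    rw [h3]
    exact hgC

omit [Finite X] in
/-- the number of conjugates -/
theorem card_conj_eq (T : Subgroup X) :
    Nat.card ({S : Subgroup X | ∃ g : X, MulAut.conj g • T = S} : Set (Subgroup X)) =
      (normalizer (T : Set X)).index := by
  let _ := MulAction.compHom (Subgroup X) (MulAut.conj : X →* MulAut X)
  have h1 : MulAction.stabilizer X T = normalizer (T : Set X) := by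
    ext g
    rw [MulAction.mem_stabilizer_iff]
    change MulAut.conj g • T = T ↔ _
    rw [mem_normalizer_iff]
    constructor
    · intro h a
      have h1 := smul_mem_pointwise_smul_iff (a := MulAut.conj g) (S := T) (x := a)
      rw [h] at h1
      exact h1.symm
    · intro h
      ext b
      rw [mem_pointwise_smul_iff_inv_smul_mem, h, ← map_inv]
      change g * (g⁻¹ * b * g⁻¹⁻¹) * g⁻¹ ∈ T ↔ b ∈ T
      rw [show g * (g⁻¹ * b * g⁻¹⁻¹) * g⁻¹ = b by group]
  have h2 : ({S : Subgroup X | ∃ g : X, MulAut.conj g • T = S} : Set (Subgroup X)) = MulAction.orbit X T := by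
    ext S
    rfl
  rw [h2, ← h1, MulAction.index_stabilizer]
  rfl

variable {T : Subgroup X}

omit [Finite X] in
theorem Iso.comm (h : Iso T) {a b : X} (ha : a ∈ T) (hb : b ∈ T) : a * b = b * a := by
  have := h.cyc
  have h1 := (IsCyclic.isMulCommutative (α := T)).is_comm.comm ⟨a, ha⟩ ⟨b, hb⟩
  exact congrArg Subtype.val h1

omit [Finite X] in
theorem Iso.centralizer_eq (h : Iso T) {z : X} (hz : z ∈ T) (hz1 : z ≠ 1) : centralizer ({z} : Set X) = T := by
  apply le_antisymm
  · intro g hg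
    rw [mem_centralizer_singleton_iff] at hg
    exact h.cent z hz hz1 g hg
  · intro g hg
    rw [mem_centralizer_singleton_iff]
    exact h.comm hg hz

omit [Finite X] in
theorem Iso.conj_mem (h : Iso T) {g z : X} (hz : z ∈ T) (hz1 : z ≠ 1) (hg : g * z * g⁻¹ ∈ T) {a : X} (ha : a ∈ T) :
    g * a * g⁻¹ ∈ T := by
  apply h.cent _ hg
  · intro h1
    exact hz1 (conj_eq_one_iff.1 h1)
  · rw [show g * a * g⁻¹ * (g * z * g⁻¹) = g * (a * z) * g⁻¹ by group, h.comm ha hz]
    group

omit [Finite X] in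
theorem Iso.mem_normalizer (h : Iso T) {g z : X} (hz : z ∈ T) (hz1 : z ≠ 1) (hg : g * z * g⁻¹ ∈ T) :
    g ∈ normalizer (T : Set X) := by
  rw [mem_normalizer_iff]
  intro a
  refine ⟨fun ha => h.conj_mem hz hz1 hg ha, fun ha => ?_⟩
  have h1 : g⁻¹ * (g * z * g⁻¹) * g⁻¹⁻¹ ∈ T := by
    rwa [show g⁻¹ * (g * z * g⁻¹) * g⁻¹⁻¹ = z by group]
  have h2 := h.conj_mem hg (fun h3 => hz1 (conj_eq_one_iff.1 h3)) h1 ha
  rwa [show g⁻¹ * (g * a * g⁻¹) * g⁻¹⁻¹ = a by group] at h2

/-- an `r`-subgroup is conjugate into `T` -/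
theorem Iso.exists_conj_le (h : Iso T) {r : ℕ} (hr : r.Prime) (hrt : r ∣ Nat.card T) {P : Subgroup X}
    (hP : IsPGroup r P) : ∃ g : X, ∀ y ∈ P, g * y * g⁻¹ ∈ T := by
  have : Fact r.Prime := ⟨hr⟩
  obtain ⟨P', hP'⟩ := hP.exists_le_sylow
  let Q : Sylow r T := default
  have hQ : Nat.card ((Q : Subgroup T).map T.subtype) = r ^ (Nat.card X).factorization r := by
    rw [card_map_of_injective T.subtype_injective, Q.card_eq_multiplicity]
    congr 1
    rw [← T.card_mul_index, Nat.factorization_mul Nat.card_pos.ne' T.index_ne_zero_of_finite, Finsupp.add_apply,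
      Nat.factorization_eq_zero_of_not_dvd (n := T.index), add_zero]
    intro h1
    exact hr.one_lt.ne' (Nat.dvd_one.1 (h.cop ▸ Nat.dvd_gcd hrt h1))
  let Q' : Sylow r X := Sylow.ofCard ((Q : Subgroup T).map T.subtype) hQ
  obtain ⟨g, hg⟩ := MulAction.exists_smul_eq X P' Q'
  refine ⟨g, fun y hy => ?_⟩
  have h1 : g * y * g⁻¹ ∈ (Q' : Subgroup X) := by
    rw [← hg]
    exact smul_mem_pointwise_smul y (MulAut.conj g) _ (hP' hy)
  exact map_subtype_le _ h1

theorem Iso.isCyclic_pgroup (h : Iso T) {r : ℕ} (hr : r.Prime) (hrt : r ∣ Nat.card T) {P : Subgroup X}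
    (hP : IsPGroup r P) : IsCyclic P := by
  obtain ⟨g, hg⟩ := h.exists_conj_le hr hrt hP
  have := h.cyc
  let f : P →* T :=
    { toFun := fun y => ⟨g * y * g⁻¹, hg y y.2⟩
      map_one' := Subtype.ext (by simp)
      map_mul' := fun a b => Subtype.ext (by
        change g * (a * b) * g⁻¹ = (g * a * g⁻¹) * (g * b * g⁻¹)
        group) }
  refine isCyclic_of_injective f fun a b hab => ?_
  have h1 : g * (a : X) * g⁻¹ = g * b * g⁻¹ := congrArg Subtype.val hab
  exact Subtype.ext (mul_left_cancel (mul_right_cancel h1))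

theorem Iso.exists_conj_mem (h : Iso T) {r : ℕ} (hr : r.Prime) (hrt : r ∣ Nat.card T) {x : X} (hx : r ∣ orderOf x) :
    ∃ g : X, g * x * g⁻¹ ∈ T := by
  have : Fact r.Prime := ⟨hr⟩
  have h0 : 0 < orderOf x := orderOf_pos x
  have hw : orderOf (x ^ (orderOf x / r)) = r := by
    rw [orderOf_pow_of_dvd (Nat.div_pos (Nat.le_of_dvd h0 hx) hr.pos).ne'
      (Nat.div_dvd_of_dvd hx), Nat.div_div_self hx h0.ne']
  set w := x ^ (orderOf x / r) with hw'
  have hP : IsPGroup r (zpowers w) := by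
    apply IsPGroup.of_card (n := 1)
    rw [Nat.card_zpowers, hw, pow_one]
  obtain ⟨g, hg⟩ := h.exists_conj_le hr hrt hP
  have h1 := hg w (mem_zpowers w)
  refine ⟨g, h.cent _ h1 ?_ _ ?_⟩
  · intro h2
    rw [conj_eq_one_iff.1 h2, orderOf_one] at hw
    exact hr.one_lt.ne hw
  · rw [show g * x * g⁻¹ * (g * w * g⁻¹) = g * (x * w) * g⁻¹ by group,
      show g * w * g⁻¹ * (g * x * g⁻¹) = g * (w * x) * g⁻¹ by group, hw', ← pow_succ, ← pow_succ']

/-- the elements of order `|T|` are the generators of the conjugates of `T` -/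
theorem Iso.exists_conj_zpowers (h : Iso T) {x : X} (hx : orderOf x = Nat.card T) :
    ∃ g : X, MulAut.conj g • T = zpowers x := by
  have h1 := h.one_lt
  have hrp := Nat.minFac_prime h1.ne'
  have hrt := Nat.minFac_dvd (Nat.card T)
  obtain ⟨g, hg⟩ := h.exists_conj_mem hrp hrt (x := x) (by rw [hx]; exact hrt)
  refine ⟨g⁻¹, ?_⟩
  symm
  apply eq_of_le_of_card_ge
  · rw [zpowers_le, mem_pointwise_smul_iff_inv_smul_mem, ← map_inv, inv_inv]
    exact hg
  · rw [Nat.card_zpowers, hx]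
    exact (Nat.card_congr (equivSMul (MulAut.conj g⁻¹) T).toEquiv).ge

/-- the count -/
theorem Iso.card_orderOf (h : Iso T) :
    Nat.card {x : X // orderOf x = Nat.card T} = Nat.totient (Nat.card T) * (normalizer (T : Set X)).index := by
  have h1 := Cfsg.Agent.H496.CyclicCount.card_eq_totient_mul (G := X) (d := Nat.card T) {x | orderOf x = Nat.card T}
    (fun y hy => hy) (by
      intro y hy y' hy'
      change orderOf y' = Nat.card T
      rw [← Nat.card_zpowers, hy', Nat.card_zpowers]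
      exact hy)
  change Nat.card {x : X | orderOf x = Nat.card T} = _
  rw [h1]
  congr 1
  have h2 : (zpowers '' {x : X | orderOf x = Nat.card T} : Set (Subgroup X)) =
      {S : Subgroup X | ∃ g : X, MulAut.conj g • T = S} := by
    ext S
    constructor
    · rintro ⟨x, hx, rfl⟩
      exact h.exists_conj_zpowers hx
    · rintro ⟨g, rfl⟩
      have := h.cyc
      obtain ⟨⟨x, hx⟩, hgen⟩ := IsCyclic.exists_generator (α := T)
      have h3 : zpowers x = T := by
        apply le_antisymm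
        · rwa [zpowers_le]
        · intro y hy
          obtain ⟨i, hi⟩ := mem_zpowers_iff.1 (hgen ⟨y, hy⟩)
          exact mem_zpowers_iff.2 ⟨i, congrArg Subtype.val hi⟩
      refine ⟨g * x * g⁻¹, ?_, ?_⟩
      · change orderOf _ = _
        rw [← h3, Nat.card_zpowers]
        exact orderOf_injective (MulAut.conj g).toMonoidHom (MulAut.conj g).injective x
      · rw [← h3]
        change zpowers (MulAut.conj g x) = (zpowers x).map (MulAut.conj g).toMonoidHom
        rw [MonoidHom.map_zpowers]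
        rfl
  rw [h2]
  exact card_conj_eq T

/-- a prime order element of `T` -/
theorem Iso.exists_prime (_ : Iso T) {r : ℕ} (hr : r.Prime) (hrt : r ∣ Nat.card T) :
    ∃ z ∈ T, orderOf z = r ∧ z ≠ 1 := by
  have : Fact r.Prime := ⟨hr⟩
  obtain ⟨u, hu⟩ := exists_prime_orderOf_dvd_card' (G := T) r hrt
  refine ⟨u, u.2, by rw [orderOf_coe, hu], ?_⟩
  intro h1
  rw [← orderOf_coe, h1, orderOf_one] at hu
  exact hr.one_lt.ne hu

/-- the unique subgroup of prime order in `T` -/
theorem Iso.zpowers_eq (h : Iso T) {r : ℕ} {x y : X} (hx : x ∈ T) (hy : y ∈ T)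
    (hx1 : orderOf x = r) (hy1 : orderOf y = r) : zpowers x = zpowers y := by
  apply OddOrderLocal.CyclicSub.eq_of_card_eq_of_le_cyclic h.cyc
  · rwa [zpowers_le]
  · rwa [zpowers_le]
  · rw [Nat.card_zpowers, Nat.card_zpowers, hx1, hy1]

/-- the normalizer of the subgroup of order `r` of `T` is the normalizer of `T` -/
theorem Iso.normalizer_zpowers (h : Iso T) {r : ℕ} (hr : r.Prime) {z : X} (hz : z ∈ T) (hz1 : orderOf z = r) :
    normalizer (zpowers z : Set X) = normalizer (T : Set X) := by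
  have hz2 : z ≠ 1 := by
    rintro rfl
    rw [orderOf_one] at hz1
    exact hr.one_lt.ne hz1
  ext g
  constructor
  · intro hg
    rw [mem_normalizer_iff] at hg
    have h1 := (hg z).1 (mem_zpowers z)
    refine h.mem_normalizer hz hz2 ?_
    have h2 : zpowers z ≤ T := by rwa [zpowers_le]
    exact h2 h1
  · intro hg
    have hg1 : ∀ g ∈ normalizer (T : Set X), ∀ a ∈ zpowers z, g * a * g⁻¹ ∈ zpowers z := by
      intro g hg a ha
      rw [mem_normalizer_iff] at hg
      have h1 := h.zpowers_eq hz ((hg z).1 hz) hz1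
        ((orderOf_injective (MulAut.conj g).toMonoidHom (MulAut.conj g).injective z).trans hz1)
      obtain ⟨i, rfl⟩ := mem_zpowers_iff.1 ha
      have h2 : g * z * g⁻¹ ∈ zpowers z := by
        rw [h1]
        exact mem_zpowers _
      have h3 : g * z ^ i * g⁻¹ = (g * z * g⁻¹) ^ i := by
        rw [← conj_zpow]
      rw [h3]
      exact zpow_mem h2 i
    rw [mem_normalizer_iff]
    intro a
    refine ⟨hg1 g hg a, fun ha => ?_⟩
    have := hg1 g⁻¹ (inv_mem hg) _ ha
    rwa [show g⁻¹ * (g * a * g⁻¹) * g⁻¹⁻¹ = a by group] at this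

/-- the automizer is a subgroup of the units mod `r` -/
theorem Iso.exists_hom (h : Iso T) {r : ℕ} (hr : r.Prime) (hrt : r ∣ Nat.card T) :
    ∃ (z : X) (_ : orderOf z = r) (f : normalizer (T : Set X) →* MulAut (zpowers z)),
      f.ker = T.subgroupOf (normalizer (T : Set X)) := by
  obtain ⟨z, hz, hz1, hz2⟩ := h.exists_prime hr hrt
  refine ⟨z, hz1, (zpowers z).normalizerMonoidHom.comp (MulEquiv.subgroupCongr
    (h.normalizer_zpowers hr hz hz1).symm).toMonoidHom, ?_⟩
  ext ⟨g, hg⟩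
  rw [mem_subgroupOf, MonoidHom.mem_ker, MonoidHom.comp_apply, ← MonoidHom.mem_ker,
    normalizerMonoidHom_ker, mem_subgroupOf]
  change g ∈ centralizer (zpowers z : Set X) ↔ g ∈ T
  rw [← h.centralizer_eq hz hz2]
  rw [mem_centralizer_iff, mem_centralizer_singleton_iff]
  constructor
  · intro h1
    exact (h1 z (mem_zpowers z)).symm
  · intro h1 a ha
    obtain ⟨i, rfl⟩ := mem_zpowers_iff.1 ha
    exact ((show Commute g z from h1).zpow_right i).symm

theorem Iso.relIndex_dvd (h : Iso T) {r : ℕ} (hr : r.Prime) (hrt : r ∣ Nat.card T) :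
    T.relIndex (normalizer (T : Set X)) ∣ r - 1 := by
  obtain ⟨z, hz, f, hf⟩ := h.exists_hom hr hrt
  have h1 : T.relIndex (normalizer (T : Set X)) = Nat.card f.range := by
    rw [relIndex, ← hf, index_ker]
  rw [h1, ← Nat.totient_prime hr, ← hz, ← Nat.card_zpowers, ← IsCyclic.card_mulAut]
  exact card_subgroup_dvd_card _

theorem Iso.isCyclic_of_disjoint (h : Iso T) {Q : Subgroup X} (hQ : Q ≤ normalizer (T : Set X)) (hQT : Q ⊓ T = ⊥) :
    IsCyclic Q := by
  have hr := Nat.minFac_prime h.one_lt.ne'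
  obtain ⟨z, hz, f, hf⟩ := h.exists_hom hr (Nat.minFac_dvd _)
  have : Fact (Nat.card (zpowers z)).Prime := ⟨by rwa [Nat.card_zpowers, hz]⟩
  have h1 : IsCyclic (MulAut (zpowers z)) :=
    isCyclic_of_injective (IsCyclic.mulAutMulEquiv (zpowers z)).toMonoidHom
      (IsCyclic.mulAutMulEquiv (zpowers z)).injective
  refine isCyclic_of_injective (f.comp (inclusion hQ)) ?_
  rw [injective_iff_map_eq_one]
  intro a ha
  have h2 : inclusion hQ a ∈ f.ker := ha
  rw [hf, mem_subgroupOf] at h2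
  have h3 : (a : X) ∈ Q ⊓ T := ⟨a.2, h2⟩
  rw [hQT, mem_bot] at h3
  exact Subtype.ext h3

end Cfsg.Agent.H702.TF
end

-- part: H702/IsoQuot
section
/-!
# Isolated cyclic Hall subgroups: quotients by normal subgroups of coprime order (helper702)
-/

set_option autoImplicit false

namespace Cfsg.Agent.H702.TF

open Subgroup
open scoped Pointwise

variable {X : Type*} [Group X] [Finite X]

omit [Finite X] in
theorem mk_injOn {V H : Subgroup X} [V.Normal] (hH : H ⊓ V = ⊥) {a b : X} (ha : a ∈ H) (hb : b ∈ H)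
    (hab : (QuotientGroup.mk' V a) = QuotientGroup.mk' V b) : a = b := by
  have h1 : a⁻¹ * b ∈ V := QuotientGroup.eq.1 hab
  have h2 : a⁻¹ * b ∈ H ⊓ V := ⟨H.mul_mem (H.inv_mem ha) hb, h1⟩
  rw [hH, mem_bot] at h2
  exact (inv_mul_eq_one.1 h2)

omit [Finite X] in
theorem card_map_mk {V H : Subgroup X} [V.Normal] (hH : H ⊓ V = ⊥) :
    Nat.card (H.map (QuotientGroup.mk' V)) = Nat.card H := by
  symm
  refine Nat.card_congr (Equiv.ofBijective
    (fun a : H => (⟨QuotientGroup.mk' V a, mem_map_of_mem _ a.2⟩ : H.map (QuotientGroup.mk' V))) ⟨?_, ?_⟩)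
  · intro a b hab
    exact Subtype.ext (mk_injOn hH a.2 b.2 (congrArg Subtype.val hab))
  · rintro ⟨_, a, ha, rfl⟩
    exact ⟨⟨a, ha⟩, rfl⟩

variable {T : Subgroup X}

omit [Finite X] in
theorem Iso.inf_eq_bot {V : Subgroup X} (hV : (Nat.card V).Coprime (Nat.card T)) : V ⊓ T = ⊥ := by
  rw [eq_bot_iff_card]
  exact Nat.dvd_one.1 (hV ▸ Nat.dvd_gcd (card_dvd_of_le inf_le_left) (card_dvd_of_le inf_le_right))

/-- elements of `V` as commutators -/
theorem Iso.exists_conj (h : Iso T) {V : Subgroup X} [hn : V.Normal] (hV : (Nat.card V).Coprime (Nat.card T)) {z : X}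
    (hz : z ∈ T) (hz1 : z ≠ 1) {w : X} (hw : w ∈ V) : ∃ v ∈ V, w * z = v * z * v⁻¹ := by
  let f : V → V := fun v => ⟨v * (z * (v : X)⁻¹ * z⁻¹), mul_mem v.2 (hn.conj_mem _ (inv_mem v.2) z)⟩
  have hf : Function.Injective f := by
    intro a b hab
    have h1 : (a : X) * (z * (a : X)⁻¹ * z⁻¹) = b * (z * (b : X)⁻¹ * z⁻¹) := congrArg Subtype.val hab
    have h2 : (b : X)⁻¹ * a ∈ T := by
      apply h.cent z hz hz1
      have h3 : (a : X) * z * (a : X)⁻¹ = b * z * (b : X)⁻¹ := by
        apply mul_right_cancel (b := z⁻¹)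
        simpa only [mul_assoc] using h1
      calc (b : X)⁻¹ * a * z = (b : X)⁻¹ * ((a : X) * z * (a : X)⁻¹) * a := by group
        _ = (b : X)⁻¹ * ((b : X) * z * (b : X)⁻¹) * a := by rw [h3]
        _ = z * ((b : X)⁻¹ * a) := by group
    have h4 : (b : X)⁻¹ * a ∈ V ⊓ T := ⟨V.mul_mem (V.inv_mem b.2) a.2, h2⟩
    rw [Iso.inf_eq_bot hV, mem_bot] at h4
    exact Subtype.ext (inv_mul_eq_one.1 h4).symm
  obtain ⟨v, hv⟩ := (Finite.surjective_of_injective hf) ⟨w, hw⟩
  refine ⟨v, v.2, ?_⟩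
  have h1 : (v : X) * (z * (v : X)⁻¹ * z⁻¹) = w := congrArg Subtype.val hv
  rw [← h1]
  group

theorem Iso.exists_factor (h : Iso T) {V : Subgroup X} [hn : V.Normal] (hV : (Nat.card V).Coprime (Nat.card T))
    {g z u : X} (hz : z ∈ T) (hz1 : z ≠ 1) (hu : u ∈ T)
    (hg : QuotientGroup.mk' V (g * z * g⁻¹) = QuotientGroup.mk' V u) :
    ∃ v ∈ V, (v⁻¹ * g) * z * (v⁻¹ * g)⁻¹ = u := by
  have h1 : (g * z * g⁻¹) * u⁻¹ ∈ V := by
    rw [← QuotientGroup.eq_one_iff]
    change QuotientGroup.mk' V ((g * z * g⁻¹) * u⁻¹) = 1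
    rw [map_mul, hg, map_inv, mul_inv_cancel]
  have hu1 : u ≠ 1 := by
    rintro rfl
    rw [map_one, ← map_one (QuotientGroup.mk' V)] at hg
    have h2 : g * z * g⁻¹ ∈ V := by
      rw [← QuotientGroup.eq_one_iff]
      exact hg
    have h3 : z ∈ V := by
      have := hn.conj_mem _ h2 g⁻¹
      rwa [show g⁻¹ * (g * z * g⁻¹) * g⁻¹⁻¹ = z by group] at this
    have h4 : z ∈ V ⊓ T := ⟨h3, hz⟩
    rw [Iso.inf_eq_bot hV, mem_bot] at h4
    exact hz1 h4
  obtain ⟨v, hv, hv1⟩ := h.exists_conj hV hu hu1 h1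
  refine ⟨v, hv, ?_⟩
  have h2 : g * z * g⁻¹ = v * u * v⁻¹ := by
    rw [← hv1]
    group
  calc (v⁻¹ * g) * z * (v⁻¹ * g)⁻¹ = v⁻¹ * (g * z * g⁻¹) * v := by group
    _ = v⁻¹ * (v * u * v⁻¹) * v := by rw [h2]
    _ = u := by group

theorem Iso.quot (h : Iso T) {V : Subgroup X} [hn : V.Normal] (hV : (Nat.card V).Coprime (Nat.card T)) :
    Iso (T.map (QuotientGroup.mk' V)) := by
  have hTV : T ⊓ V = ⊥ := by rw [inf_comm, Iso.inf_eq_bot hV]
  have hcard := card_map_mk hTV
  have := h.cyc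
  constructor
  · exact isCyclic_of_surjective ((QuotientGroup.mk' V).subgroupMap T) ((QuotientGroup.mk' V).subgroupMap_surjective T)
  · rw [hcard]
    exact h.odd
  · rw [hcard]
    exact h.one_lt
  · rw [hcard]
    refine Nat.Coprime.coprime_dvd_right ?_ h.cop
    rw [index_map, (QuotientGroup.mk' V).range_eq_top_of_surjective (QuotientGroup.mk'_surjective V), index_top, mul_one]
    exact index_dvd_of_le le_sup_left
  · rintro _ ⟨z, hz, rfl⟩ hz1 g' hg
    obtain ⟨g, rfl⟩ := QuotientGroup.mk'_surjective V g'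
    have hz2 : z ≠ 1 := by
      rintro rfl
      exact hz1 (map_one _)
    obtain ⟨v, hv, hv1⟩ := h.exists_factor hV (g := g) hz hz2 hz (by
      rw [map_mul, map_mul, hg, map_inv, mul_assoc, mul_inv_cancel, mul_one])
    have h1 : v⁻¹ * g ∈ T := h.cent z hz hz2 _ (mul_inv_eq_iff_eq_mul.1 hv1)
    refine ⟨v⁻¹ * g, h1, ?_⟩
    have h2 : QuotientGroup.mk' V v = 1 := (QuotientGroup.eq_one_iff v).2 hv
    rw [map_mul, map_inv, h2, inv_one, one_mul]

theorem Iso.normalizer_quot (h : Iso T) {V : Subgroup X} [hn : V.Normal] (hV : (Nat.card V).Coprime (Nat.card T)) :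
    normalizer (T.map (QuotientGroup.mk' V) : Set (X ⧸ V)) = (normalizer (T : Set X)).map (QuotientGroup.mk' V) := by
  apply le_antisymm
  · intro g' hg
    obtain ⟨g, rfl⟩ := QuotientGroup.mk'_surjective V g'
    obtain ⟨z, hz, -, hz1⟩ := h.exists_prime (Nat.minFac_prime h.one_lt.ne') (Nat.minFac_dvd _)
    rw [mem_normalizer_iff] at hg
    obtain ⟨u, hu, hu1⟩ := (hg (QuotientGroup.mk' V z)).1 (mem_map_of_mem _ hz)
    obtain ⟨v, hv, hv1⟩ := h.exists_factor hV (g := g) hz hz1 hu (by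
      rw [map_mul, map_mul, map_inv, hu1])
    refine ⟨v⁻¹ * g, h.mem_normalizer hz hz1 (by rw [hv1]; exact hu), ?_⟩
    have h2 : QuotientGroup.mk' V v = 1 := (QuotientGroup.eq_one_iff v).2 hv
    rw [map_mul, map_inv, h2, inv_one, one_mul]
  · exact le_normalizer_map _

theorem Iso.normalizer_inf (h : Iso T) {V : Subgroup X} [hn : V.Normal]
    (hV : (Nat.card V).Coprime (Nat.card T)) : normalizer (T : Set X) ⊓ V = ⊥ := by
  rw [eq_bot_iff]
  rintro n ⟨hn1, hn2⟩
  obtain ⟨z, hz, -, hz1⟩ := h.exists_prime (Nat.minFac_prime h.one_lt.ne') (Nat.minFac_dvd _)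
  have h1 : n * z * n⁻¹ ∈ T := (mem_normalizer_iff.1 hn1 z).1 hz
  have h2 : n * (z * n⁻¹ * z⁻¹) ∈ V ⊓ T := by
    refine ⟨V.mul_mem hn2 (hn.conj_mem _ (V.inv_mem hn2) z), ?_⟩
    have := T.mul_mem h1 (T.inv_mem hz)
    rwa [show n * z * n⁻¹ * z⁻¹ = n * (z * n⁻¹ * z⁻¹) by group] at this
  rw [Iso.inf_eq_bot hV, mem_bot] at h2
  have h3 : n ∈ T := by
    apply h.cent z hz hz1
    have h4 : n * z * n⁻¹ * z⁻¹ = 1 := by
      rw [← h2]
      group
    exact mul_inv_eq_iff_eq_mul.1 (mul_inv_eq_one.1 h4)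
  have h4 : n ∈ V ⊓ T := ⟨hn2, h3⟩
  rwa [Iso.inf_eq_bot hV] at h4

theorem Iso.card_normalizer_quot (h : Iso T) {V : Subgroup X} [hn : V.Normal]
    (hV : (Nat.card V).Coprime (Nat.card T)) :
    Nat.card (normalizer (T.map (QuotientGroup.mk' V) : Set (X ⧸ V))) = Nat.card (normalizer (T : Set X)) := by
  rw [h.normalizer_quot hV, card_map_mk (h.normalizer_inf hV)]

end Cfsg.Agent.H702.TF
end

-- part: H702/Pow
section
/-!
# Isolated cyclic Hall subgroups: normal subgroups of coprime order (helper702)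
-/

set_option autoImplicit false

namespace Cfsg.Agent.H702.TF

open Subgroup Cfsg
open scoped Pointwise

/-- the kernel of a Frobenius group given by a complement -/
theorem frob_of {F : Type*} [Group F] [Finite F] (K H : Subgroup F) [K.Normal] (hc : IsComplement' K H) (hK : K ≠ ⊥)
    (hH : H ≠ ⊥) (hfpf : ∀ h ∈ H, h ≠ 1 → K ⊓ centralizer {h} = ⊥) :
    IsFrobeniusComplement H ∧ frobeniusKernel H = (K : Set F) := by
  have h1 := (Cfsg.Agent.S0039.result K H hc hK hH).2 hfpf
  refine ⟨h1, ?_⟩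
  obtain ⟨N, hN, -, hNc⟩ := Cfsg.Agent.S0035.result H h1
  rw [← hN]
  have hle : K ≤ N := by
    intro x hx
    rw [← SetLike.mem_coe, hN]
    by_cases hx1 : x = 1
    · exact Or.inl hx1
    · refine Or.inr fun g hg => hx1 ?_
      rw [mem_pointwise_smul_iff_inv_smul_mem] at hg
      have h2 : (MulAut.conj g)⁻¹ • x ∈ K := by
        rw [← map_inv]
        exact Normal.conj_mem inferInstance x hx g⁻¹
      have h3 : (MulAut.conj g)⁻¹ • x ∈ K ⊓ H := ⟨h2, hg⟩
      rw [hc.disjoint.eq_bot, mem_bot, ← map_inv, MulAut.smul_def, MulAut.conj_apply] at h3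
      exact conj_eq_one_iff.1 h3
  have h4 : K = N := by
    apply eq_of_le_of_card_ge hle
    rw [← hNc.index_eq_card, hc.index_eq_card]
  rw [h4]

variable {X : Type*} [Group X] [Finite X] {T : Subgroup X}

omit [Finite X] in
theorem isComplement_sup {V : Subgroup X} [V.Normal] (hVT : V ⊓ T = ⊥) :
    IsComplement' (V.subgroupOf (V ⊔ T)) (T.subgroupOf (V ⊔ T)) := by
  apply isComplement'_of_disjoint_and_mul_eq_univ
  · rw [disjoint_iff, eq_bot_iff]
    rintro x ⟨h1, h2⟩
    have h3 : (x : X) ∈ V ⊓ T := ⟨h1, h2⟩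
    rw [hVT, mem_bot] at h3
    exact Subtype.ext h3
  · ext x
    simp only [Set.mem_univ, iff_true]
    have hx := x.2
    rw [← SetLike.mem_coe, normal_mul V T] at hx
    obtain ⟨v, hv, a, ha, hva⟩ := hx
    exact ⟨⟨v, le_sup_left (b := T) hv⟩, hv, ⟨a, le_sup_right (a := V) ha⟩, ha, Subtype.ext hva⟩

/-- the Frobenius group `V T` -/
theorem Iso.frob (h : Iso T) {V : Subgroup X} [V.Normal] (hV : (Nat.card V).Coprime (Nat.card T)) (hV1 : V ≠ ⊥) :
    IsFrobeniusComplement (T.subgroupOf (V ⊔ T)) ∧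
      frobeniusKernel (T.subgroupOf (V ⊔ T)) = (V.subgroupOf (V ⊔ T) : Set ↥(V ⊔ T)) := by
  apply frob_of
  · exact isComplement_sup (Iso.inf_eq_bot hV)
  · rw [Ne, subgroupOf_eq_bot, disjoint_iff, inf_eq_left.2 le_sup_left]
    exact hV1
  · rw [Ne, subgroupOf_eq_bot, disjoint_iff, inf_eq_left.2 le_sup_right]
    rintro rfl
    have := h.one_lt
    rw [card_bot] at this
    omega
  · rintro ⟨z, hz⟩ hz1 hz2
    rw [eq_bot_iff]
    rintro ⟨v, hv⟩ ⟨hv1, hv2⟩
    have h1 : v ∈ T := h.cent z hz1 (fun h3 => hz2 (Subtype.ext h3)) v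
      (congrArg Subtype.val (mem_centralizer_singleton_iff.1 hv2))
    have h2 : v ∈ V ⊓ T := ⟨hv1, h1⟩
    rw [Iso.inf_eq_bot hV, mem_bot] at h2
    exact Subtype.ext h2

/-- `V` is nilpotent -/
theorem Iso.isNilpotent (h : Iso T) {V : Subgroup X} [V.Normal] (hV : (Nat.card V).Coprime (Nat.card T)) :
    Group.IsNilpotent V := by
  by_cases hV1 : V = ⊥
  · subst hV1
    infer_instance
  obtain ⟨h1, h2⟩ := h.frob hV hV1
  obtain ⟨N, hN, -, hNnil⟩ := Cfsg.Agent.S0042.result _ h1
  have h3 : N = V.subgroupOf (V ⊔ T) := SetLike.coe_injective (hN.trans h2)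
  subst h3
  exact (Group.isNilpotent_congr (subgroupOfEquivOfLe (le_sup_left : V ≤ V ⊔ T))).1 hNnil

omit [Finite X] in
/-- a complement of `T` in its normalizer -/
theorem Iso.exists_compl (h : Iso T) : ∃ R : Subgroup X, R ≤ normalizer (T : Set X) ∧ R ⊓ T = ⊥ ∧
    Nat.card R = T.relIndex (normalizer (T : Set X)) := by
  have hcop : (Nat.card (T.subgroupOf (normalizer (T : Set X)))).Coprime
      (T.subgroupOf (normalizer (T : Set X))).index := by
    rw [Nat.card_congr (subgroupOfEquivOfLe (le_normalizer (H := T))).toEquiv]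
    refine Nat.Coprime.coprime_dvd_right ?_ h.cop
    exact relIndex_dvd_index_of_le le_normalizer
  obtain ⟨R, hR⟩ := exists_right_complement'_of_coprime hcop
  refine ⟨R.map (normalizer (T : Set X)).subtype, map_subtype_le _, ?_, ?_⟩
  · rw [eq_bot_iff]
    rintro _ ⟨⟨x, hx, rfl⟩, hx2⟩
    have h1 : x ∈ T.subgroupOf (normalizer (T : Set X)) ⊓ R := ⟨hx2, hx⟩
    rw [hR.disjoint.eq_bot, mem_bot] at h1
    rw [h1]
    rfl
  · rw [card_map_of_injective (subtype_injective _), ← hR.symm.index_eq_card]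
    rfl

/-- `|V|` is a power with exponent `|N(T) : T|` -/
theorem Iso.exists_pow (h : Iso T) {V : Subgroup X} [V.Normal] (hV : (Nat.card V).Coprime (Nat.card T)) :
    ∃ y, Nat.card V = y ^ (T.relIndex (normalizer (T : Set X))) := by
  obtain ⟨R, hRN, hRT, hR⟩ := h.exists_compl
  have hnil := h.isNilpotent hV
  have := h.cyc
  let _ : MulDistribMulAction X V := MulDistribMulAction.compHom V (MulAut.conjNormal : X →* MulAut V)
  have hp : Cfsg.Agent.H522.FrobPair T R := by
    constructor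
    · intro r hr f hf
      exact (mem_normalizer_iff.1 (hRN hr) f).1 hf
    · intro r hr hr1 f hf hrf
      by_contra hf1
      have h1 : r ∈ R ⊓ T := ⟨hr, h.cent f hf hf1 r hrf⟩
      rw [hRT, mem_bot] at h1
      exact hr1 h1
  have hTnil : Group.IsNilpotent T :=
    ⟨1, (Subgroup.upperCentralSeries_one_eq_top_iff).2 (IsCyclic.isMulCommutative (α := T))⟩
  rw [← hR]
  refine ⟨_, Cfsg.Agent.H864.FrobOrder.card_eq hp hTnil (Nat.card V) V le_rfl inferInstance ?_⟩
  intro v hv
  obtain ⟨z, hz, -, hz1⟩ := h.exists_prime (Nat.minFac_prime h.one_lt.ne') (Nat.minFac_dvd _)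
  have h1 : z * v * z⁻¹ = v := congrArg Subtype.val (hv z hz)
  have h2 : (v : X) ∈ V ⊓ T := ⟨v.2, h.cent z hz hz1 _ (mul_inv_eq_iff_eq_mul.1 h1).symm⟩
  rw [Iso.inf_eq_bot hV, mem_bot] at h2
  exact Subtype.ext h2

theorem Iso.modEq (h : Iso T) {V : Subgroup X} [V.Normal] (hV : (Nat.card V).Coprime (Nat.card T)) :
    Nat.card T ∣ Nat.card V - 1 := by
  by_cases hV1 : V = ⊥
  · rw [hV1, card_bot]
    exact dvd_zero _
  have h1 := (Cfsg.Agent.S0034.result _ (h.frob hV hV1).1).2
  have h2 : (T.subgroupOf (V ⊔ T)).index = Nat.card V := by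
    rw [(isComplement_sup (Iso.inf_eq_bot hV)).index_eq_card]
    exact Nat.card_congr (subgroupOfEquivOfLe (le_sup_left : V ≤ V ⊔ T)).toEquiv
  rw [h2, Nat.card_congr (subgroupOfEquivOfLe (le_sup_right : T ≤ V ⊔ T)).toEquiv] at h1
  exact (Nat.modEq_iff_dvd' Nat.card_pos).1 (Eq.symm h1)

/-- the `s`-part of `|V|` is `1` modulo `|T|` -/
theorem Iso.dvd_fac (h : Iso T) {V : Subgroup X} [V.Normal] (hV : (Nat.card V).Coprime (Nat.card T)) {s : ℕ}
    (hs : s.Prime) : Nat.card T ∣ s ^ (Nat.card V).factorization s - 1 := by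
  have : Fact s.Prime := ⟨hs⟩
  have hnil := h.isNilpotent hV
  let P : Sylow s V := default
  have hP : (P : Subgroup V).Normal := by
    have := (Group.isNilpotent_of_finite_tfae (G := V)).out 0 3
    exact this.1 hnil s ‹_› P
  have hPc := P.characteristic_of_normal hP
  have h1 : Nat.card ((P : Subgroup V).map V.subtype) = s ^ (Nat.card V).factorization s := by
    rw [card_map_of_injective V.subtype_injective, P.card_eq_multiplicity]
  rw [← h1]
  apply h.modEq
  exact Nat.Coprime.coprime_dvd_left (card_dvd_of_le (map_subtype_le _)) hV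

end Cfsg.Agent.H702.TF
end

-- part: H702/Simple
section
/-!
# Isolated cyclic Hall subgroups: the simple normal subgroup (helper702)
-/

set_option autoImplicit false

namespace Cfsg.Agent.H702.TF

open Subgroup Cfsg
open scoped Pointwise

/-! ### the largest normal subgroup of order coprime to `t` -/

/-- the largest normal subgroup of order coprime to `t` -/
def Ot (t : ℕ) (G : Type*) [Group G] : Subgroup G := sSup {N : Subgroup G | N.Normal ∧ (Nat.card N).Coprime t}

theorem le_Ot {t : ℕ} {G : Type*} [Group G] {N : Subgroup G} (hN : N.Normal) (h : (Nat.card N).Coprime t) :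
    N ≤ Ot t G := le_sSup ⟨hN, h⟩

theorem Ot_char (t : ℕ) (G : Type*) [Group G] : (Ot t G).Characteristic := by
  apply Lib.Cores.sSup_characteristic
  rintro e N ⟨h1, h2⟩
  refine ⟨h1.map _ e.surjective, ?_⟩
  rwa [card_map_of_injective e.injective]

theorem card_sup_dvd {G : Type*} [Group G] (A B : Subgroup G) [A.Normal] :
    Nat.card ↥(A ⊔ B) ∣ Nat.card A * Nat.card B := by
  have h2 : Nat.card A * A.relIndex (A ⊔ B) = Nat.card ↥(A ⊔ B) := by
    rw [← Nat.card_congr (subgroupOfEquivOfLe (le_sup_left : A ≤ A ⊔ B)).toEquiv]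
    exact card_mul_index _
  rw [← h2, relIndex_sup_left]
  exact Nat.mul_dvd_mul_left _ (relIndex_dvd_card _ _)

theorem closure_normal_of {G : Type*} [Group G] {s : Set G} (h : ∀ g : G, ∀ x ∈ s, g * x * g⁻¹ ∈ s) :
    (closure s).Normal := by
  refine ⟨fun n hn g => ?_⟩
  induction hn using closure_induction with
  | mem x hx => exact subset_closure (h g x hx)
  | one => simp
  | mul x y _ _ hx hy =>
    have := (closure s).mul_mem hx hy
    rwa [show g * x * g⁻¹ * (g * y * g⁻¹) = g * (x * y) * g⁻¹ by group] at this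
  | inv x _ hx =>
    have := (closure s).inv_mem hx
    rwa [show (g * x * g⁻¹)⁻¹ = g * x⁻¹ * g⁻¹ by group] at this

instance Ot_normal (t : ℕ) (G : Type*) [Group G] : (Ot t G).Normal := by
  have := Ot_char t G
  infer_instance

theorem Ot_coprime (t : ℕ) (G : Type*) [Group G] [Finite G] : (Nat.card (Ot t G)).Coprime t := by
  have h : (Ot t G).Normal ∧ (Nat.card (Ot t G)).Coprime t := by
    unfold Ot
    refine Lib.Cores.sSup_induction_of_finite (P := fun N => N.Normal ∧ (Nat.card N).Coprime t) _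
      ⟨inferInstance, by rw [card_bot]; exact Nat.coprime_one_left t⟩ (fun N hN => hN) ?_
    rintro A B ⟨hA1, hA2⟩ ⟨hB1, hB2⟩
    refine ⟨inferInstance, ?_⟩
    have h1 : Nat.card ↥(A ⊔ B) ∣ Nat.card A * Nat.card B := card_sup_dvd A B
    exact Nat.Coprime.coprime_dvd_left h1 (Nat.Coprime.mul_left hA2 hB2)
  exact h.2

variable {X : Type*} [Group X] [Finite X] {T : Subgroup X}

/-- elements of order `r` of a subgroup `M` are fused in `M` up to powers -/
theorem Iso.fuse (h : Iso T) {r : ℕ} (hr : r.Prime) (hrt : r ∣ Nat.card T) (M : Subgroup X) {x y : X} (hx : x ∈ M)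
    (hy : y ∈ M) (hx1 : orderOf x = r) (hy1 : orderOf y = r) :
    ∃ g ∈ M, zpowers x = zpowers (g * y * g⁻¹) := by
  have : Fact r.Prime := ⟨hr⟩
  have hP1 : IsPGroup r (zpowers (⟨x, hx⟩ : M)) := by
    apply IsPGroup.of_card (n := 1)
    rw [Nat.card_zpowers, ← orderOf_coe, pow_one, hx1]
  have hQ1 : IsPGroup r (zpowers (⟨y, hy⟩ : M)) := by
    apply IsPGroup.of_card (n := 1)
    rw [Nat.card_zpowers, ← orderOf_coe, pow_one, hy1]
  obtain ⟨P, hP⟩ := hP1.exists_le_sylow
  obtain ⟨Q, hQ⟩ := hQ1.exists_le_sylow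
  obtain ⟨g, hg⟩ := MulAction.exists_smul_eq M Q P
  refine ⟨g, g.2, ?_⟩
  have hc : IsCyclic ((P : Subgroup M).map M.subtype) :=
    h.isCyclic_pgroup hr hrt (P.isPGroup'.map M.subtype)
  apply OddOrderLocal.CyclicSub.eq_of_card_eq_of_le_cyclic hc
  · rw [zpowers_le]
    exact ⟨⟨x, hx⟩, hP (mem_zpowers _), rfl⟩
  · rw [zpowers_le]
    refine ⟨g * ⟨y, hy⟩ * g⁻¹, ?_, rfl⟩
    rw [SetLike.mem_coe, ← hg]
    exact smul_mem_pointwise_smul _ (MulAut.conj g) _ (hQ (mem_zpowers _))
  · rw [Nat.card_zpowers, Nat.card_zpowers, hx1]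
    exact ((orderOf_injective (MulAut.conj (g : X)).toMonoidHom (MulAut.conj (g : X)).injective y).trans hy1).symm

/-- **the simple normal subgroup** -/
theorem Iso.exists_simple (h : Iso T) (hO : ∀ N : Subgroup X, N.Normal → (Nat.card N).Coprime (Nat.card T) → N = ⊥)
    (hTn : ¬ T.Normal) :
    ∃ S : Subgroup X, S.Normal ∧ IsSimpleGroup S ∧ (¬ ∀ a b : S, a * b = b * a) ∧
      ∃ r : ℕ, r.Prime ∧ r ∣ Nat.card T ∧ r ∣ Nat.card S := by
  -- a minimal normal subgroup
  obtain ⟨M, ⟨hMn, hM1⟩, hMmin⟩ := (Set.toFinite {N : Subgroup X | N.Normal ∧ N ≠ ⊥}).exists_minimal ⟨⊤, by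
    refine ⟨inferInstance, ?_⟩
    intro h1
    have h2 := h.one_lt
    have h3 : T = ⊥ := le_bot_iff.1 (h1 ▸ le_top)
    rw [h3, card_bot] at h2
    omega⟩
  have hmin : ∀ N : Subgroup X, N.Normal → N ≠ ⊥ → N ≤ M → N = M := fun N h1 h2 h3 =>
    le_antisymm h3 (hMmin ⟨h1, h2⟩ h3)
  have hnc : ¬ (Nat.card M).Coprime (Nat.card T) := fun h1 => hM1 (hO M hMn h1)
  rw [Nat.Prime.not_coprime_iff_dvd] at hnc
  obtain ⟨r, hr, hrM, hrt⟩ := hnc
  have : Fact r.Prime := ⟨hr⟩
  refine ⟨M, hMn, ?_, ?_, r, hr, hrt, hrM⟩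
  · have : Nontrivial M := (nontrivial_iff_ne_bot M).2 hM1
    refine ⟨fun N hN => ?_⟩
    by_cases hc : (Nat.card N).Coprime (Nat.card T)
    · left
      have h1 : (Ot (Nat.card T) M).map M.subtype = ⊥ := by
        have := Ot_char (Nat.card T) M
        apply hO
        · infer_instance
        · rw [card_map_of_injective M.subtype_injective]
          exact Ot_coprime _ _
      rw [map_eq_bot_iff_of_injective _ M.subtype_injective] at h1
      exact le_bot_iff.1 (h1 ▸ le_Ot hN hc)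
    · right
      rw [Nat.Prime.not_coprime_iff_dvd] at hc
      obtain ⟨s, hs, hsN, hst⟩ := hc
      have : Fact s.Prime := ⟨hs⟩
      obtain ⟨⟨y, hy⟩, hy1⟩ := exists_prime_orderOf_dvd_card' (G := N) s hsN
      rw [← orderOf_coe] at hy1
      change orderOf y = s at hy1
      set W := closure {x : X | x ∈ M ∧ orderOf x = s} with hW
      have hWn : W.Normal := by
        apply closure_normal_of
        rintro g x ⟨hx1, hx2⟩
        exact ⟨hMn.conj_mem x hx1 g, (orderOf_injective (MulAut.conj g).toMonoidHom (MulAut.conj g).injective x).trans hx2⟩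
      have hWM : W = M := by
        apply hmin W hWn
        · rw [Ne, hW, closure_eq_bot_iff]
          intro h1
          have h2 : (y : X) = 1 := h1 ⟨y.2, by rwa [orderOf_coe]⟩
          rw [← orderOf_coe, h2, orderOf_one] at hy1
          exact hs.one_lt.ne hy1
        · rw [hW, closure_le]
          exact fun x hx => hx.1
      have hWN : W ≤ N.map M.subtype := by
        rw [hW, closure_le]
        rintro x ⟨hx, hx1⟩
        obtain ⟨g, hg, hgx⟩ := h.fuse hs hst M hx y.2 hx1 (by rwa [orderOf_coe])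
        have h2 : zpowers (g * (y : X) * g⁻¹) ≤ N.map M.subtype := by
          rw [zpowers_le]
          exact ⟨⟨g, hg⟩ * y * ⟨g, hg⟩⁻¹, hN.conj_mem y hy _, rfl⟩
        exact h2 (hgx ▸ mem_zpowers x)
      rw [eq_top_iff]
      intro x _
      have h2 := hWN (hWM.ge x.2)
      obtain ⟨x', hx', hxx⟩ := h2
      rwa [← Subtype.ext hxx]
  · intro hab
    obtain ⟨x, hx⟩ := exists_prime_orderOf_dvd_card' (G := M) r hrM
    rw [← orderOf_coe] at hx
    obtain ⟨g, hg⟩ := h.exists_conj_mem hr hrt (x := (x : X)) (by rw [hx])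
    have hz1 : g * (x : X) * g⁻¹ ≠ 1 := by
      intro h1
      rw [conj_eq_one_iff.1 h1, orderOf_one] at hx
      exact hr.one_lt.ne hx
    have hzM : g * (x : X) * g⁻¹ ∈ M := hMn.conj_mem _ x.2 g
    have hMT : M ≤ T := fun a ha => h.cent _ hg hz1 a (congrArg Subtype.val (hab ⟨a, ha⟩ ⟨_, hzM⟩))
    apply hTn
    have h1 : T = centralizer (M : Set X) := by
      apply le_antisymm
      · intro a ha
        rw [mem_centralizer_iff]
        intro b hb
        exact h.comm (hMT hb) ha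
      · rw [← h.centralizer_eq hg hz1]
        exact centralizer_le (Set.singleton_subset_iff.2 hzM)
    rw [h1]
    infer_instance

/-- Burnside's transfer theorem for a simple group -/
theorem not_normalizer_le {S : Type*} [Group S] [Finite S] [IsSimpleGroup S] (hna : ¬ ∀ a b : S, a * b = b * a)
    {r : ℕ} [Fact r.Prime] (hrS : r ∣ Nat.card S) (P : Sylow r S) :
    ¬ normalizer (P : Set S) ≤ centralizer (P : Set S) := by
  intro hP
  have h1 := MonoidHom.ker_transferSylow_isComplement' P hP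
  rcases IsSimpleGroup.eq_bot_or_eq_top_of_normal (MonoidHom.transferSylow P hP).ker inferInstance with h2 | h2
  · rw [h2] at h1
    have h3 : (P : Subgroup S) = ⊤ := by simpa using h1
    apply hna
    intro a b
    have ha : a ∈ (P : Subgroup S) := h3 ▸ mem_top a
    have hb : b ∈ (P : Subgroup S) := h3 ▸ mem_top b
    exact (mem_centralizer_iff.1 (hP (le_normalizer hb)) a ha)
  · rw [h2] at h1
    have h3 : (P : Subgroup S) = ⊥ := by simpa using h1
    exact P.ne_bot_of_dvd_card hrS h3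

/-- `T ≤ S` -/
theorem Iso.le_simple (h : Iso T) {S : Subgroup X} [hSn : S.Normal] [IsSimpleGroup S]
    (hna : ¬ ∀ a b : S, a * b = b * a) {r : ℕ} (hr : r.Prime) (hrt : r ∣ Nat.card T) (hrS : r ∣ Nat.card S) :
    T ≤ S := by
  have : Fact r.Prime := ⟨hr⟩
  let P : Sylow r S := default
  have h1 := not_normalizer_le hna hrS P
  rw [SetLike.le_def] at h1
  push Not at h1
  obtain ⟨y, hy, hyc⟩ := h1
  obtain ⟨g, hg⟩ := h.exists_conj_le hr hrt (P.isPGroup'.map S.subtype)
  have hPT : ∀ a ∈ (P : Subgroup S), g * (a : X) * g⁻¹ ∈ T := fun a ha => hg _ ⟨a, ha, rfl⟩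
  -- the element `g y g⁻¹`
  set w : X := g * (y : X) * g⁻¹ with hw
  have hwS : w ∈ S := hSn.conj_mem _ y.2 g
  have hPne : (P : Subgroup S) ≠ ⊥ := P.ne_bot_of_dvd_card hrS
  obtain ⟨z, hz, hz1⟩ := (P : Subgroup S).bot_or_exists_ne_one.resolve_left hPne
  have hzy : y * z * y⁻¹ ∈ (P : Subgroup S) := (mem_normalizer_iff.1 hy z).1 hz
  have hwN : w ∈ normalizer (T : Set X) := by
    apply h.mem_normalizer (hPT z hz)
    · intro h2
      exact hz1 (Subtype.ext (conj_eq_one_iff.1 h2))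
    · have h2 := hPT _ hzy
      rw [hw]
      convert h2 using 1
      simp only [coe_mul, coe_inv]
      group
  have hwT : w ∉ T := by
    intro h2
    apply hyc
    rw [mem_centralizer_iff]
    intro a ha
    have h3 := h.comm (hPT a ha) h2
    apply Subtype.ext
    change (a : X) * y = y * a
    have h4 : g * ((a : X) * y) * g⁻¹ = g * (y * a) * g⁻¹ := by
      calc g * ((a : X) * y) * g⁻¹ = (g * (a : X) * g⁻¹) * (g * (y : X) * g⁻¹) := by group
        _ = (g * (y : X) * g⁻¹) * (g * (a : X) * g⁻¹) := h3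
        _ = _ := by group
    exact mul_left_cancel (mul_right_cancel h4)
  let f : T → T := fun a => ⟨a * (w * (a : X)⁻¹ * w⁻¹), T.mul_mem a.2
    ((mem_normalizer_iff.1 hwN _).1 (T.inv_mem a.2))⟩
  have hf : Function.Injective f := by
    intro a b hab
    by_contra hne
    have h2 : (a : X) * (w * (a : X)⁻¹ * w⁻¹) = b * (w * (b : X)⁻¹ * w⁻¹) := congrArg Subtype.val hab
    apply hwT
    apply h.cent ((b : X)⁻¹ * a) (T.mul_mem (T.inv_mem b.2) a.2)
    · intro h3
      exact hne (Subtype.ext (inv_mul_eq_one.1 h3).symm)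
    · have h3 : (a : X) * w * (a : X)⁻¹ = b * w * (b : X)⁻¹ := by
        apply mul_right_cancel (b := w⁻¹)
        simpa only [mul_assoc] using h2
      calc w * ((b : X)⁻¹ * a) = (b : X)⁻¹ * (b * w * (b : X)⁻¹) * a := by group
        _ = (b : X)⁻¹ * (a * w * (a : X)⁻¹) * a := by rw [h3]
        _ = (b : X)⁻¹ * a * w := by group
  intro b hb
  obtain ⟨a, ha⟩ := (Finite.surjective_of_injective hf) ⟨b, hb⟩
  have h2 : (a : X) * (w * (a : X)⁻¹ * w⁻¹) = b := congrArg Subtype.val ha
  rw [← h2, show (a : X) * (w * (a : X)⁻¹ * w⁻¹) = ((a : X) * w * (a : X)⁻¹) * w⁻¹ by group]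
  exact S.mul_mem (hSn.conj_mem _ hwS _) (S.inv_mem hwS)

/-- the Frattini argument -/
theorem Iso.relIndex_eq (h : Iso T) {S : Subgroup X} [hSn : S.Normal] (hTS : T ≤ S) :
    (normalizer (T : Set X)).relIndex S = (normalizer (T : Set X)).index := by
  set N := normalizer (T : Set X) with hN
  have hsup : N ⊔ S = ⊤ := by
    rw [eq_top_iff]
    intro x _
    have hr := Nat.minFac_prime h.one_lt.ne'
    obtain ⟨z, hz, hzr, hz1⟩ := h.exists_prime hr (Nat.minFac_dvd _)
    obtain ⟨g, hg, hgx⟩ := h.fuse hr (Nat.minFac_dvd _) S (hSn.conj_mem z (hTS hz) x) (hTS hz)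
      ((orderOf_injective (MulAut.conj x).toMonoidHom (MulAut.conj x).injective z).trans hzr) hzr
    have h1 : x * z * x⁻¹ ∈ zpowers (g * z * g⁻¹) := hgx ▸ mem_zpowers _
    have h2 : (g⁻¹ * x) * z * (g⁻¹ * x)⁻¹ ∈ T := by
      obtain ⟨i, hi⟩ := mem_zpowers_iff.1 h1
      rw [conj_zpow] at hi
      have h3 : (g⁻¹ * x) * z * (g⁻¹ * x)⁻¹ = z ^ i := by
        calc (g⁻¹ * x) * z * (g⁻¹ * x)⁻¹ = g⁻¹ * (x * z * x⁻¹) * g := by group
          _ = g⁻¹ * (g * z ^ i * g⁻¹) * g := by rw [hi]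
          _ = z ^ i := by group
      rw [h3]
      exact T.zpow_mem hz i
    have h3 : g⁻¹ * x ∈ N := h.mem_normalizer hz hz1 h2
    rw [show x = g * (g⁻¹ * x) by group]
    exact (N ⊔ S).mul_mem (le_sup_right (a := N) hg) (le_sup_left (b := S) h3)
  have h1 : S.index = S.relIndex N := by
    rw [← relIndex_sup_right (H := N), hsup, relIndex_top_right]
  have h2 : Nat.card S * S.index = Nat.card N * N.index := by rw [card_mul_index, card_mul_index]
  have h3 : Nat.card (S ⊓ N : Subgroup X) * S.relIndex N = Nat.card N := by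
    have := card_mul_index (S.subgroupOf N)
    rw [← inf_subgroupOf_right, Nat.card_congr (subgroupOfEquivOfLe (inf_le_right : S ⊓ N ≤ N)).toEquiv] at this
    rw [← inf_relIndex_right]
    exact this
  have h4 : Nat.card (S ⊓ N : Subgroup X) * N.relIndex S = Nat.card S := by
    have := card_mul_index (N.subgroupOf S)
    rw [← inf_subgroupOf_left, Nat.card_congr (subgroupOfEquivOfLe (inf_le_left : S ⊓ N ≤ S)).toEquiv] at this
    rw [← inf_relIndex_left]
    exact this
  rw [← h3, ← h4, h1] at h2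
  have h5 : 0 < Nat.card (S ⊓ N : Subgroup X) * S.relIndex N := by
    rw [h3]
    exact Nat.card_pos
  apply Nat.eq_of_mul_eq_mul_left h5
  rw [← h2]
  ring

end Cfsg.Agent.H702.TF
end
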