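import Cfsg.Agent.H649.Transport
import Mathlib
import Cfsg.Prelude.Def_Classification2
import Cfsg.Prelude.Def_LieTypeChar
import Cfsg.Agent.OddHalf.Known
import Cfsg.Agent.Prune
set_option linter.all false

-- part: H702/RealB0
section
set_option linter.all false
open scoped Cfsg.Agent.FastGrp

/-!
# Interface of the project S4918 / S4915 (real-valued characters in the principal p-block)

`HasReal p S`: for every modular maximal ideal `M` over `p`, the principal block of `S` with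
respect to `M` contains a real-valued irreducible character other than the principal one.

* criterion T1 (file `H139/RealB0/Crit.lean`): a real element of order divisible by `p`;
* criterion T2 (same file): a subgroup `H` with `p ∣ H.index` such that all constituents of
  the permutation character on `S ⧸ H` are real-valued (for instance all orbitals self-paired).
-/

set_option autoImplicit false

open Cfsg

namespace Cfsg.Agent.H702.RealB0

universe u v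

/-- The principal block of `S` contains a nontrivial real-valued irreducible character, for
every choice of the modular maximal ideal over `p`. -/
def HasReal (p : ℕ) (S : Type u) [Group S] : Prop :=
  ∀ M : Ideal Cfsg.AlgInt, Cfsg.IsPModular p M →
    ∃ χ : Cfsg.IrrCharacter S, χ ∈ Cfsg.principalBlock M S ∧
      ((χ : S → ℂ) ≠ fun _ => (1 : ℂ)) ∧ ∀ g : S, ((χ : S → ℂ) g).im = 0

theorem HasReal.congr {p : ℕ} {S : Type u} {T : Type v} [Group S] [Group T] (e : S ≃* T)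
    (h : HasReal p S) : HasReal p T := by
  intro M hM
  obtain ⟨χ, hχ, h1, hr⟩ := h M hM
  refine ⟨Cfsg.Agent.H649.irrMap e χ, ?_, ?_, ?_⟩
  · rw [← Cfsg.Agent.H649.blkMap_principalBlock e]
    exact Cfsg.Agent.H649.irrMap_mem_blkMap.2 hχ
  · intro hc
    refine h1 (funext fun g => ?_)
    have := congrFun hc (e g)
    rwa [Cfsg.Agent.H649.irrMap_apply'] at this
  · intro g
    exact hr _

end Cfsg.Agent.H702.RealB0
end

-- part: H702/RealTable
section
set_option linter.all false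
open scoped Cfsg.Agent.FastGrp

/-!
# The table of the project REALB0 (S4918, S4915), `p` odd

* `RowFor p C` : `HasReal p X` for all nonabelian simple groups `X` (in `Type`) of order divisible by `p` with `C`;
* `Rows p` : the list of the rows;
* `Rows.hasReal` : every known nonabelian simple group of order divisible by `p` satisfies `HasReal p`.
-/

set_option autoImplicit false

open Subgroup

namespace Cfsg.Agent.H702.RealTable

open Cfsg Cfsg.Agent.H702.RealB0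

universe u

/-- the row for all nonabelian simple groups with the property `C` -/
def RowFor (p : ℕ) (C : ∀ (X : Type) [Group X], Prop) : Prop :=
  ∀ (X : Type) [Group X] [Finite X] [IsSimpleGroup X], ¬ IsMulCommutative X → p ∣ Nat.card X → C X → HasReal p X

/-- the rows -/
structure Rows (p : ℕ) : Prop where
  alt : RowFor p (fun X _ => IsAlternating X)
  lie : RowFor p (fun X _ => IsLieTypeChar p X)
  psl : RowFor p (fun X _ => ∃ (F : Type) (_ : Field F) (_ : Fintype F) (n : ℕ), (p : F) ≠ 0 ∧ 2 ≤ n ∧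
    Nonempty (X ≃* Matrix.ProjectiveSpecialLinearGroup (Fin n) F))
  psp : RowFor p (fun X _ => ∃ (F : Type) (_ : Field F) (_ : Fintype F) (m : ℕ), (p : F) ≠ 0 ∧ 2 ≤ m ∧
    Nonempty (X ≃* PSp m F))
  psu : RowFor p (fun X _ => ∃ (F : Type) (_ : Field F) (_ : Fintype F) (n q : ℕ), (p : F) ≠ 0 ∧
    Fintype.card F = q ^ 2 ∧ 3 ≤ n ∧ Nonempty (X ≃* PSU n F q))
  oodd : RowFor p (fun X _ => ∃ (F : Type) (_ : Field F) (_ : Fintype F) (m : ℕ), (p : F) ≠ 0 ∧
    3 ≤ m ∧ Odd (Fintype.card F) ∧ Nonempty (X ≃* POmega F (quadFormOdd m F)))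
  oplus : RowFor p (fun X _ => ∃ (F : Type) (_ : Field F) (_ : Fintype F) (m : ℕ), (p : F) ≠ 0 ∧
    4 ≤ m ∧ Nonempty (X ≃* POmega F (quadFormPlus m F)))
  ominus : RowFor p (fun X _ => ∃ (F : Type) (_ : Field F) (_ : Fintype F) (m : ℕ) (a b : F), (p : F) ≠ 0 ∧
    4 ≤ m ∧ (∀ z₁ z₂ : F, z₁ ^ 2 + a * z₁ * z₂ + b * z₂ ^ 2 = 0 → z₁ = 0 ∧ z₂ = 0) ∧
    Nonempty (X ≃* POmega F (quadFormMinus (m - 1) F a b)))
  g2 : RowFor p (fun X _ => ∃ (F : Type) (_ : Field F) (_ : Fintype F), (p : F) ≠ 0 ∧ 3 ≤ Fintype.card F ∧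
    Nonempty (X ≃* Lie.chevG2.group F))
  f4 : RowFor p (fun X _ => ∃ (F : Type) (_ : Field F) (_ : Fintype F), (p : F) ≠ 0 ∧ Nonempty (X ≃* Lie.chevF4.group F))
  e6 : RowFor p (fun X _ => ∃ (F : Type) (_ : Field F) (_ : Fintype F), (p : F) ≠ 0 ∧ Nonempty (X ≃* Lie.chevE6.group F))
  e7 : RowFor p (fun X _ => ∃ (F : Type) (_ : Field F) (_ : Fintype F), (p : F) ≠ 0 ∧ Nonempty (X ≃* Lie.chevE7.group F))
  e8 : RowFor p (fun X _ => ∃ (F : Type) (_ : Field F) (_ : Fintype F), (p : F) ≠ 0 ∧ Nonempty (X ≃* Lie.chevE8.group F))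
  te6 : RowFor p (fun X _ => ∃ (K : Type) (_ : Field K) (_ : Fintype K) (q : ℕ), (p : K) ≠ 0 ∧ IsPrimePow q ∧
    Fintype.card K = q ^ 2 ∧ Nonempty (X ≃* Lie.twistedE6 K q))
  td4 : RowFor p (fun X _ => ∃ (K : Type) (_ : Field K) (_ : Fintype K) (q : ℕ), (p : K) ≠ 0 ∧ IsPrimePow q ∧
    Fintype.card K = q ^ 3 ∧ Nonempty (X ≃* Lie.twistedD4 K q))
  sz : RowFor p (fun X _ => Lie.IsoSuzuki X)
  ree : p ≠ 3 → RowFor p (fun X _ => Lie.IsoRee X)
  tf4 : RowFor p (fun X _ => Lie.Iso2F4 X)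
  tits : RowFor p (fun X _ => Lie.IsoTits X)
  spor : RowFor p (fun X _ => IsSporadicGroup X)

theorem charP_of {p : ℕ} [Fact p.Prime] {F : Type*} [Field F] (h : (p : F) = 0) : CharP F p :=
  (CharP.charP_iff_prime_eq_zero Fact.out).2 h

section

variable {p : ℕ} [hp : Fact p.Prime]

theorem nonab_congr {X Y : Type*} [Group X] [Group Y] (e : X ≃* Y) (h : ¬ IsMulCommutative X) : ¬ IsMulCommutative Y := by
  intro hc
  refine h ⟨⟨fun a b => e.injective ?_⟩⟩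
  rw [map_mul, map_mul]
  exact hc.is_comm.comm _ _

variable {X : Type} [Group X] [Finite X] [IsSimpleGroup X]

theorem Rows.psl' (R : Rows p) (hna : ¬ IsMulCommutative X) (hd : p ∣ Nat.card X) (h : IsPSL X) :
    HasReal p X := by
  obtain ⟨F, iF, iN, n, hn, hn2, ⟨e⟩⟩ := h
  by_cases hF : (p : F) = 0
  · have h1 : IsPSLChar p X := ⟨F, iF, iN, charP_of hF, n, hn, hn2, ⟨e⟩⟩
    exact R.lie X hna hd (Or.inl h1)
  · exact R.psl X hna hd ⟨F, iF, iN, n, hF, hn, ⟨e⟩⟩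

theorem Rows.psp' (R : Rows p) (hna : ¬ IsMulCommutative X) (hd : p ∣ Nat.card X) (h : IsPSp X) :
    HasReal p X := by
  obtain ⟨F, iF, iN, n, hn, hn2, ⟨e⟩⟩ := h
  by_cases hF : (p : F) = 0
  · have h1 : IsPSpChar p X := ⟨F, iF, iN, charP_of hF, n, hn, hn2, ⟨e⟩⟩
    exact R.lie X hna hd (Or.inr (Or.inl h1))
  · exact R.psp X hna hd ⟨F, iF, iN, n, hF, hn, ⟨e⟩⟩

theorem Rows.psu' (R : Rows p) (hna : ¬ IsMulCommutative X) (hd : p ∣ Nat.card X) (h : IsPSU X) :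
    HasReal p X := by
  obtain ⟨F, iF, iN, n, q, hq, hn, hn2, ⟨e⟩⟩ := h
  by_cases hF : (p : F) = 0
  · have h1 : IsPSUChar p X := ⟨F, iF, iN, charP_of hF, n, q, hq, hn, hn2, ⟨e⟩⟩
    exact R.lie X hna hd (Or.inr (Or.inr (Or.inl h1)))
  · exact R.psu X hna hd ⟨F, iF, iN, n, q, hF, hq, hn, ⟨e⟩⟩

theorem Rows.podd (R : Rows p) (hna : ¬ IsMulCommutative X) (hd : p ∣ Nat.card X) (h : IsPOmegaOdd X) :
    HasReal p X := by
  obtain ⟨F, iF, iN, m, hm, hodd, ⟨e⟩⟩ := h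
  by_cases hF : (p : F) = 0
  · have h1 : IsPOmegaOddChar p X := ⟨F, iF, iN, charP_of hF, m, hm, hodd, ⟨e⟩⟩
    exact R.lie X hna hd (Or.inr (Or.inr (Or.inr (Or.inl h1))))
  · exact R.oodd X hna hd ⟨F, iF, iN, m, hF, hm, hodd, ⟨e⟩⟩

theorem Rows.pplus (R : Rows p) (hna : ¬ IsMulCommutative X) (hd : p ∣ Nat.card X) (h : IsPOmegaPlus X) :
    HasReal p X := by
  obtain ⟨F, iF, iN, m, hm, ⟨e⟩⟩ := h
  by_cases hF : (p : F) = 0
  · have h1 : IsPOmegaPlusChar p X := ⟨F, iF, iN, charP_of hF, m, hm, ⟨e⟩⟩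
    exact R.lie X hna hd (Or.inr (Or.inr (Or.inr (Or.inr (Or.inl h1)))))
  · exact R.oplus X hna hd ⟨F, iF, iN, m, hF, hm, ⟨e⟩⟩

theorem Rows.pminus (R : Rows p) (hna : ¬ IsMulCommutative X) (hd : p ∣ Nat.card X) (h : IsPOmegaMinus X) :
    HasReal p X := by
  obtain ⟨F, iF, iN, m, a, b, hm, hab, ⟨e⟩⟩ := h
  by_cases hF : (p : F) = 0
  · have h1 : IsPOmegaMinusChar p X := ⟨F, iF, iN, charP_of hF, m, a, b, hm, hab, ⟨e⟩⟩
    exact R.lie X hna hd (Or.inr (Or.inr (Or.inr (Or.inr (Or.inr (Or.inl h1))))))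
  · exact R.ominus X hna hd ⟨F, iF, iN, m, a, b, hF, hm, hab, ⟨e⟩⟩

omit hp in
theorem Rows.lie_exc (R : Rows p) (hna : ¬ IsMulCommutative X) (hd : p ∣ Nat.card X) (h : IsExceptionalChevChar p X) :
    HasReal p X :=
  R.lie X hna hd (Or.inr (Or.inr (Or.inr (Or.inr (Or.inr (Or.inr (Or.inl h)))))))

omit hp in
theorem Rows.lie_tw (R : Rows p) (hna : ¬ IsMulCommutative X) (hd : p ∣ Nat.card X) (h : IsTwistedE6D4Char p X) :
    HasReal p X :=
  R.lie X hna hd (Or.inr (Or.inr (Or.inr (Or.inr (Or.inr (Or.inr (Or.inr (Or.inl h))))))))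

theorem Rows.exc (R : Rows p) (hna : ¬ IsMulCommutative X) (hd : p ∣ Nat.card X)
    (h : IsExceptionalLieType X) : HasReal p X := by
  rcases h with h | h | h | h | h | h | h | h | h | h | h
  · obtain ⟨F, iF, iN, h3, ⟨e⟩⟩ := h
    by_cases hF : (p : F) = 0
    · exact R.lie_exc hna hd ⟨F, iF, iN, charP_of hF, Or.inl ⟨h3, ⟨e⟩⟩⟩
    · exact R.g2 X hna hd ⟨F, iF, iN, hF, h3, ⟨e⟩⟩
  · obtain ⟨F, iF, iN, ⟨e⟩⟩ := h
    by_cases hF : (p : F) = 0
    · exact R.lie_exc hna hd ⟨F, iF, iN, charP_of hF, Or.inr (Or.inl ⟨e⟩)⟩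
    · exact R.f4 X hna hd ⟨F, iF, iN, hF, ⟨e⟩⟩
  · obtain ⟨F, iF, iN, ⟨e⟩⟩ := h
    by_cases hF : (p : F) = 0
    · exact R.lie_exc hna hd ⟨F, iF, iN, charP_of hF, Or.inr (Or.inr (Or.inl ⟨e⟩))⟩
    · exact R.e6 X hna hd ⟨F, iF, iN, hF, ⟨e⟩⟩
  · obtain ⟨F, iF, iN, ⟨e⟩⟩ := h
    by_cases hF : (p : F) = 0
    · exact R.lie_exc hna hd ⟨F, iF, iN, charP_of hF, Or.inr (Or.inr (Or.inr (Or.inl ⟨e⟩)))⟩
    · exact R.e7 X hna hd ⟨F, iF, iN, hF, ⟨e⟩⟩
  · obtain ⟨F, iF, iN, ⟨e⟩⟩ := h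
    by_cases hF : (p : F) = 0
    · exact R.lie_exc hna hd ⟨F, iF, iN, charP_of hF, Or.inr (Or.inr (Or.inr (Or.inr ⟨e⟩)))⟩
    · exact R.e8 X hna hd ⟨F, iF, iN, hF, ⟨e⟩⟩
  · obtain ⟨K, iF, iN, q, hq, hK, ⟨e⟩⟩ := h
    by_cases hF : (p : K) = 0
    · exact R.lie_tw hna hd ⟨K, iF, iN, charP_of hF, q, hq, Or.inl ⟨hK, ⟨e⟩⟩⟩
    · exact R.te6 X hna hd ⟨K, iF, iN, q, hF, hq, hK, ⟨e⟩⟩
  · obtain ⟨K, iF, iN, q, hq, hK, ⟨e⟩⟩ := h
    by_cases hF : (p : K) = 0
    · exact R.lie_tw hna hd ⟨K, iF, iN, charP_of hF, q, hq, Or.inr ⟨hK, ⟨e⟩⟩⟩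
    · exact R.td4 X hna hd ⟨K, iF, iN, q, hF, hq, hK, ⟨e⟩⟩
  · exact R.sz X hna hd h
  · by_cases hp3 : p = 3
    · exact R.lie X hna hd (Or.inr (Or.inr (Or.inr (Or.inr (Or.inr (Or.inr (Or.inr (Or.inr (Or.inr (Or.inr
        ⟨hp3, h⟩))))))))))
    · exact R.ree hp3 X hna hd h
  · exact R.tf4 X hna hd h
  · exact R.tits X hna hd h

/-- **The table**: from the rows. -/
theorem Rows.hasReal (R : Rows p) {G : Type u} [Group G] [Finite G] [IsSimpleGroup G]
    (hna : ¬ IsMulCommutative G) (hd : p ∣ Nat.card G) (hk : IsKnownSimple' G) : HasReal p G := by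
  have e : G ≃* Shrink.{0} G := (Shrink.mulEquiv.{0}).symm
  have hf : Finite (Shrink.{0} G) := Finite.of_equiv _ e.toEquiv
  have hs : IsSimpleGroup (Shrink.{0} G) := e.symm.isSimpleGroup
  have h1 := nonab_congr e hna
  have h2 : p ∣ Nat.card (Shrink.{0} G) := by rwa [← Nat.card_congr e.toEquiv]
  refine HasReal.congr e.symm ?_
  rcases OddHalf.Known.isKnownSimple'_congr e hna hk with h | h | h | h | h | h | h | h | h | h
  · -- cyclic
    exfalso
    have h3 : (Nat.card (Shrink.{0} G)).Prime := h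
    have : Fact (Nat.card (Shrink.{0} G)).Prime := ⟨h3⟩
    have hc : IsCyclic (Shrink.{0} G) := isCyclic_of_prime_card rfl
    exact h1 ⟨⟨fun a b => by
      let _ : CommGroup (Shrink.{0} G) := IsCyclic.commGroup
      exact mul_comm a b⟩⟩
  · exact R.alt _ h1 h2 h
  · exact R.psl' h1 h2 h
  · exact R.psp' h1 h2 h
  · exact R.psu' h1 h2 h
  · exact R.podd h1 h2 h
  · exact R.pplus h1 h2 h
  · exact R.pminus h1 h2 h
  · exact R.exc h1 h2 h
  · exact R.spor _ h1 h2 h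

end

end Cfsg.Agent.H702.RealTable
end
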