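import Cfsg.Agent.H940.RatB.Count
import Cfsg.Agent.H704.Spor49.Conway
import Cfsg.Agent.H474.RealCo.CoThreeElt
import Cfsg.Agent.H474.RealCo.CoOne
import Cfsg.Agent.H970.Sep.Co3Seven
import Cfsg.Agent.H143.RowCo3
import Cfsg.Agent.S0401
import Mathlib.GroupTheory.GroupAction.SubMulAction.Combination
import Cfsg.Agent.H702.RealTable
import Cfsg.Prelude.Def_Classification2
import Cfsg.Agent.H852.RealRank
import Cfsg.Agent.H852.IMHSThree
import Cfsg.Agent.H852.IMSuz
import Cfsg.Agent.H603.SporElim
import Cfsg.Agent.HN.Index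
import Cfsg.Agent.HN.DistinctC
import Cfsg.Agent.S1701
import Cfsg.Agent.H809.RealB0.Common
import Cfsg.Agent.H809.RealB0.Ly_m3
import Cfsg.Agent.H661.SporTh
import Cfsg.Agent.H707.RowTh_m3
import Cfsg.Agent.KFacts.Th.Main
import Cfsg.Agent.BabyM.TransFields
import Cfsg.Agent.BabyM.Instance
import Cfsg.Agent.BM.KHAll
import Cfsg.Agent.H711.BabyReal
import Cfsg.Agent.H706.RealBasic
import Cfsg.Agent.H462.RealJ.JOneTwo
import Cfsg.Agent.H462.RealJ.JThreeFour
import Cfsg.Agent.H95.JThree
import Cfsg.Agent.CpAutJThree.Row
import Cfsg.Agent.H852.RealMcL_m3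
import Cfsg.Agent.H447.RealMathieu
import Cfsg.Agent.H852.RealSuz
import Cfsg.Agent.H852.RealRu
import Cfsg.Agent.H30.RealFiB
import Cfsg.Agent.H241.NHThree
import Cfsg.Agent.S3331
import Cfsg.Agent.H989.HasInvOrth
import Cfsg.Agent.H884.SingMax
import Cfsg.Agent.H507.GmnOrthRows
import Cfsg.Agent.H377.OddThree_m3
import Cfsg.Agent.H149.PGO
import Cfsg.Agent.S0292
import Cfsg.Agent.S0293
import Cfsg.Agent.S0294
import Cfsg.Agent.FastGrp
import Cfsg.Agent.Prune
set_option linter.all false

section
prune_inst 0x7ffef8fbebfcb1dfffff7e7fa6bccffc39909fffa4dff94b7fe065ffabdf238809e5fbad8de010fe1e97c23410a87843fbfeeeffa26fd87ffffdbff45ffbec0f9567bd0931df8cb40f3c2fffe3f0778e7f3fffffffffffffffffffffffffffbeffbdffbfdfff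

-- part: H474/RealCo
section
prune_inst 0x60004000c000000000059411002024440005b000200801f9a0054200067320800021004ca01c060208a20100010000000000d0004000000400000000010020802a44020300010c240001803087180c00000000000000000000000000041004000002000
set_option linter.all false
open scoped Cfsg.Agent.FastGrp

-- part: H474/RealCo/Trans
section
/-!
# `HasReal 23` for `Co3` (2-transitive on 276 points) and `Co2` (rank 3 on 2300 points) (helper474)
-/

set_option autoImplicit false

namespace Cfsg.Agent.H474.RealCo

open Cfsg Cfsg.Agent.H702.RealB0 Cfsg.Agent.H139.RealB0.Crit MulAction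

/-- a 2-transitive action of degree divisible by `p` -/
theorem of_two_trans {G : Type*} [Group G] [Finite G] {p : ℕ} (X : Type*) [MulAction G X] [Finite X] [Nonempty X]
    (h2 : IsMultiplyPretransitive G X 2) (hp : p ∣ Nat.card X) : HasReal p G := by
  refine of_symm_action' (X := X) hp fun x y => ?_
  rw [is_two_pretransitive_iff] at h2
  rcases eq_or_ne x y with rfl | h
  · exact ⟨1, one_smul _ _, one_smul _ _⟩
  · exact h2 h h.symm

/-- the suborbits of `x` and `x⁻¹` have the same length -/
theorem ncard_orbit_inv {G : Type*} [Group G] [Finite G] (H : Subgroup G) (x : G) :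
    (orbit H ((x⁻¹ : G) : G ⧸ H)).ncard = (orbit H (x : G ⧸ H)).ncard := by
  classical
  have key : ∀ y : G, (orbit H (y : G ⧸ H)).ncard * Nat.card (stabilizer H (y : G ⧸ H)) = Nat.card H := by
    intro y
    rw [← index_stabilizer, Subgroup.index_mul_card]
  have hst : ∀ (y : G) (h : H), h ∈ stabilizer H (y : G ⧸ H) ↔ y⁻¹ * h * y ∈ H := by
    intro y h
    rw [mem_stabilizer_iff]
    change (((h : G) * y : G) : G ⧸ H) = (y : G ⧸ H) ↔ _
    rw [eq_comm, QuotientGroup.eq]
    rw [mul_assoc]
  have hc : Nat.card (stabilizer H (x : G ⧸ H)) = Nat.card (stabilizer H ((x⁻¹ : G) : G ⧸ H)) := by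
    refine Nat.card_congr ⟨fun h => ⟨⟨x⁻¹ * (h : H) * x, (hst x h).1 h.2⟩, ?_⟩,
      fun h => ⟨⟨x * (h : H) * x⁻¹, ?_⟩, ?_⟩, fun h => ?_, fun h => ?_⟩
    · rw [hst]
      have : x⁻¹⁻¹ * (x⁻¹ * ((h : H) : G) * x) * x⁻¹ = h := by group
      change x⁻¹⁻¹ * (x⁻¹ * ((h : H) : G) * x) * x⁻¹ ∈ H
      rw [this]
      exact (h : H).2
    · have := (hst _ h).1 h.2
      rwa [inv_inv] at this
    · rw [hst]
      change x⁻¹ * (x * ((h : H) : G) * x⁻¹) * x ∈ H
      have : x⁻¹ * (x * ((h : H) : G) * x⁻¹) * x = h := by group
      rw [this]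
      exact (h : H).2
    · apply Subtype.ext
      apply Subtype.ext
      change x * (x⁻¹ * ((h : H) : G) * x) * x⁻¹ = h
      group
    · apply Subtype.ext
      apply Subtype.ext
      change x⁻¹ * (x * ((h : H) : G) * x⁻¹) * x = h
      group
  have h1 := key x
  have h2 := key x⁻¹
  rw [← hc, ← h1] at h2
  exact Nat.eq_of_mul_eq_mul_right Nat.card_pos h2

/-- rank 3 with distinct subdegrees -/
theorem of_rank_three {G : Type*} [Group G] [Finite G] (H : Subgroup G) {k l : ℕ} (hi : H.index = 1 + k + l)
    {q₁ q₂ : G ⧸ H} (h1 : (orbit H q₁).ncard = k) (h2 : (orbit H q₂).ncard = l)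
    (hk : 1 < k) (hl : 1 < l) (hkl : k ≠ l) {p : ℕ} (hp : p ∣ H.index) : HasReal p G := by
  classical
  have hfin : Finite (G ⧸ H) := inferInstance
  have h0 : orbit H ((1 : G) : G ⧸ H) = {((1 : G) : G ⧸ H)} := by
    ext q
    rw [Set.mem_singleton_iff]
    constructor
    · rintro ⟨h, rfl⟩
      change (((h : G) * 1 : G) : G ⧸ H) = _
      rw [mul_one, QuotientGroup.eq]
      exact H.mul_mem (H.inv_mem h.2) H.one_mem
    · rintro rfl
      exact mem_orbit_self _
  have h0c : (orbit H ((1 : G) : G ⧸ H)).ncard = 1 := by rw [h0, Set.ncard_singleton]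
  have hdis : ∀ a b : G ⧸ H, (orbit H a).ncard ≠ (orbit H b).ncard → Disjoint (orbit H a) (orbit H b) := by
    intro a b hab
    rw [Set.disjoint_iff_inter_eq_empty, Set.eq_empty_iff_forall_notMem]
    rintro c ⟨hc1, hc2⟩
    apply hab
    rw [← orbit_eq_iff.2 hc1, ← orbit_eq_iff.2 hc2]
  have hun : orbit H ((1 : G) : G ⧸ H) ∪ orbit H q₁ ∪ orbit H q₂ = Set.univ := by
    apply Set.eq_of_subset_of_ncard_le (Set.subset_univ _) _ (Set.toFinite _)
    rw [Set.ncard_univ, ← Subgroup.index_eq_card, hi, Set.ncard_union_eq _ (Set.toFinite _) (Set.toFinite _),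
      Set.ncard_union_eq _ (Set.toFinite _) (Set.toFinite _), h0c, h1, h2]
    · exact hdis _ _ (by omega)
    · rw [Set.disjoint_union_left]
      exact ⟨hdis _ _ (by omega), hdis _ _ (by omega)⟩
  have hcl : ∀ q : G ⧸ H, orbit H q = orbit H ((1 : G) : G ⧸ H) ∨ orbit H q = orbit H q₁ ∨ orbit H q = orbit H q₂ := by
    intro q
    have hq : q ∈ orbit H ((1 : G) : G ⧸ H) ∪ orbit H q₁ ∪ orbit H q₂ := by rw [hun]; trivial
    rcases hq with (hq | hq) | hq
    · exact Or.inl (orbit_eq_iff.2 hq)
    · exact Or.inr (Or.inl (orbit_eq_iff.2 hq))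
    · exact Or.inr (Or.inr (orbit_eq_iff.2 hq))
  refine of_selfpaired H hp fun x => ?_
  have hx := ncard_orbit_inv H x
  have heq : orbit H ((x⁻¹ : G) : G ⧸ H) = orbit H (x : G ⧸ H) := by
    rcases hcl ((x⁻¹ : G) : G ⧸ H) with h | h | h <;> rcases hcl (x : G ⧸ H) with h' | h' | h' <;>
      rw [h, h'] at hx ⊢ <;> omega
  have hmem : ((x⁻¹ : G) : G ⧸ H) ∈ orbit H (x : G ⧸ H) := by
    rw [← heq]
    exact mem_orbit_self _
  obtain ⟨h, hh⟩ := hmem
  have h3 : (((h : G) * x : G) : G ⧸ H) = ((x⁻¹ : G) : G ⧸ H) := hh
  rw [QuotientGroup.eq] at h3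
  refine ⟨h, h.2, _, h3, ?_⟩
  group

theorem co3_23 : HasReal 23 Spor.Co3 := by
  have hcard : Nat.card Spor.Co3 = 495766656000 := Cfsg.Agent.NotCT.Orders.co3 ⟨MulEquiv.refl _⟩
  have hfin : Finite Spor.Co3 := Nat.finite_of_card_ne_zero (by rw [hcard]; norm_num)
  have hc := Cfsg.Agent.H704.Spor49.card_P276
  have hne : Nonempty Cfsg.Agent.H704.Spor49.P276 := by
    by_contra h
    rw [not_nonempty_iff] at h
    rw [Nat.card_of_isEmpty] at hc
    omega
  exact of_two_trans _ Cfsg.Agent.H704.Spor49.two_trans (by rw [hc]; norm_num)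

theorem co2_23 : HasReal 23 Spor.Co2 := by
  have hcard : Nat.card Spor.Co2 = 42305421312000 := Cfsg.Agent.BiChar.Small.card_Co2
  have hfin : Finite Spor.Co2 := Nat.finite_of_card_ne_zero (by rw [hcard]; norm_num)
  obtain ⟨H, -, hi, c₁, c₂, h1, h2⟩ := SporadicStructure.Co2RankThree.rank_three (MulEquiv.refl Spor.Co2)
  exact of_rank_three H (k := 891) (l := 1408) (by rw [hi]) h1 h2 (by norm_num) (by norm_num) (by norm_num)
    (by rw [hi]; norm_num)

end Cfsg.Agent.H474.RealCo
end

-- part: H474/RealCo/CoThree
section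
/-!
# `Co3` in REALB0: the prime 11 by the sieve (helper474)
-/

set_option autoImplicit false

namespace Cfsg.Agent.H474.RealCo

open Cfsg Cfsg.Agent.H702.RealB0 Cfsg.Agent.H702.Sieve MulAction

theorem card_co3 : Nat.card Spor.Co3 = 495766656000 := Cfsg.Agent.NotCT.Orders.co3 ⟨MulEquiv.refl _⟩

theorem finite_co3 : Finite Spor.Co3 := Nat.finite_of_card_ne_zero (by rw [card_co3]; norm_num)

theorem centralizer_zpowers {G : Type*} [Group G] (y : G) :
    Subgroup.centralizer ((Subgroup.zpowers y : Subgroup G) : Set G) = Subgroup.centralizer ({y} : Set G) := by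
  ext x
  rw [Subgroup.mem_centralizer_singleton_iff, Subgroup.mem_centralizer_iff]
  constructor
  · intro h
    exact (h y (Subgroup.mem_zpowers y)).symm
  · rintro h _ ⟨k, rfl⟩
    exact ((show Commute y x from h.symm).zpow_left k).eq

theorem cent_seven {y : Spor.Co3} (hy : orderOf y = 7) :
    Nat.card ↥(Subgroup.centralizer ({y} : Set Spor.Co3)) = 42 := by
  have hfin := finite_co3
  obtain ⟨k, m, hkm, h⟩ := Cfsg.Agent.H555.TwoSp.cn7 (T := Spor.Co3) ⟨MulEquiv.refl _⟩
  have h1 := (h (Subgroup.zpowers y) (by rw [Nat.card_zpowers, hy])).1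
  rw [centralizer_zpowers] at h1
  have h2 := Cfsg.Agent.H143.RowCo3.centralizer_dvd_of (L := Spor.Co3) ⟨MulEquiv.refl _⟩ (y := y)
    (by rw [hy]; norm_num) (by rw [hy]; norm_num)
  rw [h1] at h2 ⊢
  rcases hkm with ⟨rfl, -⟩ | ⟨rfl, -⟩ | ⟨rfl, -⟩ | ⟨rfl, -⟩ <;> revert h2 <;> norm_num

theorem cent_23 {y : Spor.Co3} (hy : orderOf y = 23) :
    Nat.card ↥(Subgroup.centralizer ({y} : Set Spor.Co3)) = 23 := by
  have h := Cfsg.Agent.H555.TwoSp.c23 (T := Spor.Co3) ⟨MulEquiv.refl _⟩ (Subgroup.zpowers y)
    (by rw [Nat.card_zpowers, hy])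
  rwa [centralizer_zpowers] at h

/-- the stabiliser of a pair of the 276 points -/
theorem exists_pair : ∃ H : Subgroup Spor.Co3, H.index = 37950 := by
  classical
  have h2 := Cfsg.Agent.H704.Spor49.two_trans
  have hc := Cfsg.Agent.H704.Spor49.card_P276
  have htr := Set.powersetCard.isPretransitive_of_isMultiplyPretransitive (G := Spor.Co3)
    (α := Cfsg.Agent.H704.Spor49.P276) (n := 2) h2
  have hcard : Nat.card (Set.powersetCard Cfsg.Agent.H704.Spor49.P276 2) = 37950 := by
    rw [Set.powersetCard.card, hc, Nat.choose_two_right]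
  have hne : Nonempty (Set.powersetCard Cfsg.Agent.H704.Spor49.P276 2) := by
    by_contra h
    rw [not_nonempty_iff] at h
    rw [Nat.card_of_isEmpty] at hcard
    omega
  obtain ⟨q⟩ := hne
  refine ⟨stabilizer Spor.Co3 q, ?_⟩
  rw [index_stabilizer, orbit_eq_univ, Set.ncard_univ, hcard]

/-- the candidates for `Co3` -/
def good3 (x : ℕ) : Bool :=
  Nat.beq (x % 2) 0 || !(Nat.beq (x % 11) 5 || Nat.beq (x % 11) 6) || Nat.beq (x % 3 ^ 7) 0 || Nat.beq (x % 5 ^ 3) 0 ||
    Nat.beq (x % 7) 0 || Nat.ble 495766656000 (2 * x ^ 2) ||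
    (Nat.ble 4 (x % 23) && Nat.ble (x % 23) 19) || Nat.beq (x % 7) 2 || Nat.beq (x % 7) 5 || Nat.beq x 115 ||
    Nat.beq x 27945

theorem chk3 : (H417.Divs.divs [(2, 10), (3, 7), (5, 3), (7, 1), (11, 1), (23, 1)]).all good3 = true :=
  H417.Divs.LowDv.all_of [(2, 0), (7, 0)] (fun d h => by
      have h : (Nat.beq (d % 2) 0 || (Nat.beq (d % 7) 0 || false)) = true := h
      simp only [Bool.or_eq_true] at h
      rcases h with h | h | ⟨⟨⟩⟩ <;> simp only [good3, h, Bool.or_true, Bool.true_or])
    (by decide +kernel)

/-- the candidate 115 -/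
theorem no_115 [Fact (Nat.Prime 11)] [Finite Spor.Co3] (E : Exc 11 Spor.Co3) (ht : E.t = 2) {a y r s : Spor.Co3}
    (ha : orderOf a = 7) (hy : orderOf y = 3) (hay : a * y = y * a) (hra : r * a = a * r) (hry : r * y * r⁻¹ = y⁻¹)
    (hsy : s * y = y * s) (hsa : s * a * s⁻¹ = a⁻¹) (hva : E.v a = 3) : False := by
  have hcard := card_co3
  have hareg : ¬ 11 ∣ orderOf a := by rw [ha]; norm_num
  have hcomm : Commute a y := hay
  have hoy : orderOf (a * y) = 21 := by
    rw [hcomm.orderOf_mul_eq_mul_orderOf_of_coprime (by rw [ha, hy]; norm_num), ha, hy]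
  have hregay : ¬ 11 ∣ orderOf (a * y) := by rw [hoy]; norm_num
  have hreal : IsConj (a * y) (a * y)⁻¹ := by
    rw [isConj_iff]
    refine ⟨s * r, ?_⟩
    have h1 : r * a * r⁻¹ = a := by rw [hra, mul_inv_cancel_right]
    have h2 : s * y * s⁻¹ = y := by rw [hsy, mul_inv_cancel_right]
    calc s * r * (a * y) * (s * r)⁻¹ = (s * (r * a * r⁻¹) * s⁻¹) * (s * (r * y * r⁻¹) * s⁻¹) := by group
      _ = a⁻¹ * (s * y * s⁻¹)⁻¹ := by rw [h1, hry, hsa]; group
      _ = (a * y)⁻¹ := by rw [h2, hay, mul_inv_rev]
  have hoay := E.odd_v (a * y) hregay hreal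
  have hcg : ((3 : ℕ) : ℤ) ∣ E.v (y * a) - E.v a := E.congr (s := 3) (by norm_num) hcomm.symm ⟨1, by rw [hy, pow_one]⟩
    (by rw [ha]; norm_num) (by rw [← hay]; exact hregay) hareg
  rw [← hay, hva] at hcg
  -- the centraliser of `a y`
  have hle : Subgroup.centralizer ({a * y} : Set Spor.Co3) ≤ Subgroup.centralizer ({a} : Set Spor.Co3) := by
    intro g hg
    rw [Subgroup.mem_centralizer_singleton_iff] at hg ⊢
    have h1 : (a * y) ^ 15 = a := by
      rw [hcomm.mul_pow]
      have e1 : a ^ 15 = a := by
        rw [show 15 = 7 * 2 + 1 by norm_num, pow_succ, pow_mul]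
        rw [show a ^ 7 = 1 by rw [← ha]; exact pow_orderOf_eq_one a, one_pow, one_mul]
      have e2 : y ^ 15 = 1 := by
        rw [show 15 = 3 * 5 by norm_num, pow_mul, show y ^ 3 = 1 by rw [← hy]; exact pow_orderOf_eq_one y, one_pow]
      rw [e1, e2, mul_one]
    have h2 : Commute g ((a * y) ^ 15) := (show Commute g (a * y) from hg).pow_right 15
    rw [h1] at h2
    exact h2
  have hcay : Nat.card ↥(Subgroup.centralizer ({a * y} : Set Spor.Co3)) = 21 := by
    have h1 : Nat.card ↥(Subgroup.centralizer ({a * y} : Set Spor.Co3)) ∣ 42 := by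
      rw [← cent_seven ha]
      exact Subgroup.card_dvd_of_le hle
    have h2 : 21 ∣ Nat.card ↥(Subgroup.centralizer ({a * y} : Set Spor.Co3)) := by
      rw [← hoy]
      have hm : a * y ∈ Subgroup.centralizer ({a * y} : Set Spor.Co3) := Subgroup.mem_centralizer_singleton_iff.2 rfl
      rw [← Subgroup.orderOf_mk _ hm]
      exact orderOf_dvd_natCard _
    have h3 : Nat.card ↥(Subgroup.centralizer ({a * y} : Set Spor.Co3)) ≠ 42 := by
      intro h4
      have h5 : Subgroup.centralizer ({a * y} : Set Spor.Co3) = Subgroup.centralizer ({a} : Set Spor.Co3) :=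
        Subgroup.eq_of_le_of_card_ge hle (by rw [h4, cent_seven ha])
      have h6 : r ∈ Subgroup.centralizer ({a * y} : Set Spor.Co3) := by
        rw [h5]; exact Subgroup.mem_centralizer_singleton_iff.2 hra
      rw [Subgroup.mem_centralizer_singleton_iff] at h6
      have h7 : r * y = y * r := by
        have h8 : a * (r * y) = a * (y * r) := by
          rw [← mul_assoc, ← hra, mul_assoc, h6, mul_assoc]
        exact mul_left_cancel h8
      have h9 : y = y⁻¹ := by
        rw [← hry, h7, mul_inv_cancel_right]
      have h10 : y ^ 2 = 1 := by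
        rw [pow_two]
        nth_rewrite 2 [h9]
        exact mul_inv_cancel y
      have h11 := Nat.le_of_dvd (by norm_num) (orderOf_dvd_of_pow_eq_one h10)
      omega
    obtain ⟨k, hk⟩ := h2
    rw [hk] at h1 h3 ⊢
    have h4 : k ∣ 2 := by
      have h5 : 21 * k ∣ 21 * 2 := h1
      exact (Nat.mul_dvd_mul_iff_left (by norm_num)).1 h5
    rcases (Nat.dvd_prime Nat.prime_two).1 h4 with h5 | h5
    · rw [h5]
    · exact absurd (by rw [h5]) h3
  have hnc : ¬ IsConj a (a * y) := by
    intro hc
    obtain ⟨c, hc'⟩ := isConj_iff.1 hc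
    have h1 : orderOf (a * y) = orderOf a := by
      rw [← hc']
      have := orderOf_injective (MulAut.conj c).toMonoidHom (MulAut.conj c).injective a
      simpa only [_root_.MulEquiv.toMonoidHom_eq_coe, _root_.MonoidHom.coe_coe, _root_.MulAut.conj_apply] using this
    rw [hoy, ha] at h1
    omega
  have hsum := E.sum_class_le hareg hregay hnc
  have i1 := Subgroup.card_mul_index (Subgroup.centralizer ({a} : Set Spor.Co3))
  have i2 := Subgroup.card_mul_index (Subgroup.centralizer ({a * y} : Set Spor.Co3))
  rw [cent_seven ha, hcard] at i1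
  rw [hcay, hcard] at i2
  have hv9 : 9 ≤ E.v (a * y) ^ 2 := by
    have h1 := Int.odd_iff.1 hoay
    have h2 : E.v (a * y) ≤ -3 ∨ 3 ≤ E.v (a * y) := by omega
    rcases h2 with h2 | h2 <;> nlinarith only [h2]
  rw [hva, ht, hcard] at hsum
  have j1 : (Subgroup.centralizer ({a} : Set Spor.Co3)).index = 11803968000 := by omega
  have j2 : (Subgroup.centralizer ({a * y} : Set Spor.Co3)).index = 23607936000 := by omega
  rw [j1, j2] at hsum
  push_cast at hsum
  linarith only [hsum, hv9]

set_option maxHeartbeats 1000000 in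
theorem co3_11 [hs : IsSimpleGroup Spor.Co3] : HasReal 11 Spor.Co3 := by
  have : Fact (Nat.Prime 11) := ⟨by norm_num⟩
  have : Fact (Nat.Prime 23) := ⟨by norm_num⟩
  have hcard := card_co3
  have hfin := finite_co3
  obtain ⟨a, y, r, s, ha, hy, hay, hra, hry, hsy, hsa⟩ := exists_four
  by_contra hno
  obtain ⟨E⟩ := exists_exc (p := 11) (by norm_num) (not_comm_of_real (by norm_num) H721.CoM24.co3_five)
    (by rw [hcard]; norm_num) (by rw [hcard]; norm_num) hno
  obtain ⟨x, hx, hdvd, hodd, hlt, hmod⟩ := Exc_deg E
  obtain ⟨he, ht⟩ := e_eq (q := 5) E.het E.odd_e E.one_lt_e (by norm_num) (by norm_num)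
  have h3 := not_pow E hx (r := 3) (n := 7) Nat.prime_three (by norm_num) (by rw [hcard]; norm_num)
    (by rw [hcard]; norm_num) co3_three
  have h5 := not_pow E hx (r := 5) (n := 3) Nat.prime_five (by norm_num) (by rw [hcard]; norm_num)
    (by rw [hcard]; norm_num) H721.CoM24.co3_five
  have h7 := not_pow E hx (r := 7) (n := 1) Nat.prime_seven (by norm_num) (by rw [hcard]; norm_num)
    (by rw [hcard]; norm_num) H661.Spor.hasReal_co3
  have hg := H417.Divs.all_divs _ (by
    intro y hy
    simp only [List.mem_cons, List.not_mem_nil, or_false] at hy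
    rcases hy with rfl | rfl | rfl | rfl | rfl | rfl <;> norm_num) (N := Nat.card Spor.Co3)
      (by rw [hcard]; rfl) chk3 hdvd
  -- the element of order 23
  obtain ⟨w, hw⟩ := exists_prime_orderOf_dvd_card' (G := Spor.Co3) 23 (by rw [hcard]; norm_num)
  have hwreg : ¬ 11 ∣ orderOf w := by rw [hw]; norm_num
  have hcw := E.col hwreg
  rw [cent_23 hw, ht] at hcw
  have hcgw := E.congr_one (s := 23) (by norm_num) (by norm_num) (a := w) ⟨1, by rw [hw, pow_one]⟩
  rw [hx] at hcgw
  have hw2 : E.v w ^ 2 ≤ 11 := by push_cast at hcw; linarith only [hfin, hcw]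
  have hw3 : -3 ≤ E.v w := by nlinarith only [hfin, hw2]
  have hw4 : E.v w ≤ 3 := by nlinarith only [hfin, hw2]
  -- the element of order 7
  have hareg : ¬ 11 ∣ orderOf a := by rw [ha]; norm_num
  have hca := E.col hareg
  rw [cent_seven ha, ht] at hca
  have hcga := E.congr_one (s := 7) (by norm_num) (by norm_num) (a := a) ⟨1, by rw [ha, pow_one]⟩
  rw [hx] at hcga
  have hoa := E.odd_v a hareg (isConj_iff.2 ⟨s, hsa⟩)
  have ha2 : E.v a ^ 2 ≤ 20 := by push_cast at hca; linarith only [hfin, hca]
  have ha3 : -4 ≤ E.v a := by nlinarith only [hfin, ha2]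
  have ha4 : E.v a ≤ 4 := by nlinarith only [hfin, ha2]
  rw [he] at hmod
  rw [hcard, ht] at hlt
  have hodd' := Nat.odd_iff.1 hodd
  have hoa' := Int.odd_iff.1 hoa
  unfold good3 at hg
  simp only [Bool.or_eq_true, Bool.and_eq_true, Bool.not_eq_true', Bool.or_eq_false_iff, Nat.beq_eq, Nat.ble_eq,
    ← Nat.dvd_iff_mod_eq_zero] at hg
  rcases hg with (((((((((h | h) | h) | h) | h) | h) | h) | h) | h) | h) | h
  · (clear * - hodd' h; omega)
  · obtain ⟨ha, hb⟩ := h
    have ha' := Nat.ne_of_beq_eq_false ha
    have hb' := Nat.ne_of_beq_eq_false hb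
    rcases hmod with hmod | hmod <;> push_cast at hmod <;> (clear * - ha' hmod hb'; omega)
  · exact h3 h
  · exact h5 h
  · exact h7 (by rwa [pow_one])
  · omega
  · generalize E.v w = z at *
    obtain ⟨h1, h2⟩ := h
    interval_cases z <;> (clear * - h2 hcgw h1; omega)
  · generalize E.v a = z at *
    interval_cases z <;> (clear * - h hcga hfin hoa'; omega)
  · generalize E.v a = z at *
    interval_cases z <;> (clear * - h hcga hfin hoa'; omega)
  · -- `x = 115`
    subst h
    have hva : E.v a = 3 := by
      generalize E.v a = z at *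
      interval_cases z <;> (clear * - hfin hoa' hcga; omega)
    exact no_115 E ht ha hy hay hra hry hsy hsa hva
  · -- `x = 27945`
    subst h
    obtain ⟨H, hH⟩ := exists_pair
    have h1 := E.one_add_le_index H (by
      intro g hg h11
      have h2 : 11 ∣ Nat.card H := by
        have := orderOf_dvd_natCard (⟨g, hg⟩ : H)
        rw [Subgroup.orderOf_mk] at this
        exact h11.trans this
      have h3 := Subgroup.card_mul_index H
      rw [hH, hcard] at h3
      have h4 : Nat.card H = 13063680 := by omega
      rw [h4] at h2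
      norm_num at h2)
    rw [hx, ht, hH] at h1
    norm_num at h1

end Cfsg.Agent.H474.RealCo
end

-- part: H474/RealCo
section
/-!
# The rows `Co1`, `Co2`, `Co3` of REALB0 (helper474)

For an odd prime `p` dividing the order, the principal `p`-block contains a nontrivial real-valued character.
-/

set_option autoImplicit false

namespace Cfsg.Agent.H474.RealCo

open Cfsg Cfsg.Agent.H702.RealB0 Cfsg.Agent.H702.Sieve

theorem co1 {p : ℕ} [hp : Fact p.Prime] (hp2 : p ≠ 2) {X : Type} [Group X] [Finite X] [IsSimpleGroup X]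
    (hd : p ∣ Nat.card X) (h : Spor.IsoCo1 X) : HasReal p X := by
  have hc := NotCT.Orders.co1 h
  obtain ⟨e⟩ := h
  have hfin : Finite Spor.Co1 := Finite.of_equiv X e.toEquiv
  refine HasReal.congr e.symm ?_
  have hm := Cfsg.Agent.H721.Table.mem_of_dvd_prod hp.out [(2, 21), (3, 9), (5, 4), (7, 2), (11, 1), (13, 1), (23, 1)] (by
    intro y hy
    simp only [List.mem_cons, List.not_mem_nil, or_false] at hy
    rcases hy with rfl | rfl | rfl | rfl | rfl | rfl | rfl <;> norm_num) (by rw [hc] at hd; exact hd)
  simp only [List.map_cons, List.map_nil, List.mem_cons, List.not_mem_nil, or_false] at hm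
  rcases hm with rfl | rfl | rfl | rfl | rfl | rfl | rfl
  · exact absurd rfl hp2
  · exact of_real co1_three
  · exact of_real H721.CoM24.co1_five
  · exact of_real H721.CoMat.co1_seven
  · exact of_real H721.CoM24.co1_eleven
  · exact of_real H721.CoMat.co1_thirteen
  · exact co1_23

theorem co2 {p : ℕ} [hp : Fact p.Prime] (hp2 : p ≠ 2) {X : Type} [Group X] [Finite X] [IsSimpleGroup X]
    (hd : p ∣ Nat.card X) (h : Spor.IsoCo2 X) : HasReal p X := by
  have hc := NotCT.Orders.co2 h
  obtain ⟨e⟩ := h
  have hfin : Finite Spor.Co2 := Finite.of_equiv X e.toEquiv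
  refine HasReal.congr e.symm ?_
  have hm := Cfsg.Agent.H721.Table.mem_of_dvd_prod hp.out [(2, 18), (3, 6), (5, 3), (7, 1), (11, 1), (23, 1)] (by
    intro y hy
    simp only [List.mem_cons, List.not_mem_nil, or_false] at hy
    rcases hy with rfl | rfl | rfl | rfl | rfl | rfl <;> norm_num) (by rw [hc] at hd; exact hd)
  simp only [List.map_cons, List.map_nil, List.mem_cons, List.not_mem_nil, or_false] at hm
  rcases hm with rfl | rfl | rfl | rfl | rfl | rfl
  · exact absurd rfl hp2
  · exact of_real co2_three
  · exact of_real H721.CoM24.co2_five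
  · exact of_real co2_seven
  · exact of_real H661.Spor.Eleven.hasReal_co2
  · exact co2_23

theorem co3 {p : ℕ} [hp : Fact p.Prime] (hp2 : p ≠ 2) {X : Type} [Group X] [Finite X] [IsSimpleGroup X]
    (hd : p ∣ Nat.card X) (h : Spor.IsoCo3 X) : HasReal p X := by
  have hc := NotCT.Orders.co3 h
  obtain ⟨e⟩ := h
  have hfin : Finite Spor.Co3 := Finite.of_equiv X e.toEquiv
  have hs : IsSimpleGroup Spor.Co3 := e.symm.isSimpleGroup
  refine HasReal.congr e.symm ?_
  have hm := Cfsg.Agent.H721.Table.mem_of_dvd_prod hp.out [(2, 10), (3, 7), (5, 3), (7, 1), (11, 1), (23, 1)] (by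
    intro y hy
    simp only [List.mem_cons, List.not_mem_nil, or_false] at hy
    rcases hy with rfl | rfl | rfl | rfl | rfl | rfl <;> norm_num) (by rw [hc] at hd; exact hd)
  simp only [List.map_cons, List.map_nil, List.mem_cons, List.not_mem_nil, or_false] at hm
  rcases hm with rfl | rfl | rfl | rfl | rfl | rfl
  · exact absurd rfl hp2
  · exact of_real co3_three
  · exact of_real H721.CoM24.co3_five
  · exact of_real H661.Spor.hasReal_co3
  · exact co3_11
  · exact co3_23

end Cfsg.Agent.H474.RealCo
end
end

-- part: H702/RealSporAll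
section
prune_inst 0x1070014004e200000000051410002004300004200000000098a00400000652608000210048801c040200a0010001000011100410024000000400000000240629800244020300010c240001003082100000000000000000000000000000041000200400000
set_option linter.all false
open scoped Cfsg.Agent.FastGrp

-- part: H702/RealSpor
section
/-!
# REALB0: the sporadic groups from their rows
-/

set_option autoImplicit false

namespace Cfsg.Agent.H702.RealSpor

open Cfsg Cfsg.Agent.H702.RealB0 Cfsg.Agent.H702.RealTable

/-- the rows of the sporadic groups -/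
structure SporRows (p : ℕ) : Prop where
  m11 : RowFor p (fun X _ => Spor.IsoM11 X)
  m12 : RowFor p (fun X _ => Spor.IsoM12 X)
  m22 : RowFor p (fun X _ => Spor.IsoM22 X)
  m23 : RowFor p (fun X _ => Spor.IsoM23 X)
  m24 : RowFor p (fun X _ => Spor.IsoM24 X)
  j1 : RowFor p (fun X _ => Spor.IsoJ1 X)
  j2 : RowFor p (fun X _ => Spor.IsoJ2 X)
  j3 : RowFor p (fun X _ => Spor.IsoJ3 X)
  j4 : RowFor p (fun X _ => Spor.IsoJ4 X)
  co1 : RowFor p (fun X _ => Spor.IsoCo1 X)
  co2 : RowFor p (fun X _ => Spor.IsoCo2 X)
  co3 : RowFor p (fun X _ => Spor.IsoCo3 X)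
  mcl : RowFor p (fun X _ => Spor.IsoMcL X)
  hs : RowFor p (fun X _ => Spor.IsoHS X)
  suz : RowFor p (fun X _ => Spor.IsoSuz X)
  he : RowFor p (fun X _ => Spor.IsoHe X)
  ru : RowFor p (fun X _ => Spor.IsoRu X)
  on : RowFor p (fun X _ => Spor.IsoON X)
  ly : RowFor p (fun X _ => Spor.IsoLy X)
  fi22 : RowFor p (fun X _ => Spor.IsoFi22 X)
  fi23 : RowFor p (fun X _ => Spor.IsoFi23 X)
  fi24 : RowFor p (fun X _ => Spor.IsoFi24' X)
  hn : RowFor p (fun X _ => Spor.IsoHN X)
  th : RowFor p (fun X _ => Spor.IsoTh X)
  b : RowFor p (fun X _ => Spor.IsoB X)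
  m : RowFor p (fun X _ => Spor.IsoM X)

theorem SporRows.spor {p : ℕ} (R : SporRows p) : RowFor p (fun X _ => IsSporadicGroup X) := by
  intro X _ _ _ hna hd h
  rcases h with h | h | h | h | h | h | h | h | h | h | h | h | h | h | h | h | h | h | h | h | h | h | h | h | h | h
  · exact R.m11 X hna hd h
  · exact R.m12 X hna hd h
  · exact R.m22 X hna hd h
  · exact R.m23 X hna hd h
  · exact R.m24 X hna hd h
  · exact R.j1 X hna hd h
  · exact R.j2 X hna hd h
  · exact R.j3 X hna hd h
  · exact R.j4 X hna hd h
  · exact R.co1 X hna hd h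
  · exact R.co2 X hna hd h
  · exact R.co3 X hna hd h
  · exact R.mcl X hna hd h
  · exact R.hs X hna hd h
  · exact R.suz X hna hd h
  · exact R.he X hna hd h
  · exact R.ru X hna hd h
  · exact R.on X hna hd h
  · exact R.ly X hna hd h
  · exact R.fi22 X hna hd h
  · exact R.fi23 X hna hd h
  · exact R.fi24 X hna hd h
  · exact R.hn X hna hd h
  · exact R.th X hna hd h
  · exact R.b X hna hd h
  · exact R.m X hna hd h

end Cfsg.Agent.H702.RealSpor
end

-- part: H852/RealHS
section
/-!
# REALB0: the row `HS` (helper852)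

* `p = 3, 5, 7` : two involutions of the permutation group on 100 points with a product of order divisible by `p`;
* `p = 11` : the action on the 1100 edges of the graph (all orbitals self-paired).
-/

set_option autoImplicit false
set_option maxRecDepth 100000
open Cfsg

namespace Cfsg.Agent.H852.RealHS

open Cfsg.Agent.H702.RealB0 Cfsg.Agent.H852.RealRank Cfsg.Agent.H852.IMHS Subgroup Equiv
open Cfsg.Agent.SporadicA.PermTab Cfsg.Agent.HN.HS100 Cfsg.Agent.HN.AutBound

/-- stabilizes the base edge -/
def eh1 : ℕ := 0x9c0e83086307a0301983105e1882f0280440142182e06a0fc2603c02c0b00e85804812425046088018228110aa04c278090761482d85007c0dc0200a0b40602e8340a61640d0120be07c2686002e0800685103809c2382b02815c2082a03c1500400f00201c118290960842400b03600c1283004c0381b0320320e02b02d0b80542003902000021002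
/-- stabilizes the base edge -/
def eh2 : ℕ := 0x2e0442b82d03e0042c04f04204c2f04c0640640c0600a4174218390340f42d0150c208c0783b0b81582f80a0660202201404e1281100500c1340200702c0a82401b0800dc1804e0b60d00701205c11806820016144210470a0078128280200c4060360c400c0e0550c612c298260580e81581d0920e01a8450121641e02f0a80a41f83e04800020802
/-- swaps the base edge with the root edge 1 -/
def er1 : ℕ := 0xb80900605a03e0201f04b05c0881c0170760a80b01b0300a42881a0421600903f01c0d00302304015c0880f08617821056092174018480561281e04f0c00c4270330740c02800a00a0f40481908c0700200b08e008008620720dc2c81008a0941904009a0d81602806a1540385203c1502f82705a18c068610a60742204102a130178140b609809800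
/-- swaps the base edge with the root edge 2 -/
def er2 : ℕ := 0x7c0cc2b0420a00a4270240a40f0078590c01682f0280a81342f85b0540fc2504f05c0300a80a0680200c8110c61041882d03c1841d01f0c4110018140aa0380e0170021602584700e0742605c0720581101209209c2981006a080178380860602b8090800c00982b0420341303700a1201e82c08a1180d8510000181183b034094190020ba0101b00b
/-- swaps the base edge with the root edge 3 -/
def er3 : ℕ := 0x7c180308620be0fc0e83d01a0301b8580ae104280540101482885509e0e82582509a090248460081201e0160860782b0280bc18c2e045076138028330b202c110340700481480305e0b81581005a0241884000c0982604a0320d4108110381082e81f036068118180001100980702a0c81002c0020382d85a06c0081505302809c1c84706002807817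
/-- swaps the base edge with the root edge 4 -/
def er4 : ℕ := 0xba1602b8560aa148318540a0138288620c21802f85c0801782c85b0781681d83e08e124250340960c8198420601101705305a1301c84f09a0a01e83604e0e01184808a1181084303e1041f81d0360681303a06e0a40b81606a0501881305e048160190560a80e00d04a09006022040078080110100240c01500a0180700f0060280580200e01000001
/-- table -/
def eC : ℕ := 0xc41040983705e1682f01b05c05c1084208e0680b03003e0042d03207a0b01d02f0c4150178220880782b8610b60482d81001012c0401309a0dc1201009a12c098590be18c310010681501882b02c0040604d048094098110061880d83801c0c00080c0a80b82783105c17c0b05a0bc12c158370641840f057018138090220b6168318410bc01c050080261701681106400c2583d05615c2081e0441841202403a0c01e82c03e0841781f07400c2d01d0b40900b8420701680e83a0060b41d01602e10805011082114300370480e80d83409c00c0385a0bc04c2e01102c0400182e09e178168630340580d04f0880300404b0421142b86108411c2201205606c1a01003c0381885e00e1502e059056134228370b205c270240640882b8610640882085f03a0c01e82c0be038268120c00042c83808e1082381a0be05c3002e0c40d00600803405c270240441801081f07a0383184b0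060400f04e0be1141b85b0be1342d81209a0dc310030440880d02b04a16c0704d0241803100105613c2c82b04a11c2202108a0c81e82c07400c090070680c00d06006e1642b84208e1102781f060068008010181502e0590c013c188030741042104703a0582f85e08a0c8308250820b00d81106807c1685c0b20e00380a0700380883a08a0c83184b07a15c3081e0ae0841781009c0bc1682c0360281202508813c2282d0c60c02a01b068074188630960f41605b0be038300010340580d03403e18c2283205e0b41e82c07406c0801e0240dc0f0570ae184278310140441782d05806c0885c0880280881604a1042d85f0200780604e0240c00d02e0621501902204a1043002e09e0c42f05e00e0282a05c0241880082509a0dc2285901812c108130c40b80404e00e0281c00e0c40300401709c1841105b06807c318080261102582108210822860062178038340200780b84e05e0b41601b09e0c4170170180202701205a0d00f8300640883085c0880200984408e1102782105e07c1e81d0600c42a01e0ae0842a05c0b20e00380a05806c0883a08a0c80e8160b40ac0e8300700382d01d0c612c1e82e02e108238160b4004060540b81641c03403e18c040130b80ac0e8300c00b8188570c211c2104704a1042d85f0200781105b00e0281c0130c4030268370480400704d02e1381582506e1782f0070140b80b84208e090080540b8184120250420bc0f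83d0700382d01d07400c168630220e82c838056094018070960842d85f01c134090600c40280881a02c0bc1682c036110278080261042106100e11c160570b20b0258170220e81783a0821382b86109a05c270120340942382506e1641c0340260880984d0b60741080a07004c040630680b4318160b40ac0704d0c416c0706203e17c2582101c004180240c20901e83a084090318300620841281106401c0502e02e1081e8380b40741d05405e0402d83801c020208420100743002e08e0ac0906009a0dc0882f05a06c1e81605e0b40d83d0be1140b00e09a06c08003096138090250960842d84d0241800801e0b6084310010180e0158250be038268120c01880f05b03e0f42f80e0b40743100103a0c0080540480b01d01008813c040130be13c040130be1141b82d06807c0d0160600680881605e0b41601f07a0582d05e0140441782d05806c0f83d0be1140704d0360400f00300e12c1084e02400c2084208a104210450641801704f0621102780802617c1b8590880200985f08a0b41a01f0340581801a0020300080c0a81702084208a0c82084208a1801704f0621782f0070020300080c0a81702c8380bc1780380a0b20e00c028050118230460400d41b0290b00cc1003501e160198400a61202184805406006848078130140530380181185d0980a0298490ba0140c8150a20241a81906c0a40a8500b00cc1383b0941482c0330941481e026016130140400a602c0e0060461242e83f07c1741f0390a00502c03304e0ec25052008128290040461242e83f07c0e41f0390941480200407c0e4010000000000000000000801002004008010020040080100000000000000000000000000000080100200400801002004000000000000080100101401000000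
/-- table -/
def eD : ℕ := 0x1a0341f8180760a4020290761181485206a0cc2a8150760a4028550120641b0580aa1480a85d0ba0f81c83c00c0a01f80d0ba0602405d00c0f82b0060500180c0390900a80303e00c0fc2e8480300340683c01a14c2b0180801000c03c0ac158298480500a82184c07e1000581c00c100200560300341501808602c0e04309810c2b04801a14c2404c05010023033008144048520aa0d4290520081400a00902a16023020040064028290aa0a42903508c0a41b03508c1541483b08c1601003b0320d8280140aa0d41005502a0241d84600a064028200aa0d81a83508c0240781906c0a4280140b00cc1d81406a0d80782902a0ec198550120641b00506c0cc2a8150b0024230150400802884600a064198270760142800508c0802a82906a0d81a8460a209c288270b0080288140120d41481501e1601980607c060150180860701c83c04c100298430a60a01f03e0721000e0230161301402a0500a82185600c0a8298180a61201f8060800f01500d01a12015018090174150180ac0fc2180b038098118430a61201402a086130058560900f02b01c0540601300d01a14c2400b046124260400a602c0e0060461741f83c04c08c248530380182e83e07e1002180b0380f02b01c086130058480980a01402a0861301e0560ba0fc1e0560380a80c00d01a14c2402604c130140400a60182485d04e0ec020330aa0d81b051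04e140078330aa0542c0040080141381901e128138150b00801005108c0801985502a0140c80508c0140c8050a0050230200aa0a41a83606a0d8230050a01441381901e128288270a00500a8200a2050048350120641b00f0520542801401e1282c03304e0ec250520a003c2503304e0ec2900400a144138090321440a00f02a160100510121481a8090320d8148150a0050078580660ec2505207e1001c8430381580e0260461242184c0720f01300b092098260280500a82184c04c0f02b0480781581182a030034068480780980584904c08c2484c0501002980b038018118490ba0fc1f0390461242e83f07c0e41e026016098118490980a020053016070030230921741f83e0720142805104e0240c80f0941442801401e160100510280241a8090320d8148150a00500784a0b00cc1383b0941480204a0a40102801401e1282c03304e0ec250520080e41e02601612413023092130140400a602c0e0060461242e83f07c0e41f0390461242e83f07c0e42801401e1282c03304e0ec250520080102505200808c2485d07e0f81c83e072128290040080f81c80e0641680d8380b813c168080140443185c09a1041105b048074098620180dc090170621502e00e0680280184202213c318470881700d84208a0040606005c0742382b0881802780702e1841782d04a0e80084507a0b0270030241100805a0bc0c81802b03c00c0382d0c60d02200a0340581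28080c41700b8250820e8018070b404c0080c0c00b82f05e062150080610481041600c0a81701c01f0c612c040110741880d80c09c0c00d02c08e0ac0f02f07400c1b8590ae0c40883403e0683002e08e1102782105e07c0e85a08e0ac0e8210261881801a06e1642d05e0a81640f02200601c2582109c1780380a05c05c210620360d00e8300621502702404416c090320441702202e062150128410b617c268370480400b05a0620c8110370b20782b83204415c0d0160601641c02b04a06c1a01003c18c2583d05815c2382b03c0841783a0060dc0f0570640882b86109e0c40501106807c0b84e0c20901105b0240c8110570c21702202e0c612c1e82c0ae1842382b02e138308240c612c1005506a0a82b00d01a10c150480861300305603014c2401508c080288090520542881900a1541485506c0d40785104e0ec0485502a0182b02a04c0f00581c00c0980585603010c0680d0920981f8400861301d8140120d80785002809c1d81408c0802a82901e0142882707e1000e02307e100150180920e41e02600a1400c80506c03c280140781580e0230120640205d07c0fc1c80601a1481a83b00a1400a0460400a4250400a61201403c0ac08c150180920cc2a8150b00240c83601e10c2600b0381441380402e02c13002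
/-- table -/
def eP : ℕ := 0x8890ea1cc3584b08e0e41782905209c0e81d00600c007fefedfc3f37e4fc9f8bef7dcfa9f43de7baf6ded3da7aaf51e8bce798f25e43c8788f11e1bc3782f01df3bd774ee5dabb5768ec5d6bac74ee99d33a5738e6dcbb95728e49c8b8e71ce35c638c716e29c4b8970ee15c2384706e09c037f6fadf1bd37a6eedd9bb3756eadc5b7b6e6dadb1b636a6d4da5b2b636c2d7daf35d6b8d6dacb586aed51aa3536a4d49a835069ed31a634b690d21a3b4768cd11a033f67acf19e33b676ce99cb36668ccd98b31660cbd9632b654ca593b2764cc9592b23644c818fb1e63ac718d31662ac5189b13624c4988b0e618c2d85b0a614c1d82b05608c1181b02600bfd7fafe5fcbf57e2fb5f4be57caf85eabd179af25e4bc578af05dcbb976aed5d6bad752e95d0ba173ae75ccb9572ae45c8b8d712e25c2b81702de5bab6d6cad95b0b5d6b2d65aab516a2d35a4b45682cf59eb3966aca592b1d63ac658ab15622c3586b0960ac057eafd5f2bb570add5a2b2564ac5582b055eabd572ae55aab1552a9552a9d532a5542a85502a053ea7d4f29d538a6d4da9a532a654c29752ea594b294524a4948a90520a3d47a8e51aa314628b514a2544a8850ea1942a84506a0d41281502a014027f4fc9f93ea7b4f49e93ca794f09e13ba774ec9d93a2744e69c9392714e29c13826e4da9b13626b4d69a934a684ce99d32a644c898d30a6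04c097d2f25d4ba9712e25b4b69692ca584ae95d2b2554aa95129a534a494928a514a093926a4d49892d2524a4929252424848e91d2324648a91522243486909212414809011fa3f47c8f91e23b4768e91d2394708e11ba3746c8d91aa354688d119a334648c918a3145e8b91722d4588b115a2a4528a11422744e89912a2444688d112224428811021f43e8790ea1d4388710da1a4348650c21842c8590aa1442684908a1041e83d0720e41a8350620c41682d0520a4128250420840e8190320540881101a0240480500a003fe7f8ff1fd3fa7f0fe1fb3f67e8fd1f93f27e0fb9f73ec7d8fa9f53e87d0f99f33e47c8f89f03e07bcf71ee3da7b4f61ec3d67acf51e93d27a0f41e73ce794f29e43c878cf19e23c4784f01e03be778ee9dd3b8770ed9da3b4764ec1d83ae75ceb1d63aa754ea1d43a674ce91d13a2740e79cf39c738e69cd398730e59cb394724e49c839071ce39c638c714e29c438870ce19c2382704e01c037e6fcdf1be37a6f4de1bc3766ecdd1ba3726e4dc1b836e6dcdb1b636a6d4da1b43666c8d91b13626c0d81af35e6b8d71ad35a010021a532e658c798e310618c017e2f65ecbd1782e45c4b796f2d85a4b41682ce598b29642c6584b09602bc574ad9592ae558aa9542a6540a714d298520a414628c514a19432844fc9f13d2764e89c9392704d89a9342664cc991312604bc9512925049c93125246488911212424808f91e23a474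8e11923045c8b1142284488811021e4348610c21642c8510a2124248390520a41081902202404800ff1fc3f87e8fc1f83ec7d0f91f03dc7b8f51e83d0798f21e23c4780f01de3b8768ec1d83ac750ea1d23a0740e71ce398728e41c638c710e11c03806f8df1bc3786e0db1b43606b8d61aa3546a0d41a6348688d11a0340678ce19a334660cc19632c650c9190320638c618c314628c418630c610c2182304600c017e2fc5f0be17a2f05e0bb1762e85d0b91722e05b8b716c2d45a8b41682cc598b21642c4588b01602bc570ae15a2b0560ab1562a8548a91502a0538a714c298528a5148290518a3144288508a114027c4f89e13c2744e89c13626c4d09a1322644c09812e25c4b09600600c4688b10c2084007f0f21e03b8760e81d0390710e01bc3786e0d81b0358690ce19c330650c818c318620c21802f85e0ba1742e05b0b41642b8560aa150298520a21402804f09a1342604c09612c2504a0921242384608c1142284408810c218420821042004007e0f41e03c0760ec1c8390700e01b83706c0d41a8340660cc190320620c41803005e0bc1702e0040081482504808c1102003c06c0d81a02e0580b01502a050098120200400780e01c0340600c016028050090120200400700e0180300500a0040080000000000000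
/-- table -/
def eG : ℕ := 0x20040080000200400001002000000010000040000100000400000002000008000000040080000200400800000004008000000000080000200000800002004000010020000080000000400001000004000000000040000000000400801000004008000020000080000200400800002000000010020000080000200400001000004000010000040000100000400801000004000010000000000000200400001002000008000020040000100200000800000004000010020040000100000400000000004008000000000000000200400800002004000000020000080000000400800002004008000020000000000000400001000000008000020000080100200400001000004000010020040000100200400001000004000000020000080000200000000002000008000000040000100000000800002004000010020040080000200000800000004000000020000080100000000001002004000000020000080100000000001002000008000000000000100000400800002000008000020040080100000000801002000008000020000000000200400001002000000010000040000000200000801000004000010020040000000000400000000004008010020000080100000400001002000000000020000080000200000800002000008000020040000100000400001000004000010000040000100200000001000004008010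00004008010000040000100000400000002000000010000040080000200000800002004008000000040080000200000800002000008000020000000100000400000002000008000020000080100000400000002000008000020000080000200000800002000008000020040000000200000000002004000010000040000100200000800000004000010000040080000200000801000000008000020000080100000000800002000008000020000080000200000800002000008000020040000100200000001000004000000000040000100000400001000004000010000040080000200000800002000008000020000000100000000800002000008000020000080100000400001000004000010000040000100000400800002000008000020000000100000400800002000008000020000080000200000801000004008000020000080000200000800000004000010000040000100000400001000004000010020000080000200000800002000008000020000080000200000800002000008000020000080000200400001000004000010000040000100000400001000000008000020040080000200000000002004008000020040080000000400000002004000010000040080100200400800002000000000020040000100000400800002004008010020040080000000000001002000008010020000000000200400801000004000010000040000100200000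8000000040000100000000800000004008000020000080000200000001000000000000020000000000200000801000004008010020040000000200000800002000008000000000000100000000800000004000010000040000000200000800002000008000020000000100000000800002000008000020000080000200000801002000008000020000000000200000801000004000010020000080000200000800002000008000020040000100000400001000004008000020040000100000400001000004000010000040080000200400001000004008000020000080000200000800002000008000020000080000200400001000004000010020000080000200000800002000008000020000000000000000001002000008010020000080000200400000002000008010020000080000000400000000004008010020000000000200400001000000000000020040000100200000800002000008000020000000100000400001000004000010020000080000200400800002000008000020000080000200400001002000008000020000080000200000800002000000000000040080000000400001000004000010000000000100200000001000000008000020040000100000400001000004000010000040000000000000000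
/-- position of an edge -/
def ePos : ℕ := 0x276000000000000004b800000fb56d800000001070000000000000000000000000000000000ca00061000000398000002f100000000000000000000005a800000000342000000000010680000000000000000000000c4ac600000000355000000000002be000003a4000000001694da0000018143e000000000000000000000000051800000000000000000000000000000000000000002198000007cc0000000000000000000000000000000000017b6c60000040a68a000000000000000000000000000000000000001112ae0007e000000ce40000000000000000000000000002340008900026c0013f8000000000000000066092800514002258000000013b8002f1064001bb00000000000000000000002ec0000009e33800000000000001cc000000000003da00000000000000000000000000005780060a00000000000000b7c2c000000000000009c8000000000005380028800000000000001be0000000000000049200000000000000000000002e101aed000000002b6000000000000006b1fb0003b4000000001320000000000000000000000000000000005219d0002f400000000000000000000006f0002950000000000000000000000296000000004c8000000000000000000000000000000000000000000002a80000023600000000242d940035a59a00000000626000003b900000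00032419c00000000000600002070000000000000000000000000001b780000000000000254000a6800276000bb000000001848000000000037318c000000000007000000000040c000000007f00041b23ede000000000000003fe000d9c000000003000000000000000000000000000000003fc000000000000034f548000000e3000000000000000008a8001cc0000000000000000000000000000000000000000000000000000000d2c002cf0000000000000000000148000000000a600000000291000989d790c000000000002042680000000000000000000000000a500000000000000c20001e5000000f300000000000000520000b38000003b000000000001d300000000000000000000000000000000000000000000000136001c600000052400000000001f580000000000000000fec00445000000000000000000033a6120000000000000119800000000268000000003a000624000000000000000000000000179c2f000868000000000000000000000000000000000000000000020a800000000e680000000000000000001700000010c0000003aa000000000006e01c80000000037800848001168000000000000000000000427000000250000000000002c0000004f00000029800000000000d3800000000000003b6a31c4800000000000000000011a2fc00000000000000000003e60000000000000068000191000001d6800000000000000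000009f00000092000000426000000000000000000016400000315000000000000003b80000030c0000015641600000000000000000000000015600000000000000000000ce17a000000000000004600000024ed300000069200152800000000003ef0007040033e000000000000002b000000852000000003f0000000000000000000000000000000000000790e70000000000000000000000000000000000004b400000000000000002aa00138000000000c58003fa00000000000000000000010ac002d000000000000000000000000000000000023000000000000001e3000000f34000000000007000000000000000354f2c000ed7dc00000221000744000000000010b80000000000000000000001680005fc000000000022300000000000000000000003b0000000003fc00056c00000000000000002260000010d0000000000044e0000014f0000021c8000000000000012e00000000000001199a70000000000000000000192000000001c9000000002fb0000000000013ae200000066a00069000000000000007060020e000000000000000000000010e0000000010a188001b680000000000000000000000000004a00000000000000322000000000000000000000000000000000000001090001b6c500028400000000000000000000006e6a4400000000000000000000000000010c00000000000000000000000000000000000000000116da800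0000ba000000000000000000000000000000000000003d6868001e12d141400000000000000000000000000000058ee3c00045000e8c0006300000000000000000001fb0007b4000000009e80026c0000000000038a03c000000000000000018c0000000024e00000000000001be89f000000002b71500000000000000000000000000000000000000000000000000000000002169a8000001ef000732000000b900000000000000bb800000000c84000000006746c80017800000237000000003f4000000000000000000000000000175800000001020000000015c0001ac000000007da000000000009880000069800000000000000000000000c800064000000000005e000000000000244000000000000000000000000000000bd0000007f000044000000000004060000000000066e00000000000000004210009280000049a00000000602c94368000000000000081a0000000000101c000000000000000065000000000000000000175b70cdcc000000ebc26800000f18000006fa000000000f0000000000000000007a5a60003800000000000000000001dd80000000000000000f3c00000770000003910010e000000000000002c07be00000094000000000000000000000000000000000000000000000010f4000000000000000000000000000000acc0000000000000000000044000000000000000000043000000000000c900013e000000004730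c90a00000000000000000a340000000000000000000000001dc82c000000000000000000028cb64000b30000000000027e00000000000000004030000000010b46a0000038a000000000000003d94d00000000000000000000750000000000000062c00000158000000000000000000000000000000000000000001db692000000860000003c23900000000000000d75a38000000000000061820d97b1e0000000000000000000000000000000000000000000000000000000000000000000000000000000000207000000d6d75000000001100005c600000000000000000530000000000000000000317000000388007d4000000000000020281b0007cc001bc3800000028c000f34000000000c800432000000000003620000005a0000000000000000142800001101ee800000001f003d0000000000000000000000000000000000000000000000000000000000178f400000000134000000f7000000000000000400000000000000000000000000000002760007d800000000000000000000980000041c000000000000003a38954a000000000000000021400000000000000001b8800504000000000000000000010200000000000125ba8000000000000000000000000000b10002080009f800000000000000000001ac0000000000000000000001bb8005b00000000000000000000000a7c000000009e03e800000aa800000000000000007c401800000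000001ed29500000000000000000e480056e1900000000000000000000e04f88000000001d000000000002ab0000000005408e0d400000000000000000000000026f00000000000000001d280000000000000000000ff800000000000000000016b0000000000000000000000000000a2c002a300000000215000ef40020d0000000000000008800000000000000000004098900000000000000150000000000006c4000000000008e8001920012bb1d000ad4000008020000000066c000000005bc00000000000e9c0000000000000000000000001a6000000000000000000000000000000000000000c500000000000000000000003a0000000000cc5265e4000004820000000020c000000000000005b800000000000002062680000000000000000000000000006ba000003810000000025c26600000000000000000004a22c0cf000000000b68003d400000000000000000000003600013200000000000000d4000000000b9c00000000000002a00000000000000000139800000000000003320007a8004f8000000007e400000000000001d9800000000000000000000000000000000000000380000000000000000068e001b89f123a000000000000000000000000000000000630cf800000000004100004dc00000000000000003d8000a3800258000000002f8d280041f50e0000019b000000000001ca00000000000001c333c000000000000000000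0000000000000000000000000000108c001be0000000000000000000000000000000007de0017d8000000003d0000001680000000097000000000000000000000000000000000000000000000000000000000022300015800000114002000005cc95400000000000000000e6000001de000000000005fc0011e000000000000000000000000000094000352000bd800000000000003e8000000000006540018c809000000000000000000000000000000000000bc169800000001410001924cc000000009a40000025e0009d000000000003fa000000000000000000009600000000000000000000002ea000d2800000001ce000386000000006a8000000000003680021e000000004260000000000000000000000000000000a2000001f09050010780000000000000000000000000003f800000000382000000000000000028d00000000000000000000004d20002f800000000001b20b600153000000000000330000001f0000000000000000000149000000000000003d210400000000000e30000000000000041e0000000000000000000000b28000003e86f4001ee00000000000000000000003ee0000000000007544800000000000000000000023400000000000000000380000000000003a4ae0000000000017c000003be00000000000c34000000000011e8000000000000000000000000000000002243ac7880000000000000000000000002e1000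0012004e0009780000045cc680000043600000000000000dc80000000000000000000000000000000003f39c0000001300000000000836000002fc67c00000000000000000000000000000063a000000000000000000000000000244000001f6000000000000000000000000068c0000032710acb80024c5d200000000828000460000000000000000000000082000000000000000003e00000000000000000cec0000000000000404000fa440425000000000000000000001a0000000014b23e000000000006a84e80000000000000618000000000000000000025e000ef8000000000000000000000000432000002430000000000018a80a1f8006d2000000000000000000000000000000000cc8000000000000000022e00000000000001cb00000000100000000654000006d65f58f800000620000000000000000000000000000000000000006f000000000000f2dc4000000244000001060000000056a00000000000000000000000000000000000000000000001ea800000000003c7000000003b4000dfdc6800586001f2800000248000000000000000009e000000000000000000000000000000884eac00000000aed56800000000480000000000000000000000000786080000000000005780000000179800000000000000000000000065ea14000000000000000027400000000000000000000000000000060e8ac0000073400132800000001dd18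370a000000d3000000000001a0d380000000000000170000000002c500000000000000000000001fc000000000002ac000e20000000000000000000000000000002dd17e000000001945ec00000000296178000003b4000000000000000063c000002ab000000000000006c8002440000000000000000000000000000ae8004d400000187000e55cf8000000000000000000000000000000000005be9080016a6620000000000030c0000000000000247000000000000000000000000047800000000000000000000000000020e00000000000d8d82a6400000000000000fb99a88b00000000000000000408008029440000000016c00000000000000000000000000000000000000000cac002f769a000472ff0c40000000000000000000000000000000000000035c000fc19800000000000000000000000004ba0000000000000000000000000003f300000000000000000000000000000000a308000000000000010d0001580000036a00000000000001100000000002c0c600000000186800000000000000000000026600000000000000000d68d11faef9e415e000000000000000000000000000100800000000000003c0000000000000000000000000000000000350000000005ac0000000000190000000001cb8002a00000000000000000000000000000000000000000000000069000000001dd800000f7400000000678cf800000a98003ec000000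00000000000000004ce6b80000000000000000000001bc8000000000000000000074000000000000000000000000061c2b40000000000000303284354000001620014b1fe0000000000000054e2500000000000000000000000002a200000000001028000007fc000003e600088400000000000001dc00000000054000000000007f40000000000000000000000998000000000000000008400000000000000000000b8c191d000000000002e47f20000000000000000000000d0c0000000000000000000000000006bc0004204600000000000000d580000000000000000000000000008160018c01c398d1400000000000000008520000005d000000004160000000004766c00000000000000000004320018380000000133800000000ea0000008b00023200000000000000bc988800000ffc0000000000026000086000000000000000000000000000000000000000000006dc000008920000000000000000000000000000000000001c0000000000002a000000000006cec2000000000744000000000000000000000024835000000000000000000000000000115800000000d700000000000000000000001d38440dc000000000000000036c000001b40000000000000000000000000001ac8006b10b8000000000000000000086000000000000e58000960000000000000017800462000000000000020c02b000000b7800000000000000000000000000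000000000000f81ba8000005b4000000000011e800000f540015d000000000003a800000000000001ab8001c800000000582000000000000000014122c0000032d000000000000003bc00000278000002ef000000000000000016900000000000000000000000000000021b8c800087400000000000508005e2002160000007940000000000000000000000000000000f400000000002080000000cc000004860000000000000000000000000000000b2000004080000000024e00092c003260000012d3020000000000000000000000000d08000000000011480000000000000000000000000000017a80000000000000000000353600000003d8006200000001800000000000000000000003f0001c180000000000000000000000005bc7a80000000000000000000001cd26a0000000004200000000059000f100000050c000000000000000000088f10c000000000000007200000000000000000e10008760000005176ae8400000000f00000000000000000000000030000000a3800000000000000000000900000000000000000180000001a000000000000000bd1e7800000000000000000009b80000000000000000000000006560000000045800000000788000e50000010d400000000000000000000000000000000000000000c3cac80039e000003c100042400000000000000000000015f8000004acd100000000000000000001db152000000000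002d8000b9000000000000000007980000000085e0e00085a0000000000000000000000000000000000f800000000001328000006b400000000001ab80000072800000000000000000008a8000004b6000da800000000000000900000000000000000000000000e800036600017000000000000340000000000006c748003610008c000000000000000000000000002900000000000000000001910000000000035000000000000000000000000000022312c00000000000f1c001875ee3440000046474c0040800000000000000000000000000000000000000000000138000002fa000000aa000000000002790000000000027a48908800000001b61c8000000000000000000000000057000000000000001f500000000000000000000000000000000000000000000000fe1dc14600000000000000000000000000000034618a0000000069a3f4000000010887200050c0000000000000000000000000c98000000005f000000c8c00000708000cb000000000000000000008780000000000448000000001f00000000012900000000000000000000000000015d1e71b800000000000001390000000000000000000000000000000002d90000000000074e000000560000000000040400000395000ef8000000000dc000000010d40000000000000000000a64002da000001580007262340000000000000000000de8000000000000007755c0000000079200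00000075c000000000000000039e0000000000000019c000000000300000000000000000000000003ad000000000007bc2200000000000000000000000000000000000000087e001dd39f11cf21bc800000000000000000000000000000000000000ded02800562a70002af000000000930000000000000000000000000001e60000000000000000000000000000001d6000000000000000d2000002750001d800000000095b7000000000000000000000000000000000000000001c88b30000000026f0000000000000000000327000ed0c18005fe578000000000000024e00000000000000000000000000000000000033400000000000000005ae98000000000000000001f42f4003621f6000000000000016400031e00000000420640000000000000000000105c00000000000920005a800000000000a4000000000000000007320000000000000000000000000f608a000000000856d2001c28000c40000005c000001608000000000000000000000000000000000000000016e0000000000000000000144000088000000000007e8000007250f800000000e88000004d6001f200000000000000000000000003880000000000004800000000000000aa00000000000000000000000000021c00000000162000000360000000000000032e000dfc00000000000003065e40000024b00000115000000a65bd8000000000000000000000000000000000000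00000678ae000000b30001e058c000000002ec003f700000000000000000000de0000000000000000000000356000003e3000000000000000005380000059e0a800000000000000000000000000000000000000000a3c00000a4800000000e34000000000000023a622000000000000000000032600102800000000000f7000000000000000000000000095800000000000932b400032c002631be0000000000000000000000000000005aa000000b60003ad4d800000000000000000000000000044400000000000000000005a0873d617301800000000001040000004c8000000000011224c00000069800000000000000000000032600000000000000b68000000000007b800000000000000000000023b6ec000b28006360000000000000000000000000000000003e21e29e00000000000000000000000000000000000000000000000000b880034255ca211b00000000000000000004340000000013f00000000000000000962e62ea000eb2e9000b0c00000000000000000006d80000088e0012d800000001588000000000000000000000000000000000000008fc748000003cc00000000000000000000000000000000218800182000000000000000000000000000000000001e880000000000000000000000001fe3b0000000005fc00000000000000000000013f00000000000255000000f100000000000000000000000007fe0000000088600000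0000000014e0cd00000000000000000b000029500800000000000900004382a40000000000000000000001d436400000000294000000000000000000014c0000010300014800000000000000000000003f000000000000e693e1e4000003c200000000000000000003a50000000000034a00000000000f9400000000000740000000000025a000000da80017cac0000005b80000000000058000000000000002e500093c00143000000ba2c200000000000000000000000000000000000000000000000000000005fa0000000000000000000000000c100000000000000000000000001ce000852d1000001600000000000000034c000000000000000000000000000000000000002e40006d0a0b0200000000000000001578000000000000000000000000000cb0000006e89649816e45e000003d4000000000003520021b0000000000000018e3c400000000000000a000000000000000000000000000000000000000000121000000000000000006220a000cddef80000000000000000000be0000007a40041400000068000000000003f90000008b0000000000009c000e4c000000000000000000052800000000000000000008980000000000097000000000bf0000000000000000000000000000000b200038e001a000066800000000000001c380000000000000834ce40036500000000248000000000005dc0000000000000000000000d41a50000001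0400000000249a700000000000000000000000000000000000064623400000000000000000010080032c0000003f8000000000000000000000000000fd400000000d04000000000003600000000000000000cf400000000be0002520000000000000000000015000001be000000e9800000001119b68000000000000000000000000000000000007380000008c000000000000008040000009800000000000000000000000000000000000000000000000000000001fc000790001994bbca0009c6208007a0001e280088800000000000000000000000015900000000000000000000000000000000000079c07a1d0000000000035a69e00000000000000000000000004a403000000000000000020f800000000000000000000000000000000000000001968000e4000002fa000000498000000000023b000001728000000003c8000000000000000000000000000d4400000000000000004a8000000007cf0a8001dd0aa88800253000000000005f20000000000000000019000000002cd548000002130000000000000000000000000000000000000014387338600000000000000002df000000000000860000000000000024000708000002d7000000003760000000037400000000000000000000000007e54080000000000000000b24000003d60000000000000154800000000308000a40000000051e00000000000014000000000000000000000000000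000000000006420000000000017835800000b9c0000000000000000664000002420000000000000000000000000c3c00000000000002600000012b00047e00127a5944c00033000000000000000000000000000000000000000d7c000003c28a000058000000002e800000000000000000000003c80000003c000000000010000000000000000170000000000000000000000000081c7a0001ff00000000000000718000000000000000000000000000000000000000005640015432c0000000051033c001651d2480001300000014b80000000000000000000000000000000033300000000000328000000000000000000054e5cd9f800608000000000007600000000000000000000000000001c600000000000000000000010840010b00000000000000000cd9de00000170800000000b816a6b8000000000000000000000000000000000000000000002b800000000000a196e000001e50000000000000000000000000000000001d9000000000000003d1dbbd9000000000003de00207800000261ec000000001c00000000000000000000124b1300000000000000000000000000000023500000000000000000000006a80000000000013c00331000781870000000000000000073c00000000000000000880000031b0008700022f0000000000000000000000000000eb80047c0011280000000000000000000000000000000025f0ea000000000006e80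00000000001d8300000000001600000000000000002180000000000000033a928000006b6000000000000000000000000000000000000000007e000056b4300000077b4200000000000000de800000000000000001e62a400000000001388003f2000000000000000037e00037400000000000000000002e80000000035c001085300000000000063800000000000003db000000000003120000000000000000000000000000001b2000000005d49a00000000000000000000001200000000000000066000000000000d6400000384000000000000000000000059893000000000ba00025c00220800502000000003ae0000000000000000000000001e9000000001cd8002084700000000045000000000000000c20008d8000000000000000058c000003b900000000000000ec0000000000000038a00000000000000a800000000000027082000001628000000000000000000000000000f0400279000000000000000015a000000001613d40000000000000000000000000df8000007a600104800000000000950000000000000000000000000dc847800000000000007162240000000007c0000000046800000000000ea8b2000000002c7178934000000000000000000000072afe00083c0000022e0000000000000000000000d609e00087600000000000000000fa0003c00000000000000000000001e80000000000000047c000003d300000000000000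000000002ee0000026e0000000000000000000123638000000000000000000000000000000000000000000000000000025a0009438f00000000000000f7000000000000000001b40012f000000000000c3000000000000010b80000000042400000000000000bd3f458c6580000000000000000fd40035100000000000000374000000000008c8000000015c800000000002a20000000000000000176000470000000000000015e000000000000000004480000022a000000000000000000000000000000440001bbad63140000023c00000000000000000000000000000000000000000229000000e800021e001e600000000000000000000000002fc001e28000000000000044a000002090004640030b0003e400000334569eb80029c00000000000000000000000000000000000000000000000000006aa0000032400000000315000ff00004546e00000000000000000000000000000043c000000000000000000000000181800000001778000a2000000000001dc00362000001318000000000000000000000000000001999d900000000000000001858000000003400000000000000000fc58000000000000000000000000004c200000031000000000070004d8000ce1cc0000000000000000000000c04000005c60016c000000000000000000011700000000000000000000a10000000000000076a000d993d000ab8000fb7240006f800000000001a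900000222000000000000000000000000000000000000000000004090000000000000000000135000000000004b0000001850000015f000000000000000000005c000000000dc00000056c003a3000c94000f600000000000000000000000000018d000000000000000000006a80000000000000742000001220000000000087c2ec0000000000000000000d0400000592d7c00000000000000000000007c80000000000000000000000000004c400000596000001970000014e800000da000000000000880000009fd018000000001c800000000000000001b40029a000000000000009cdc30000000000007c72c000000000000000000000000000000000000172110000000000000000000000000ea0004360000000000000000000000000001e9000000ae4000680000000000077eaa000000000000002bd000000000000000000000000000000000764035660000000017680000000000000000001910637e800000000000100000000000019e00084c000000000000000024700000000000000000000000000000000089000000000000fdc00000000d900000000000000000000000000000000000009500000000000812000000006cd04c3f00083ad220600010e0000000000000000000000000000000000019c0142be0000000000026c000002aa000000000000000000000000000000000000000000000010d8000011087f0004ba00058b5e000000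0000000000000000000f24000000000000000000000000000000000002543d6784ca000000000000002ee000cd000000001dfb6600000000000000000000000000000000000000d3a1a4000001c10000000000000000000000180000000000ee000000000000000021e8000000000000000000000000000b2800000000eac000000003500000036e860000007800000000000000000000744000000f800000000000000000000000008a0000f40002e800000000000ad000000001544130000000000000000000000000384001407fa00000139000c28000000000000000000000000000000e30378004e00000000000000000000000000000000000000000000000000000400000000000000014b08400000169000000afc0036c000000002c80000000043c862000000000001b000000000000003b7000001cd800000001eb8000000000007e0000000000000000000390000000002a10ca000000004f600000000000040000007480015b2070000000000000000000000000000000000a600000000740000000000000000000000000000000000000ff046000000000000000001a1c83e0000000000000000029e000a500000000000000000000160003d9000000000004dca88000000000000000000000000000418dc1de000000000000000000000027d0001400000000008400000000000000000000021218600044c00000001034000000000000000000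0664000000007d00000000000000000000000000008920000000000000000000000eb80018f4d600000000182000000c7000000003e70000000000000000082000000000a70000000000041d0000000020c000000000000000012280000040140000000000001af31a00000000000660000000005240000000000000000000000000000000014fa8b000000002500006f40033b32aaec558000005ac00000000000000000004ac000000000000000000000000000000000000f10000000042a0000000000000035c8e000000000003f10004c40034800000000370000000000000000000000065200000000000001ca00000000000000000494000000000011680031600000000000000000ea000000000000003d400000000000dc800000ab4000000000000000000072c002f500068800000000001d60007c800000000000000000002c8001590005520000000000000000000000000003000000000040c000000003bc000000001450004e0000b400068c0000000000000000000000000002d20000000000000000156000434001fb00000000000000000002a3198000003520007b80000000000071000000000000000000000000000000000000252000000000003780000000000000000000000001dd000ba0000004be420000000000000000026a0015e800000001c8000000000a280000000214000000001d500000108000000000000000004daa28000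000000000020b3fa0000000000000000000000000000005269f000000000000000006d6000000000000000000000012c000000000001b000000000002100000016a8000000000000038e00000055000001539ef0eaa600000000000000000000b2c000870000000000000000000000000000000000000000039d0000000000075202c00000000000d600000000000000000000001ed00101c000000000013c0002f2000002f6000000000002fa0000011e000000a9b5600000000000000000e9000000000001900000000000000000000000000cf400222000000b98000000008a3720000000000000000000000000384000000000009c00000000000000000001c7000000001671bf0000000000000112dfb000000fac00000000000000005d6000000000000003e800000000000000000000000063e24000000000c8225000000000000000c000000000000000000000000000000000000000000680000000000c20019fc0f0000000008f000bb000000000000000000000000000048a00000428000000004110000000024600000000000000002090273020000000000000000000000000000000000000000062e9d8002150000000000014400000404000000000007e60000000000000000000000001b0800000e78000000000005b000000530000a00000000025300000000000000000000002460000000000065c00000000501508000000005a00000000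20880000000000000000001419f22680000000043e000ed0000000000000000089c000000000000031600000000000482fc800000000000000000000000000000000000000000000000000000000000000000034800000000000000000017e800668000000000a400182000000000000006388e0000004b000000000000ff432800000ca4000000000000000000078c2b800000000000026a60000000800000000000000000000000000000027a000001598000007d9553bd00000000000000000003e931000000000000000000000000000000051c0011815c000000000000000007580000000000000000be0000000000000009837463800000000000000000000000000000600000000200000d1800000000000003c6000000002c2b88000000000005a8000009dc0036f0000000000000000109000408000000000e200000000000000000007c20000008000000000000000e5c000000000be1b86a000ed800000000000000000000014d8000008180000000000000000000000003d80000000000000000000000000a74000004e800000000500000003aa000e38000000ae000000000000000000000003800000000000000000000021380000053c0026c000000001580000000020d000000003e820a00000425000000000000000000000000000064360000548000000000013a80000000000000000000000000009480000000000000000000000610000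000000000030a000000003484e40027d0000000000073a0012300000000000000202000001b0000000000000005e04c800000000000000000006d800000ca0000007d40000000020c000000000007dc0000000000000000000540000000008c40000000000000000000000000003886ac0000000029000000000000002f951e790000000000000038b00000000261000000000000000013d800000000000000000000000000058400101000001d88002c40000000000106400000696fec000008560018a00000000000000000000000000000021180083c0000000000000000000000000000000000010e8000000000000000019c3b417000000000000000000000000000000000000000ec0000000011b08900000000000000da000000000c28000500000000042000000000000000b8800000000000370006880000002800000000000000000252ac0010e4000005700000000000000000000000ecc000000000000000000000000000000000000000700000007b0000000000057400000000000000000007a20000000070e000000000000000038007600000000000af00000057c0000000070400000000000e5000000000b3800283000000000007621b80000000008d0b0000006ec0000059f114000005a0001420000000000000000000000000000000df0000000001f8000000016e8000000000000000000000000000000001f53ce00000000000f8c00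00000000000000000000000000000f000000060f6c0000000000000031000000000000000000000035e000000000006fc001f2004000001b0000000000000000b4020000000000012a00000000000000000001c51ac00000000000001f10000000000032a000000e7000000f0c5f907000000a8c0b000000003100005b0000001b8000000000000000000000000000000000001e7000000000000000000000000000000000000000001d90000000000000031a00000000752000001346a6000000002c4d10000000000000000000000000000000000000000000000000f00000008800000098030220000000000000007400000000080000000000000000000000000000048000000000000301280002400000000000000000000000000f00000a000000000000000001f0000000000000000006800000000080210000000000001600000000000000070000000001182d000000000001460000014d00000000000000000000000000000000080a0000000016e00000319000a24000000000000000000000000318001060508000005c800000000001b712400000000171000000c10000000021d000000000000000000000000000000000000000441663380000000000000000000000000002090000002d4000000000010b0040000000000000000000000000000160000000000000000005c0000003600000000000000000090000000981a000000000000140000001c0540ac0001800000014800000000000000000000000000000000000000054000190000040000002c000000000000000000700000000014000000000000000000000000000013800010000000000000a00000000000000000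
/-- conjugate of the involution -/
def ev3 : ℕ := 0xa6168240150b81742f05f05e1882705106a088220420c61002c0410621641f83b03c1242506105403c198550601502805209a0b41580009809c0882806c0dc2b82308a060278430b607c1f02607a11c0c8380740b00b8160681580080705c12c0e01d0200481483204a0903000c0080681c81b08c028040140120380580d0400140301300400c1083c
/-- conjugate of the involution -/
def ev7 : ℕ := 0x940340e85a078100028150381800102c02212c1583307a11c0382901c088140360ac18c108340a40241b8010400480785e04a00c2985f0080e00a03a08a1300c0480a80b80b8270260c8120580aa0402804d0600281f82d034138248430180643085b01008c0f03506202c2e03905e1082b82a08213c3101f02c0982301b0a20002e83b07c16422006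
/-- conjugate of the involution -/
def ev5 : ℕ := 0x140102505a00e0c0028250861800305609e160008360740700b8100ae054048340301840683304000c090230b60901e8320440a02083104214c0a00f05a1501604c0901001e05e02609c1b83503402c0b03e05c0742e0420880fc1d84701c000130520100ac0104b0a20a42703905e1140605007007c2481105418c2681b0be1642e86208c0642a81e
/-- an element of order 11 -/
def el11 : ℕ := 0x960c83082c05e1642c05007a1481686302a0180c05d0880940405b0600ec2d03702c0882b84904c1880701e078070170600a2130068290501342081d0000c41a01108e06c218210aa1501f8010401002e01307c0e8298050321781c04f0200cc2400c06a17c0d00b012048158230140100f85609c0500384a08a05c1204206c1180103905403c13803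

theorem in_h1 : InG Q eh1 := word_of (L := [tYi, tW, tW]) mem5 (by simp) (by decide +kernel)
theorem in_h2 : InG Q eh2 := word_of (L := [tY, tY, tW, tY, tWi, tWi, tWi, tX]) mem5 (by simp only [_root_.List.cons_subset, _root_.List.mem_cons, _root_.List.not_mem_nil, _root_.or_false, _root_.true_or, _root_.or_true, _root_.List.nil_subset, _root_.List.subset_cons_of_subset, _root_.and_self]) (by decide +kernel)
theorem in_r1 : InG Q er1 := word_of (L := [tYi, tW, tW, tX, tW, tW, tW, tYi, tWi, tYi, tYi, tX, tW, tW, tW, tYi, tWi,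
  tYi, tYi, tY]) mem5 (by simp only [_root_.List.cons_subset, _root_.List.mem_cons, _root_.List.not_mem_nil, _root_.or_false, _root_.true_or, _root_.or_true, _root_.List.nil_subset, _root_.List.subset_cons_of_subset, _root_.and_self]) (by decide +kernel)
theorem in_r2 : InG Q er2 := word_of (L := [tY, tY, tW, tY, tWi, tWi, tWi, tX, tYi, tW, tW, tX, tW, tW, tW, tYi, tWi,
  tYi, tYi, tX, tW, tW, tW, tYi, tWi, tYi, tYi, tWi, tWi, tY, tYi, tX]) mem5 (by simp only [_root_.List.cons_subset, _root_.List.mem_cons, _root_.List.not_mem_nil, _root_.or_false, _root_.true_or, _root_.or_true, _root_.List.nil_subset, _root_.List.subset_cons_of_subset, _root_.and_self]) (by decide +kernel)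
theorem in_r3 : InG Q er3 := word_of (L := [tWi, tWi, tY, tYi, tWi]) mem5 (by simp) (by decide +kernel)
theorem in_r4 : InG Q er4 := word_of (L := [tX]) mem5 (by simp) (by decide +kernel)
theorem in_v3 : InG Q ev3 := word_of (L := [tY, tX, tYi]) mem5 (by simp only [_root_.List.cons_subset, _root_.List.mem_cons, _root_.List.not_mem_nil, _root_.or_false, _root_.true_or, _root_.or_true, _root_.List.nil_subset, _root_.and_self, _root_.List.subset_cons_of_subset]) (by decide +kernel)
theorem in_v7 : InG Q ev7 := word_of (L := [tW, tY, tW, tY, tX, tYi, tWi, tYi, tWi]) mem5 (by simp only [_root_.List.cons_subset, _root_.List.mem_cons, _root_.List.not_mem_nil, _root_.or_false, _root_.true_or, _root_.or_true, _root_.List.nil_subset, _root_.and_self, _root_.List.subset_cons_of_subset]) (by decide +kernel)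
theorem in_v5 : InG Q ev5 := word_of (L := [tY, tW, tY, tY, tX, tYi, tYi, tWi, tYi]) mem5 (by simp only [_root_.List.cons_subset, _root_.List.mem_cons, _root_.List.not_mem_nil, _root_.or_false, _root_.true_or, _root_.or_true, _root_.List.nil_subset, _root_.and_self, _root_.List.subset_cons_of_subset]) (by decide +kernel)
theorem in_l11 : InG Q el11 := word_of (L := [tW, tYi, tYi, tWi, tY]) mem5 (by simp only [_root_.List.cons_subset, _root_.List.mem_cons, _root_.List.not_mem_nil, _root_.or_false, _root_.true_or, _root_.or_true, _root_.List.nil_subset, _root_.List.subset_cons_of_subset, _root_.and_self]) (by decide +kernel)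

/-! ### `p = 3, 5, 7` -/

theorem sq_of {P : ℕ} {g : Q} (hg : ∀ i : Fin 100, ((g : Perm (Fin 100)) i : ℕ) = lk P i)
    (h : allB (fun i => Nat.beq (ev (List.replicate 2 P) i) i) 100 = true) : g * g = 1 := by
  rw [← pow_two]
  apply Subtype.ext
  refine Equiv.ext fun i => Fin.ext ?_
  rw [pow_of hg]
  exact Nat.eq_of_beq_eq_true ((allB_iff _ _).1 h i i.2)

theorem of_tab (p : ℕ) [Fact p.Prime] {P : ℕ} (hP : InG Q P) (k : ℕ) (i : Fin 100) (hfin : Finite Q)
    (h0 : allB (fun i => Nat.beq (ev (List.replicate 2 P) i) i) 100 = true)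
    (h1 : Nat.beq (ev (List.flatten (List.replicate (p * k) [P, tX])) i.val) i.val = true)
    (h2 : Nat.beq (ev (List.flatten (List.replicate k [P, tX])) i.val) i.val = false) : HasReal p Q := by
  obtain ⟨t, ht⟩ := exists_el hP
  obtain ⟨s, hs⟩ := exists_el inX
  have key : ∀ (n : ℕ) (j : Fin 100), (((Q.subtype (s * t)) ^ n : Perm (Fin 100)) j : ℕ) =
      ev (List.flatten (List.replicate n [P, tX])) j := by
    intro n
    induction n with
    | zero => intro j; rfl
    | succ n ih =>
      intro j
      rw [pow_succ, List.replicate_succ, List.flatten_cons]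
      show (((Q.subtype (s * t)) ^ n : Perm (Fin 100)) ((Q.subtype (s * t)) j) : ℕ) = _
      rw [ih]
      show ev _ ((s : Perm (Fin 100)) ((t : Perm (Fin 100)) j) : ℕ) = _
      rw [hs, ht]
      rfl
  refine hasReal_of_invol Q.subtype (sq_of hs (by decide +kernel)) (sq_of ht h0) (k := k) (i := i) ?_ ?_
  · apply Fin.ext
    rw [key]
    exact Nat.eq_of_beq_eq_true h1
  · intro h
    have h3 := congrArg Fin.val h
    rw [key] at h3
    rw [h3, Nat.beq_refl] at h2
    exact Bool.noConfusion h2

/-! ### `p = 11` -/

def a0 : Fin 100 := 0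
def b0 : Fin 100 := 2

/-- Some element of `Q` swaps the base edge and `{c, d}`. -/
def Good (c d : Fin 100) : Prop := ∃ g ∈ Q, (g : Perm (Fin 100)) '' {a0, b0} = {c, d} ∧
  (g : Perm (Fin 100)) '' {c, d} = {a0, b0}

theorem Good.swap {c d : Fin 100} (h : Good c d) : Good d c := by
  obtain ⟨g, hg, h1, h2⟩ := h
  exact ⟨g, hg, by rw [h1, Set.pair_comm], by rw [Set.pair_comm, h2]⟩

theorem Good.move {c d : Fin 100} (h : Good c d) {k : Perm (Fin 100)} (hk : k ∈ Q)
    (hk0 : k '' {a0, b0} = {a0, b0}) : Good (k c) (k d) := by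
  obtain ⟨g, hg, h1, h2⟩ := h
  have hki : ⇑(k⁻¹ : Perm (Fin 100)) '' {a0, b0} = {a0, b0} := by
    conv_lhs => rw [← hk0]
    rw [← Set.image_comp]
    have : ⇑(k⁻¹ : Perm (Fin 100)) ∘ k = id := by
      funext x
      simp
    rw [this, Set.image_id]
  have hc : ∀ (s : Set (Fin 100)), ⇑(k * g * k⁻¹ : Perm (Fin 100)) '' s = k '' (g '' (⇑(k⁻¹ : Perm (Fin 100)) '' s)) := by
    intro s
    rw [← Set.image_comp, ← Set.image_comp]
    rfl
  have hkc : ⇑(k⁻¹ : Perm (Fin 100)) '' {k c, k d} = {c, d} := by
    rw [Set.image_pair]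
    simp
  refine ⟨k * g * k⁻¹, Q.mul_mem (Q.mul_mem hk hg) (Q.inv_mem hk), ?_, ?_⟩
  · rw [hc, hki, h1, Set.image_pair]
  · rw [hc, hkc, h2, hk0]

/-- A table which maps the pair `(a, b)` to the pair `(c, d)` as sets. -/
def mapsB (P a b c d : ℕ) : Bool :=
  (Nat.beq (lk P a) c && Nat.beq (lk P b) d) || (Nat.beq (lk P a) d && Nat.beq (lk P b) c)

theorem mapsB_spec {P : ℕ} {g : Perm (Fin 100)} (hg : ∀ i : Fin 100, (g i : ℕ) = lk P i) {a b c d : Fin 100}
    (h : mapsB P a b c d = true) : g '' {a, b} = {c, d} := by
  unfold mapsB at h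
  rw [Bool.or_eq_true, Bool.and_eq_true, Bool.and_eq_true] at h
  rw [Set.image_pair]
  rcases h with ⟨h1, h2⟩ | ⟨h1, h2⟩
  · have h3 : g a = c := Fin.ext ((hg a).trans (Nat.eq_of_beq_eq_true h1))
    have h4 : g b = d := Fin.ext ((hg b).trans (Nat.eq_of_beq_eq_true h2))
    rw [h3, h4]
  · have h3 : g a = d := Fin.ext ((hg a).trans (Nat.eq_of_beq_eq_true h1))
    have h4 : g b = c := Fin.ext ((hg b).trans (Nat.eq_of_beq_eq_true h2))
    rw [h3, h4, Set.pair_comm]

theorem good_of_tab {P : ℕ} (hP : InG Q P) {c d : Fin 100} (h1 : mapsB P 0 2 c d = true)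
    (h2 : mapsB P c d 0 2 = true) : Good c d := by
  obtain ⟨g, hg, h3⟩ := hP
  exact ⟨g, hg, mapsB_spec (a := a0) (b := b0) h3 h1, mapsB_spec (c := a0) (d := b0) h3 h2⟩

/-- The check of the `n`-th edge. -/
def stepB (n : ℕ) : Bool :=
  Nat.blt (lk eC n) 100 && Nat.blt (lk eD n) 100 &&
  (Nat.blt n 5 || (Nat.blt (lk eP n) n &&
    (bif Nat.beq (lk eG n) 0 then Nat.beq (lk eh1 (lk eC (lk eP n))) (lk eC n) && Nat.beq (lk eh1 (lk eD (lk eP n))) (lk eD n)
      else Nat.beq (lk eh2 (lk eC (lk eP n))) (lk eC n) && Nat.beq (lk eh2 (lk eD (lk eP n))) (lk eD n))))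

theorem step_all : allB stepB 1100 = true := by decide +kernel

theorem lt_of {n : ℕ} (hn : n < 1100) : lk eC n < 100 ∧ lk eD n < 100 := by
  have h := (allB_iff _ _).1 step_all n hn
  unfold stepB at h
  rw [Bool.and_eq_true, Bool.and_eq_true] at h
  exact ⟨Nat.le_of_ble_eq_true h.1.1, Nat.le_of_ble_eq_true h.1.2⟩

theorem roots_good : ∀ n < 5, ∀ c d : Fin 100, (c : ℕ) = lk eC n → (d : ℕ) = lk eD n → Good c d := by
  intro n hn c d hc hd
  interval_cases n
  · have h1 : c = a0 := Fin.ext (hc.trans (by decide +kernel))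
    have h2 : d = b0 := Fin.ext (hd.trans (by decide +kernel))
    subst h1 h2
    exact ⟨1, Q.one_mem, by simp, by simp⟩
  · have h1 : c = 0 := Fin.ext (hc.trans (by decide +kernel))
    have h2 : d = 38 := Fin.ext (hd.trans (by decide +kernel))
    subst h1 h2
    exact good_of_tab in_r1 (by decide +kernel) (by decide +kernel)
  · have h1 : c = 4 := Fin.ext (hc.trans (by decide +kernel))
    have h2 : d = 11 := Fin.ext (hd.trans (by decide +kernel))
    subst h1 h2
    exact good_of_tab in_r2 (by decide +kernel) (by decide +kernel)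
  · have h1 : c = 10 := Fin.ext (hc.trans (by decide +kernel))
    have h2 : d = 23 := Fin.ext (hd.trans (by decide +kernel))
    subst h1 h2
    exact good_of_tab in_r3 (by decide +kernel) (by decide +kernel)
  · have h1 : c = 1 := Fin.ext (hc.trans (by decide +kernel))
    have h2 : d = 4 := Fin.ext (hd.trans (by decide +kernel))
    subst h1 h2
    exact good_of_tab in_r4 (by decide +kernel) (by decide +kernel)

theorem all_good : ∀ n < 1100, ∀ c d : Fin 100, (c : ℕ) = lk eC n → (d : ℕ) = lk eD n → Good c d := by
  intro n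
  induction n using Nat.strong_induction_on with
  | _ n ih =>
  intro hn c d hc hd
  by_cases h5 : n < 5
  · exact roots_good n h5 c d hc hd
  have h := (allB_iff _ _).1 step_all n hn
  unfold stepB at h
  rw [Bool.and_eq_true, Bool.or_eq_true] at h
  have h1 := h.2.resolve_left (fun hc => h5 (Nat.le_of_ble_eq_true hc))
  rw [Bool.and_eq_true] at h1
  obtain ⟨h2, h3⟩ := h1
  have h2' : lk eP n < n := Nat.le_of_ble_eq_true h2
  have hb := lt_of (h2'.trans hn)
  have hg := ih _ h2' (h2'.trans hn) ⟨_, hb.1⟩ ⟨_, hb.2⟩ rfl rfl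
  cases h4 : Nat.beq (lk eG n) 0
  · rw [h4, cond_false, Bool.and_eq_true] at h3
    obtain ⟨k, hk, h5⟩ := in_h2
    have h6 := hg.move hk (mapsB_spec (a := a0) (b := b0) (c := a0) (d := b0) h5 (by decide +kernel))
    have h7 : k ⟨_, hb.1⟩ = c := Fin.ext (by rw [h5, hc]; exact Nat.eq_of_beq_eq_true h3.1)
    have h8 : k ⟨_, hb.2⟩ = d := Fin.ext (by rw [h5, hd]; exact Nat.eq_of_beq_eq_true h3.2)
    rwa [h7, h8] at h6
  · rw [h4, cond_true, Bool.and_eq_true] at h3
    obtain ⟨k, hk, h5⟩ := in_h1
    have h6 := hg.move hk (mapsB_spec (a := a0) (b := b0) (c := a0) (d := b0) h5 (by decide +kernel))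
    have h7 : k ⟨_, hb.1⟩ = c := Fin.ext (by rw [h5, hc]; exact Nat.eq_of_beq_eq_true h3.1)
    have h8 : k ⟨_, hb.2⟩ = d := Fin.ext (by rw [h5, hd]; exact Nat.eq_of_beq_eq_true h3.2)
    rwa [h7, h8] at h6

/-- The check of a pair. -/
def posB (i j : ℕ) : Bool :=
  !(bitM 100 adjA i j) || (Nat.blt (lk ePos (100 * i + j)) 1100 &&
    ((Nat.beq (lk eC (lk ePos (100 * i + j))) i && Nat.beq (lk eD (lk ePos (100 * i + j))) j) ||
     (Nat.beq (lk eC (lk ePos (100 * i + j))) j && Nat.beq (lk eD (lk ePos (100 * i + j))) i)))

theorem pos_all : allB (fun i => allB (fun j => posB i j) 100) 100 = true := by decide +kernel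

theorem good_of_adj {i j : Fin 100} (h : bitM 100 adjA i j = true) : Good i j := by
  have h1 := (allB_iff _ _).1 ((allB_iff _ _).1 pos_all i i.2) j j.2
  unfold posB at h1
  rw [h, Bool.not_true, Bool.false_or, Bool.and_eq_true] at h1
  obtain ⟨h2, h3⟩ := h1
  have h2' : lk ePos (100 * (i : ℕ) + j) < 1100 := Nat.le_of_ble_eq_true h2
  rw [Bool.or_eq_true, Bool.and_eq_true, Bool.and_eq_true] at h3
  rcases h3 with ⟨h4, h5⟩ | ⟨h4, h5⟩
  · exact all_good _ h2' i j (Nat.eq_of_beq_eq_true h4).symm (Nat.eq_of_beq_eq_true h5).symm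
  · exact (all_good _ h2' j i (Nat.eq_of_beq_eq_true h4).symm (Nat.eq_of_beq_eq_true h5).symm).swap

/-- The stabilizer of the base edge. -/
def stE : Subgroup Q where
  carrier := {g | (g : Perm (Fin 100)) '' {a0, b0} = {a0, b0}}
  one_mem' := by
    show ((1 : Perm (Fin 100)) : Fin 100 → Fin 100) '' _ = _
    simp
  mul_mem' := by
    intro a b ha hb
    show ((a : Perm (Fin 100)) * (b : Perm (Fin 100)) : Perm (Fin 100)) '' _ = _
    have hc : ((a : Perm (Fin 100)) * (b : Perm (Fin 100)) : Perm (Fin 100)) '' {a0, b0} =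
        (a : Perm (Fin 100)) '' ((b : Perm (Fin 100)) '' {a0, b0}) := by
      rw [← Set.image_comp]; rfl
    rw [hc, show (b : Perm (Fin 100)) '' {a0, b0} = {a0, b0} from hb, show (a : Perm (Fin 100)) '' {a0, b0} = {a0, b0} from ha]
  inv_mem' := by
    intro a ha
    show ((a : Perm (Fin 100))⁻¹ : Perm (Fin 100)) '' _ = _
    conv_lhs => rw [← show (a : Perm (Fin 100)) '' {a0, b0} = {a0, b0} from ha]
    rw [← Set.image_comp]
    have : ((a : Perm (Fin 100))⁻¹ : Perm (Fin 100)) ∘ (a : Perm (Fin 100)) = id := by
      funext x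
      simp
    rw [this, Set.image_id]

theorem mem_stE {g : Q} : g ∈ stE ↔ (g : Perm (Fin 100)) '' {a0, b0} = {a0, b0} := Iff.rfl

theorem img_mul (a b : Q) (s : Set (Fin 100)) : ((a * b : Q) : Perm (Fin 100)) '' s =
    (a : Perm (Fin 100)) '' ((b : Perm (Fin 100)) '' s) := by
  rw [← Set.image_comp]; rfl

theorem img_inv {a : Q} {s t : Set (Fin 100)} (h : (a : Perm (Fin 100)) '' s = t) :
    ((a⁻¹ : Q) : Perm (Fin 100)) '' t = s := by
  rw [← h, ← img_mul, inv_mul_cancel]
  show ((1 : Perm (Fin 100)) : Fin 100 → Fin 100) '' s = s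
  simp

theorem selfpaired (x : Q) : ∃ a ∈ stE, ∃ b ∈ stE, x⁻¹ = a * x * b := by
  have hadj : bitM 100 adjA ((x : Perm (Fin 100)) a0) ((x : Perm (Fin 100)) b0) = true := by
    have h1 := (mem_Q_iff.1 x.2).1
    rw [mem_autG] at h1
    rw [h1]
    decide +kernel
  obtain ⟨g, hg, h1, h2⟩ := good_of_adj hadj
  let g' : Q := ⟨g, hg⟩
  have h1' : (g' : Perm (Fin 100)) '' {a0, b0} = {(x : Perm (Fin 100)) a0, (x : Perm (Fin 100)) b0} := h1
  have h2' : (g' : Perm (Fin 100)) '' {(x : Perm (Fin 100)) a0, (x : Perm (Fin 100)) b0} = {a0, b0} := h2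
  have hx : (x : Perm (Fin 100)) '' {a0, b0} = {(x : Perm (Fin 100)) a0, (x : Perm (Fin 100)) b0} := Set.image_pair _ _ _
  refine ⟨x⁻¹ * g', ?_, (g' * x)⁻¹, ?_, ?_⟩
  · rw [mem_stE, img_mul, h1']
    exact img_inv hx
  · refine stE.inv_mem ?_
    rw [mem_stE, img_mul, hx, h2']
  · group

theorem eleven_dvd : 11 ∣ stE.index := by
  have hQ : Nat.card Q = 44352000 := card_Q
  have hfin : Finite Q := Nat.finite_of_card_ne_zero (by rw [hQ]; norm_num)
  have : Fact (Nat.Prime 11) := ⟨by norm_num⟩
  obtain ⟨u, hu⟩ := exists_el in_l11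
  have huo : orderOf u = 11 := orderOf_of hu (by decide +kernel) 0 (by decide +kernel)
  have hfix : ∀ i : Fin 100, (u : Perm (Fin 100)) i = i → i = 97 := by
    intro i hi
    have h1 : allB (fun i => !(Nat.beq (lk el11 i) i) || Nat.beq i 97) 100 = true := by decide +kernel
    have h2 := (allB_iff _ _).1 h1 i i.2
    have h3 : lk el11 i = i := by rw [← hu, hi]
    rw [h3, Nat.beq_refl, Bool.not_true, Bool.false_or] at h2
    exact Fin.ext (Nat.eq_of_beq_eq_true h2)
  have hfinX : Finite (Q ⧸ stE) := inferInstance
  have hP : IsPGroup 11 (zpowers u) := by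
    refine IsPGroup.of_card (n := 1) ?_
    rw [Nat.card_zpowers, huo, pow_one]
  have h1 := hP.card_modEq_card_fixedPoints (Q ⧸ stE)
  have h2 : IsEmpty (MulAction.fixedPoints (zpowers u) (Q ⧸ stE)) := by
    refine ⟨fun z => ?_⟩
    obtain ⟨z, hz⟩ := z
    obtain ⟨q, rfl⟩ := QuotientGroup.mk_surjective z
    have h3 : (QuotientGroup.mk (u * q) : Q ⧸ stE) = QuotientGroup.mk q := hz ⟨u, mem_zpowers u⟩
    rw [QuotientGroup.eq] at h3
    have h4 : q⁻¹ * u * q ∈ stE := by
      have := stE.inv_mem h3
      have h5 : ((u * q)⁻¹ * q)⁻¹ = q⁻¹ * u * q := by group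
      rwa [h5] at this
    -- its square fixes both points
    have key : ∀ v : Q, v ∈ stE → v ^ 11 = 1 → (v : Perm (Fin 100)) a0 = a0 ∧ (v : Perm (Fin 100)) b0 = b0 := by
      intro v hv hv11
      rw [mem_stE, Set.image_pair] at hv
      have h6 : (v : Perm (Fin 100)) a0 = a0 ∨ (v : Perm (Fin 100)) a0 = b0 := by
        have : (v : Perm (Fin 100)) a0 ∈ ({a0, b0} : Set (Fin 100)) := by rw [← hv]; simp
        simpa using this
      have h7 : (v : Perm (Fin 100)) b0 = a0 ∨ (v : Perm (Fin 100)) b0 = b0 := by
        have : (v : Perm (Fin 100)) b0 ∈ ({a0, b0} : Set (Fin 100)) := by rw [← hv]; simp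
        simpa using this
      have hab : a0 ≠ b0 := by decide
      have hinj := (v : Perm (Fin 100)).injective
      rcases h6 with h6 | h6
      · rcases h7 with h7 | h7
        · exact absurd (hinj (h6.trans h7.symm)) hab
        · exact ⟨h6, h7⟩
      · rcases h7 with h7 | h7
        · exfalso
          have h8 : ((v : Perm (Fin 100)) ^ 2) a0 = a0 := by
            rw [pow_two, Perm.mul_apply, h6, h7]
          have h9 : ((v : Perm (Fin 100)) ^ 10) a0 = a0 := by
            rw [show 10 = 2 * 5 by norm_num, pow_mul]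
            have h11 : ∀ n : ℕ, (((v : Perm (Fin 100)) ^ 2) ^ n) a0 = a0 := by
              intro n
              induction n with
              | zero => rfl
              | succ n ih => rw [pow_succ, Perm.mul_apply, h8, ih]
            exact h11 5
          have h10 : ((v : Perm (Fin 100)) ^ 11) a0 = a0 := by
            have : (v : Perm (Fin 100)) ^ 11 = 1 := by
              rw [← SubmonoidClass.coe_pow, hv11]; rfl
            rw [this]; rfl
          rw [pow_succ', Perm.mul_apply, h9, h6] at h10
          exact hab h10.symm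
        · exact absurd (hinj (h6.trans h7.symm)) hab
    have hq11 : (q⁻¹ * u * q) ^ 11 = 1 := by
      have h6 : (q⁻¹ * u * q) ^ 11 = q⁻¹ * u ^ 11 * q := by
        have := conj_pow (i := 11) (a := q⁻¹) (b := u)
        rwa [inv_inv] at this
      rw [h6, ← huo, pow_orderOf_eq_one]
      group
    obtain ⟨h6, h7⟩ := key _ h4 hq11
    have h8 : (u : Perm (Fin 100)) ((q : Perm (Fin 100)) a0) = (q : Perm (Fin 100)) a0 := by
      have : (((q⁻¹ : Q) : Perm (Fin 100)) ((u : Perm (Fin 100)) ((q : Perm (Fin 100)) a0))) = a0 := h6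
      have h9 : ((q⁻¹ : Q) : Perm (Fin 100)) = (q : Perm (Fin 100))⁻¹ := rfl
      rw [h9, Perm.inv_eq_iff_eq] at this
      exact this
    have h9 : (u : Perm (Fin 100)) ((q : Perm (Fin 100)) b0) = (q : Perm (Fin 100)) b0 := by
      have : (((q⁻¹ : Q) : Perm (Fin 100)) ((u : Perm (Fin 100)) ((q : Perm (Fin 100)) b0))) = b0 := h7
      have h9 : ((q⁻¹ : Q) : Perm (Fin 100)) = (q : Perm (Fin 100))⁻¹ := rfl
      rw [h9, Perm.inv_eq_iff_eq] at this
      exact this
    have h10 := (hfix _ h8).trans (hfix _ h9).symm
    exact (by decide : a0 ≠ b0) ((q : Perm (Fin 100)).injective h10)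
  rw [@Nat.card_of_isEmpty _ h2] at h1
  rw [Subgroup.index_eq_card]
  exact (Nat.modEq_zero_iff_dvd).1 h1

theorem hs {p : ℕ} [hp' : Fact p.Prime] (hp2 : p ≠ 2) {X : Type} [Group X] (hd : p ∣ Nat.card X)
    (h : Spor.IsoHS X) : HasReal p X := by
  have hQ : Nat.card Q = 44352000 := card_Q
  have hfin : Finite Q := Nat.finite_of_card_ne_zero (by rw [hQ]; norm_num)
  rw [Cfsg.Agent.NotCT.Orders.hs h] at hd
  obtain ⟨e⟩ := h
  obtain ⟨⟨e'⟩, -⟩ := Cfsg.Agent.HN.AutHS.nonempty_Q
  refine HasReal.congr (e.trans e'.symm).symm ?_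
  have hm := Cfsg.Agent.H852.IMSuz.prime_cases' hp'.out [2, 3, 5, 7, 11] (by decide) 9 hd (by norm_num)
  simp only [List.mem_cons, List.not_mem_nil, or_false] at hm
  rcases hm with rfl | rfl | rfl | rfl | rfl
  · exact absurd rfl hp2
  · exact of_tab 3 in_v3 1 0 hfin (by decide +kernel) (by decide +kernel) (by decide +kernel)
  · exact of_tab 5 in_v5 2 0 hfin (by decide +kernel) (by decide +kernel) (by decide +kernel)
  · exact of_tab 7 in_v7 1 0 hfin (by decide +kernel) (by decide +kernel) (by decide +kernel)
  · exact Cfsg.Agent.H139.RealB0.Crit.of_selfpaired stE eleven_dvd selfpaired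

end Cfsg.Agent.H852.RealHS
end

-- part: H809/RealB0/HN
section
/-!
# REALB0, row `HN`

3, 5, 7, 11: two involutions of `2.HS.2` (permutations of degree 1408); 19: the permutations of degree 1539000, of rank
9 with distinct subdegrees.
-/

set_option autoImplicit false
set_option maxRecDepth 100000

namespace Cfsg.Agent.H809.RealB0.HN

open Cfsg Cfsg.Agent.H661.Spor Cfsg.Agent.HN Cfsg.Agent.HN.P1408 Cfsg.Agent.HN.Index Cfsg.Agent.HN.DCover
  Cfsg.Agent.HN.NormalH

/-- powers of words -/
def pw (l : List ℕ) : ℕ → List ℕ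
  | 0 => []
  | n + 1 => l ++ pw l n

theorem hw_pw (l : List ℕ) (n : ℕ) : hw (pw l n) = hw l ^ n := by
  induction n with
  | zero => rw [pow_zero, pw, hw_nil]
  | succ n ih => rw [pw, hw_append, ih, pow_succ']

theorem eq_one {l : List ℕ} (h : eqw l [] = true) : hw l = 1 :=
  eq_of_tr H0Basic.finite_H0 H0Basic.card_H0_le h

theorem ne_one {l : List ℕ} {p : ℕ} (hp : p < 1408) (hl : okw l = true) (h : Nat.beq (tr l p) p = false) :
    hw l ≠ 1 := by
  intro h1
  have h2 := ψ_hw_inv_apply hl ⟨p, hp⟩
  rw [h1, map_one, inv_one] at h2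
  have h3 : p = tr l p := h2
  rw [← h3, Nat.beq_refl] at h
  exact absurd h (by decide)

/-- two involutions with product of order `p` -/
theorem dih {p : ℕ} (hp : p.Prime) (s x : List ℕ) (hs : eqw (s ++ s) [] = true)
    (h : eqw (pw (s ++ (x ++ (s ++ P1408.iw x))) p) [] = true) {q : ℕ} (hq : q < 1408)
    (ho : okw (s ++ (x ++ (s ++ P1408.iw x))) = true)
    (h1 : Nat.beq (tr (s ++ (x ++ (s ++ P1408.iw x))) q) q = false) : H722.RealP.HasReal p Spor.HN := by
  have e : hw (s ++ (x ++ (s ++ P1408.iw x))) = hw s * (hw x * hw s * (hw x)⁻¹) := by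
    rw [hw_append, hw_append, hw_append, hw_iw, mul_assoc (hw x)]
  have hs' : hw s * hw s = 1 := by
    rw [← hw_append]
    exact eq_one hs
  have key : H722.RealP.HasReal p Pres.H0 := by
    refine HasReal_of_dihedral hp (s := hw s) (t := hw x * hw s * (hw x)⁻¹) hs' ?_ ?_ ?_
    · calc hw x * hw s * (hw x)⁻¹ * (hw x * hw s * (hw x)⁻¹) = hw x * (hw s * hw s) * (hw x)⁻¹ := by group
        _ = 1 := by rw [hs', mul_one, mul_inv_cancel]
    · rw [← e, ← hw_pw]
      exact eq_one h
    · rw [← e]
      exact ne_one hq ho h1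
  obtain ⟨f, -⟩ := exists_mulEquiv H0Basic.finite_H0 H0Basic.card_H0_le XSq.hx_sq_ne
  exact (key.map_equiv f).of_subgroup

theorem real3 : H722.RealP.HasReal 3 Spor.HN :=
  dih (by norm_num) [1, 4, 0] [2] (by decide +kernel) (by decide +kernel) (q := 0)
    (by norm_num) (by decide +kernel) (by decide +kernel)

theorem real5 : H722.RealP.HasReal 5 Spor.HN :=
  dih (by norm_num) [3, 3, 3] [1, 2, 0, 2] (by decide +kernel) (by decide +kernel) (q := 3)
    (by norm_num) (by decide +kernel) (by decide +kernel)

theorem real7 : H722.RealP.HasReal 7 Spor.HN :=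
  dih (by norm_num) [3, 4, 3, 4, 3, 4, 3, 4, 3, 4] [2, 0] (by decide +kernel) (by decide +kernel) (q := 0)
    (by norm_num) (by decide +kernel) (by decide +kernel)

theorem real11 : H722.RealP.HasReal 11 Spor.HN :=
  dih (by norm_num) [3, 4, 2, 2, 3, 4, 2, 2, 3, 4, 2, 2, 3, 4, 2, 2, 3, 4, 2, 2] [4, 0, 3] (by decide +kernel) (by decide +kernel) (q := 0)
    (by norm_num) (by decide +kernel) (by decide +kernel)

/-! ### the permutations of degree 1539000 -/

/-- the subdegrees -/
def sd : Fin 9 → ℕ := ![1, 1408, 2200, 35200, 123200, 354816, 739200, 5775, 277200]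

theorem sz_eq (i : Fin 9) : Count.sz H (w9 i) = sd i := by
  have hdis := DistinctC.hdis
  have s0 : Count.sz H (w9 0) = 1 := by rw [w9_zero]; exact Count.sz_one H
  have s1 : Count.sz H (w9 0) * 1408 = Count.sz H (w9 1) * 1 := balance hdis 0 1
  have s2 : Count.sz H (w9 1) * 50 = Count.sz H (w9 2) * 32 := balance hdis 1 2
  have s3 : Count.sz H (w9 1) * 450 = Count.sz H (w9 3) * 18 := balance hdis 1 3
  have s4 : Count.sz H (w9 1) * 350 = Count.sz H (w9 4) * 4 := balance hdis 1 4
  have s5 : Count.sz H (w9 1) * 504 = Count.sz H (w9 5) * 2 := balance hdis 1 5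
  have s6 : Count.sz H (w9 2) * 672 = Count.sz H (w9 6) * 2 := balance hdis 2 6
  have s7 : Count.sz H (w9 6) * 10 = Count.sz H (w9 7) * 1280 := balance hdis 6 7
  have s8 : Count.sz H (w9 6) * 240 = Count.sz H (w9 8) * 640 := balance hdis 6 8
  fin_cases i
  · show Count.sz H (w9 0) = 1
    (clear * - s0; omega)
  · show Count.sz H (w9 1) = 1408
    omega
  · show Count.sz H (w9 2) = 2200
    (clear * - s0 s1 s2; omega)
  · show Count.sz H (w9 3) = 35200
    omega
  · show Count.sz H (w9 4) = 123200
    omega
  · show Count.sz H (w9 5) = 354816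
    omega
  · show Count.sz H (w9 6) = 739200
    omega
  · show Count.sz H (w9 7) = 5775
    omega
  · show Count.sz H (w9 8) = 277200
    omega

theorem selfpaired : ∀ x : Spor.HN, ∃ a ∈ H, ∃ b ∈ H, x⁻¹ = a * x * b := by
  refine selfpaired_of_orbit H (fun i => (w9 i)⁻¹) (fun g => ?_) fun i j hij => ?_
  · obtain ⟨i, hi⟩ := covers g⁻¹
    obtain ⟨a, ha, b, hb, h⟩ := DoubleCoset.mem_doubleCoset.1 hi
    refine ⟨i, b⁻¹, H.inv_mem hb, a⁻¹, H.inv_mem ha, ?_⟩
    rw [← inv_inv g, h]
    group
  · have h : Count.sz H (w9 i) = Count.sz H (w9 j) := hij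
    rw [sz_eq, sz_eq] at h
    exact (by decide +kernel : ∀ i j : Fin 9, sd i = sd j → i = j) i j h

theorem hn_self {p : ℕ} [hp : Fact p.Prime] (hp2 : p ≠ 2) (hd : p ∣ Nat.card Spor.HN) :
    H702.RealB0.HasReal p Spor.HN := by
  have hm := prime_mem hp.out [(2, 14), (3, 6), (5, 6), (7, 1), (11, 1), (19, 1)] (by norm_num only [_root_.List.mem_cons, _root_.List.not_mem_nil, _root_.or_false, _root_.forall_eq_or_imp, _root_.forall_eq, _root_.and_self])
    (by rw [Cfsg.Agent.S1701.result.2]; norm_num) hd
  simp only [List.map_cons, List.map_nil, List.mem_cons, List.not_mem_nil, or_false] at hm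
  rcases hm with rfl | rfl | rfl | rfl | rfl | rfl
  · exact absurd rfl hp2
  · exact of_real real3
  · exact of_real real5
  · exact of_real real7
  · exact of_real real11
  · refine H139.RealB0.Crit.of_selfpaired H ?_ selfpaired
    rw [index_H DistinctC.hdis]
    norm_num

/-- **REALB0, row `HN`.** -/
theorem hn {p : ℕ} [hp : Fact p.Prime] (hp2 : p ≠ 2) {X : Type*} [Group X] (hd : p ∣ Nat.card X)
    (h : Spor.IsoHN X) : H702.RealB0.HasReal p X := by
  obtain ⟨e⟩ := h
  rw [Nat.card_congr e.toEquiv] at hd
  exact (hn_self hp2 hd).congr e.symm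

end Cfsg.Agent.H809.RealB0.HN
end

-- part: H809/RealB0/Th
section
/-!
# REALB0, row `Th`

3, 5, 7: real elements of `2^{1+8}.A₉`; 13: `³D₄(2)` (`H661.SporTh`); 19, 31: the permutations of degree 143127000, of
rank 11 with distinct subdegrees.
-/

set_option autoImplicit false

namespace Cfsg.Agent.H809.RealB0.Th

open Cfsg Cfsg.Agent.H661.Spor
open Cfsg.Agent.Th.Base Cfsg.Agent.Th.Word Cfsg.Agent.Th.KOracle Cfsg.Agent.Th.IndexUpper
open Cfsg.Agent.Th.IndexBound

theorem real_of_alt {p : ℕ} [hp : Fact p.Prime] (hp2 : p ≠ 2) (h : H722.RealP.HasReal p (alternatingGroup (Fin 9))) :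
    H722.RealP.HasReal p Spor.Th := by
  have hfin : Finite Spor.Th := Cfsg.Agent.Th.Main1700.final.1
  obtain ⟨π, D⟩ := Cfsg.Agent.KFacts.Th.Main.exists_data Cfsg.Agent.KFacts.Th.Main.ctx
  exact HasReal_of_quot hp.out hp2 π.ker (QuotientGroup.quotientKerEquivOfSurjective π D.surj) h

theorem selfpaired : ∀ x : Spor.Th, ∃ a ∈ sub gTh isK, ∃ b ∈ sub gTh isK, x⁻¹ = a * x * b := by
  obtain ⟨g, h⟩ := Cfsg.Agent.Th.Main475.exists_cx
  obtain ⟨hfin, -, -, hind⟩ := Cfsg.Agent.Th.Main1700.final
  obtain ⟨hc, hd⟩ := H707.RowTh.exK h hind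
  have horb : ∀ i : Fin 11, MulAction.orbit (sub gTh isK) (((g i)⁻¹ : Spor.Th) : Spor.Th ⧸ sub gTh isK) =
      orb (sub gTh isK) gTh (g i) := by
    intro i
    ext x
    constructor
    · rintro ⟨⟨k, hk⟩, rfl⟩
      refine ⟨k⁻¹, Subgroup.inv_mem _ hk, ?_⟩
      show ((k * (g i)⁻¹ : Spor.Th) : Spor.Th ⧸ sub gTh isK) = (((g i * k⁻¹)⁻¹ : Spor.Th) : Spor.Th ⧸ sub gTh isK)
      rw [mul_inv_rev, inv_inv]
    · rintro ⟨k, hk, rfl⟩
      refine ⟨⟨k⁻¹, Subgroup.inv_mem _ hk⟩, ?_⟩
      show ((k⁻¹ * (g i)⁻¹ : Spor.Th) : Spor.Th ⧸ sub gTh isK) = (((g i * k)⁻¹ : Spor.Th) : Spor.Th ⧸ sub gTh isK)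
      rw [mul_inv_rev]
  have hfinK : Finite (sub gTh isK) := inferInstance
  refine selfpaired_of_orbit (sub gTh isK) (fun i : Fin 11 => (g i)⁻¹) (fun x => ?_) fun i j hij => ?_
  · obtain ⟨ij, hij⟩ := H707.RowTh.coverP h hind (pt (sub gTh isK) x⁻¹)
    obtain ⟨k, hk, e⟩ := H707.RowTh.piece_orb ij hij
    have e1 : ((x⁻¹⁻¹ : Spor.Th) : Spor.Th ⧸ sub gTh isK) = (((g ij.1 * k)⁻¹ : Spor.Th) : Spor.Th ⧸ sub gTh isK) := e
    rw [QuotientGroup.eq, inv_inv] at e1
    refine ⟨ij.1, k⁻¹, Subgroup.inv_mem _ hk, (x⁻¹ * (g ij.1 * k)⁻¹)⁻¹, Subgroup.inv_mem _ e1, ?_⟩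
    group
  · have h1 : Nat.card (orb (sub gTh isK) gTh (g i)) = Nat.card (orb (sub gTh isK) gTh (g j)) := by
      rw [← horb i, ← horb j]
      exact hij
    rw [hc, hc] at h1
    exact (by decide +kernel : ∀ i j : Fin 11, bN i = bN j → i = j) i j h1

theorem of_index {p : ℕ} (hp : p ∣ 143127000) : H702.RealB0.HasReal p Spor.Th := by
  have hfin : Finite Spor.Th := Cfsg.Agent.Th.Main1700.final.1
  refine H139.RealB0.Crit.of_selfpaired (sub gTh isK) ?_ selfpaired
  rw [Cfsg.Agent.Th.Main1700.final.2.2.2]
  exact hp

theorem th_self {p : ℕ} [hp : Fact p.Prime] (hp2 : p ≠ 2) (hd : p ∣ Nat.card Spor.Th) :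
    H702.RealB0.HasReal p Spor.Th := by
  have hfin : Finite Spor.Th := Cfsg.Agent.Th.Main1700.final.1
  have hm := prime_mem hp.out [(2, 15), (3, 10), (5, 3), (7, 2), (13, 1), (19, 1), (31, 1)] (by norm_num only [_root_.List.mem_cons, _root_.List.not_mem_nil, _root_.or_false, _root_.forall_eq_or_imp, _root_.forall_eq, _root_.and_self])
    (by rw [Cfsg.Agent.Th.Main1700.final.2.1]; norm_num) hd
  simp only [List.map_cons, List.map_nil, List.mem_cons, List.not_mem_nil, or_false] at hm
  rcases hm with rfl | rfl | rfl | rfl | rfl | rfl | rfl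
  · exact absurd rfl hp2
  · exact of_real (real_of_alt hp2 (alt3 (by norm_num)))
  · exact of_real (real_of_alt hp2 (alt5 (by norm_num)))
  · exact of_real (real_of_alt hp2 (Alt.hasReal_alt (by norm_num)))
  · exact of_real H661.Spor.Th.hasReal
  · exact of_index (by norm_num)
  · exact of_index (by norm_num)

/-- **REALB0, row `Th`.** -/
theorem th {p : ℕ} [hp : Fact p.Prime] (hp2 : p ≠ 2) {X : Type*} [Group X] (hd : p ∣ Nat.card X)
    (h : Spor.IsoTh X) : H702.RealB0.HasReal p X := by
  obtain ⟨e⟩ := h
  rw [Nat.card_congr e.toEquiv] at hd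
  exact (th_self hp2 hd).congr e.symm

end Cfsg.Agent.H809.RealB0.Th
end

-- part: H809/RealONLy
section
/-!
# REALB0: the rows `ON`, `Ly`, `HN`, `Th` (helper809), all odd primes
-/

set_option autoImplicit false

namespace Cfsg.Agent.H809.RealONLy

open Cfsg

variable {p : ℕ} [hp : Fact p.Prime] (hp2 : p ≠ 2) {X : Type*} [Group X] (hd : p ∣ Nat.card X)

include hp hp2 hd

theorem on (h : Spor.IsoON X) : H702.RealB0.HasReal p X := RealB0.ON.on hp2 hd h
theorem ly (h : Spor.IsoLy X) : H702.RealB0.HasReal p X := RealB0.Ly.ly hp2 hd h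
theorem hn (h : Spor.IsoHN X) : H702.RealB0.HasReal p X := RealB0.HN.hn hp2 hd h
theorem th (h : Spor.IsoTh X) : H702.RealB0.HasReal p X := RealB0.Th.th hp2 hd h

end Cfsg.Agent.H809.RealONLy
end

-- part: H711/BabySwap
section
/-!
# The rank five action of the Baby Monster: all orbitals are self-paired

`swap`: any two axes (up to sign) of the `4371`-dimensional model are interchanged by an element of the group.
The orbits on pairs are linked by explicit words (kernel checks of images of vectors).
-/

set_option autoImplicit false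

namespace Cfsg.Agent.H711.BabySwap

open Cfsg.Agent.Lib.PermNet Cfsg.Agent.Monster.VecEngine Cfsg.Agent.Monster.VecSpace Cfsg.Agent.BabyM.Conc
  Cfsg.Agent.BabyM.ConcGrp Cfsg.Agent.BabyM.TransInv Cfsg.Agent.BabyM.Inst Cfsg.Agent.BabyM.Model
  Cfsg.Agent.BabyM.InstVec Cfsg.Agent.BabyM.InstZ Cfsg.Agent.BabyM.TransCover Cfsg.Agent.BabyM.TransData
  Cfsg.Agent.BabyM.TransOrd Cfsg.Agent.BabyM.TransFields

/-- Equal up to sign. -/
def Pm (x y : V) : Prop := x = y ∨ x = -y

theorem Pm.refl (x : V) : Pm x x := Or.inl rfl

theorem Pm.symm {x y : V} (h : Pm x y) : Pm y x := by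
  rcases h with rfl | rfl
  · exact Or.inl rfl
  · exact Or.inr (neg_neg _).symm

theorem Pm.trans {x y z : V} (h : Pm x y) (h' : Pm y z) : Pm x z := by
  rcases h with rfl | rfl <;> rcases h' with rfl | rfl
  · exact Or.inl rfl
  · exact Or.inr rfl
  · exact Or.inr rfl
  · exact Or.inl (neg_neg _)

theorem Pm.map {x y : V} (h : Pm x y) (g : V ≃ₗ[ℚ] V) : Pm (g x) (g y) := by
  rcases h with rfl | rfl
  · exact Or.inl rfl
  · exact Or.inr (map_neg _ _)

/-- The pairs are conjugate up to signs. -/
def Cj (x y x' y' : V) : Prop := ∃ g ∈ M.G, Pm (g x) x' ∧ Pm (g y) y'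

theorem Cj.refl (x y : V) : Cj x y x y := ⟨1, M.G.one_mem, Or.inl rfl, Or.inl rfl⟩

theorem Cj.symm {x y x' y' : V} (h : Cj x y x' y') : Cj x' y' x y := by
  obtain ⟨g, hg, h1, h2⟩ := h
  refine ⟨g⁻¹, M.G.inv_mem hg, ?_, ?_⟩
  · have := h1.symm.map g⁻¹
    rwa [inv_apply_self'] at this
  · have := h2.symm.map g⁻¹
    rwa [inv_apply_self'] at this

theorem Cj.trans {x y x' y' x'' y'' : V} (h : Cj x y x' y') (h' : Cj x' y' x'' y'') : Cj x y x'' y'' := by
  obtain ⟨g, hg, h1, h2⟩ := h
  obtain ⟨k, hk, h3, h4⟩ := h'
  exact ⟨k * g, M.G.mul_mem hk hg, (h1.map k).trans h3, (h2.map k).trans h4⟩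

theorem Cj.flip {x y x' y' : V} (h : Cj x y x' y') : Cj y x y' x' := by
  obtain ⟨g, hg, h1, h2⟩ := h
  exact ⟨g, hg, h2, h1⟩

/-- The two vectors are interchanged up to sign. -/
def Sw (x y : V) : Prop := Cj x y y x

theorem Sw.of_cj {x y x' y' : V} (h : Cj x y x' y') (hs : Sw x' y') : Sw x y :=
  (h.trans hs).trans h.flip.symm

/-- Every pair of axes is conjugate to one of the representatives. -/
theorem rep {K₀ : Type} [Group K₀] (A : BAll M K₀) {x y : V} (hx : x ∈ M.D) (hy : y ∈ M.D) :
    ∃ j : Fin 5, ∃ r ∈ (TT j).reps, Cj x y (W r.h M.d₀) (M.d j) := by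
  obtain ⟨g, hg, rfl⟩ := (A.D_eq x).1 hx
  obtain ⟨k, hk, rfl⟩ := (A.D_eq y).1 hy
  have h1 : g⁻¹ (k M.d₀) ∈ M.D :=
    (A.D_eq _).2 ⟨g⁻¹ * k, M.G.mul_mem (M.G.inv_mem hg) hk, rfl⟩
  obtain ⟨j, c, hc, e⟩ := h1
  change Fin 5 at j
  obtain ⟨l, hl, r, hr, hb⟩ := cover j (c⁻¹ M.d₀) ⟨c⁻¹, C.inv_mem hc, rfl⟩
  refine ⟨j, r, hr, l⁻¹ * (c⁻¹ * g⁻¹), M.G.mul_mem (M.G.inv_mem (C_le_G hl.1))
    (M.G.mul_mem (M.G.inv_mem (C_le_G hc)) (M.G.inv_mem hg)), ?_, ?_⟩
  · rw [LinearEquiv.mul_apply, LinearEquiv.mul_apply, inv_apply_self']
    have h2 : Pm (c⁻¹ M.d₀) (l (W r.h M.d₀)) := hb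
    have h3 := h2.map l⁻¹
    rwa [inv_apply_self'] at h3
  · rw [LinearEquiv.mul_apply, LinearEquiv.mul_apply, e, inv_apply_self']
    left
    conv_lhs => rw [← stab_d hl]
    exact inv_apply_self' _ _

/-- The sign of a vector. -/
noncomputable def sn (s : Bool) (x : Pl) : Pl := bif s then neg U x else x

theorem pm_sn (s : Bool) {x : Pl} {z : V} (h : z = (1 / 8 : ℚ) • vecU ℚ U (sn s x)) :
    Pm z ((1 / 8 : ℚ) • vecU ℚ U x) := by
  cases s
  · exact Or.inl h
  · right
    rw [h]
    show (1 / 8 : ℚ) • vecU ℚ U (neg U x) = _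
    rw [vecU_neg, smul_neg]

/-- Images of vectors up to sign by kernel checks. -/
theorem pm_check {h h' v : List Ltr} {x x' : Pl} (s : Bool)
    (h1 : check ((h ++ v).map Ltr.prog) x (h'.map Ltr.prog) (sn s x') = true) :
    Pm (W v (W h ((1 / 8 : ℚ) • vecU ℚ U x))) (W h' ((1 / 8 : ℚ) • vecU ℚ U x')) := by
  have e := W_eq_of_check h1
  rw [W_append, LinearEquiv.mul_apply] at e
  have e1 : W v (W h ((1 / 8 : ℚ) • vecU ℚ U x)) = W h' ((1 / 8 : ℚ) • vecU ℚ U (sn s x')) := by
    rw [map_smul, map_smul, map_smul, e]
  rw [e1]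
  exact (pm_sn s rfl).map _

/-- A word conjugating one pair to another one. -/
theorem link {j j' : Fin 5} {h h' v : List Ltr} (s s' : Bool)
    (h1 : check ((h ++ v).map Ltr.prog) dv0 (h'.map Ltr.prog) (sn s dv0) = true)
    (h2 : check (v.map Ltr.prog) (dv j) [] (sn s' (dv j')) = true) :
    Cj (W h M.d₀) (M.d j) (W h' M.d₀) (M.d j') := by
  refine ⟨W v, W_mem_MG v, ?_, ?_⟩
  · have e := pm_check (h := h) (h' := h') (v := v) (x := dv0) (x' := dv0) s h1
    rwa [← d₀_eq'] at e
  · have e := pm_check (h := []) (h' := []) (v := v) (x := dv j) (x' := dv j') s' h2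
    rwa [W_nil, LinearEquiv.coe_one, id, id, ← M_d_eq, ← M_d_eq] at e

/-! ### The easy orbitals -/

theorem W_X0_d₁ : W [.X0] M.d₁ = M.d₀ := by
  rw [← W_X0, ← LinearEquiv.mul_apply, ← W_append]
  show W [.X0, .X0] M.d₀ = M.d₀
  rw [Cfsg.Agent.BabyM.ConcEq.w_X0, W_nil]
  rfl

theorem sw_base : Sw M.d₁ M.d₀ := ⟨W [.X0], W_mem_MG _, Or.inl W_X0_d₁, Or.inl W_X0⟩

theorem sw_four {j : Fin 5} {r : Cfsg.Agent.BabyM.TransCover.Rep} (hr : r ∈ (TT j).reps) (hc : r.c = -4 ∨ r.c = 4) :
    Sw (W r.h M.d₀) (M.d j) := by
  have hin : r.h.all inC = true := by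
    have h := (ok j).inC
    unfold inCT at h
    rw [Bool.and_eq_true, List.all_eq_true] at h
    exact h.1 r hr
  have hF := F_rep hr
  rcases hc with hc | hc
  · obtain ⟨g, hg, h1, h2⟩ := trans₂ j (W r.h M.d₀) (W_mem_S hin) (by rw [hF, hc]; norm_num)
    exact Sw.of_cj ⟨g, hg, Or.inl h2, Or.inl h1⟩ sw_base
  · obtain ⟨g, hg, h1, h2⟩ := trans₂ j (- W r.h M.d₀) (neg_W_mem_S hin) (by
      rw [map_neg, LinearMap.neg_apply, hF, hc]; norm_num)
    refine Sw.of_cj ⟨g, hg, Or.inr ?_, Or.inl h1⟩ sw_base
    rw [← h2, map_neg, neg_neg]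

section
variable {K₀ : Type} [Group K₀] (A : BAll M K₀)
include A

theorem t₀_d₀ : t₀ M.d₀ = M.d₀ := by
  show M.t₀ (M.u₀ + M.e₀) = M.u₀ + M.e₀
  rw [map_add, A.rep.Q_u₀ _ A.rep.t₀_mem, A.rep.Q_e₀_pos _ A.rep.t₀_mem rfl]

theorem tw_self (v : List Ltr) : W (tw v) (W v M.d₀) = W v M.d₀ := by
  rw [W_tw, LinearEquiv.mul_apply, LinearEquiv.mul_apply, inv_apply_self', t₀_d₀ A]

theorem tw_tw (v : List Ltr) (x : V) : W (tw v) (W (tw v) x) = x := by
  rw [← LinearEquiv.mul_apply, W_tw, tt_mul A]
  rfl

theorem sw_three {j : Fin 5} {r : Cfsg.Agent.BabyM.TransCover.Rep} (hr : r ∈ (TT j).reps) (hn : r.n = 3) :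
    Sw (W r.h M.d₀) (M.d j) := by
  have h := List.all_eq_true.1 (ok j).ord r hr
  unfold ordCheck at h
  rw [show Nat.beq r.n 2 = false by rw [hn]; rfl, cond_false, show Nat.beq r.n 3 = true by rw [hn]; rfl,
    cond_true] at h
  have e := W_eq_of_check h
  rw [W_append, LinearEquiv.mul_apply] at e
  have e1 : W (tw r.h) (M.d j) = W (tw (TT j).path) (W r.h M.d₀) := by
    rw [M_d_eq, map_smul, e, d₀_eq', map_smul, map_smul]
  have e2 := tw_self A r.h
  have e3 := tw_self A (TT j).path
  rw [W_path j] at e3
  refine ⟨W (tw r.h) * W (tw (TT j).path) * W (tw r.h),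
    M.G.mul_mem (M.G.mul_mem (W_mem_MG _) (W_mem_MG _)) (W_mem_MG _), Or.inl ?_, Or.inl ?_⟩
  · rw [LinearEquiv.mul_apply, LinearEquiv.mul_apply, e2, ← e1, tw_tw A]
  · rw [LinearEquiv.mul_apply, LinearEquiv.mul_apply, e1, tw_tw A, e2]

end

/-! ### The orbital of the pairs with product of order four -/

/-- The representative of the pairs with product of order four. -/
def h4 : List Ltr := [.p8, .xi, .p6]

theorem sw4 : Sw (W h4 M.d₀) M.d₀ := by
  refine ⟨W [.h, .p5, .xii, .p6, .X0], W_mem_MG _, ?_, ?_⟩
  · have e := pm_check (h := h4) (h' := []) (v := [.h, .p5, .xii, .p6, .X0]) (x := dv0) (x' := dv0) true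
      (by decide +kernel)
    rwa [W_nil, LinearEquiv.coe_one, id, ← d₀_eq'] at e
  · have e := pm_check (h := []) (h' := h4) (v := [.h, .p5, .xii, .p6, .X0]) (x := dv0) (x' := dv0) true
      (by decide +kernel)
    rwa [W_nil, LinearEquiv.coe_one, id, ← d₀_eq'] at e

/-- The representative of the commuting pairs of the second kind. -/
def h2 : List Ltr := [.p5, .xi, .p4]

def v2 : List Ltr := [.taui, .p10, .hi, .p9, .hi, .p8, .X1, .X5, .X10]

theorem sw2 : Sw (W h2 M.d₀) (M.d (1 : Fin 5)) := by
  refine ⟨W v2, W_mem_MG _, ?_, ?_⟩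
  · have e := pm_check (h := h2) (h' := []) (v := v2) (x := dv0) (x' := dv1) false
      (by decide +kernel)
    rwa [W_nil, LinearEquiv.coe_one, id, ← d₀_eq'] at e
  · have e := pm_check (h := []) (h' := h2) (v := v2) (x := dv1) (x' := dv0) false
      (by decide +kernel)
    rwa [W_nil, LinearEquiv.coe_one, id, ← d₀_eq'] at e

theorem l11 : Cj (W h4 M.d₀) (M.d (0 : Fin 5)) (W [.p8] M.d₀) (M.d (1 : Fin 5)) :=
  link (v := [.p5, .xii, .tau, .p, .h, .p5, .hi, .p8, .X1, .X8]) false false (by decide +kernel)
    (show check _ dv0 [] (sn false dv1) = true from Cfsg.Agent.Monster.VecFast.check_of (by decide +kernel))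

theorem l21 : Cj (W h4 M.d₀) (M.d (0 : Fin 5)) (W [.X0] M.d₀) (M.d (2 : Fin 5)) :=
  link (v := [.p5, .xii, .p8, .xii, .hi, .y3, .p8, .xii, .p7, .xii, .hi, .y3, .p8, .xii, .p2, .taui, .X2, .X3, .X4, .X5,
    .X9, .X10, .Z0]) false false (by decide +kernel)
    (show check _ dv0 [] (sn false dv2) = true from Cfsg.Agent.Monster.VecFast.check_of (by decide +kernel))

theorem l22 : Cj (W [.p8] M.d₀) (M.d (1 : Fin 5)) (W [.p2, .xi] M.d₀) (M.d (2 : Fin 5)) :=
  link (v := [.p8, .xii, .hi, .y3, .p8, .xii, .p2, .taui, .p8, .xi, .p10, .y4, .xii, .hi, .xii, .p2, .X0, .X1, .X3, .X7,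
    .X10, .Z1, .Z0]) false false (by decide +kernel)
    (show check _ dv1 [] (sn false dv2) = true from Cfsg.Agent.Monster.VecFast.check_of (by decide +kernel))

theorem l30 : Cj (W [.p8] M.d₀) (M.d (1 : Fin 5)) (W [] M.d₀) (M.d (3 : Fin 5)) :=
  link (v := [.p, .xi, .p3, .y3, .h, .xi, .p4, .xi, .p3, .y3, .h, .xi, .p4, .xi, .p3, .y3, .h, .xi, .p6, .X0, .X2,
    .taui, .p7, .h, .p7, .hi, .X5, .X6, .X8, .X10, .Z1, .Z2, .Z3, .Z8]) false false (by decide +kernel)
    (show check _ dv1 [] (sn false dv3) = true from Cfsg.Agent.Monster.VecFast.check_of (by decide +kernel))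

theorem l31 : Cj (W [.p8] M.d₀) (M.d (1 : Fin 5)) (W [.p9] M.d₀) (M.d (3 : Fin 5)) :=
  link (v := [.p, .xi, .p3, .y3, .h, .xi, .p, .y2, .p3, .xi, .p3, .y3, .h, .xi, .p6, .taui, .p3, .h, .p10, .hi, .p10,
    .X0, .X3, .X4, .X8, .X9, .X10, .Z0, .Z5, .Z4]) false false (by decide +kernel)
    (show check _ dv1 [] (sn false dv3) = true from Cfsg.Agent.Monster.VecFast.check_of (by decide +kernel))

theorem l41 : Cj (W [.X0] M.d₀) (M.d (2 : Fin 5)) (W [.X0] M.d₀) (M.d (4 : Fin 5)) :=
  link (v := [.X0, .p5, .xii, .hi, .y3, .p8, .xii, .p7, .xii, .hi, .y3, .p8, .xii, .p7, .xii, .hi, .y3, .p8, .xii, .p2,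
    .Z3, .tau, .X2, .X4, .X6, .X9, .Z0, .Z1, .Z4, .Z5, .Z6, .Z8, .Z0, .Z2, .Z4, .Z5, .Z6, .Z10]) false true
    (by decide +kernel)
    (show check _ dv2 [] (sn true dv4) = true from Cfsg.Agent.Monster.VecFast.check_of (by decide +kernel))

theorem l44 : Cj (W [] M.d₀) (M.d (3 : Fin 5)) (W h4 M.d₀) (M.d (4 : Fin 5)) :=
  link (v := [.p9, .xi, .p3, .y3, .h, .xi, .p4, .xi, .p3, .y3, .h, .xi, .p4, .xi, .p3, .y3, .h, .xi, .p6, .tau,
    .p5, .y6, .xi, .p8, .y2, .xii, .p10, .X0, .X2, .X3, .X4, .X5, .X6, .X8, .X9, .Z3, .Z4, .Z5, .Z6, .z]) true false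
    (by decide +kernel)
    (show check _ dv3 [] (sn false dv4) = true from Cfsg.Agent.Monster.VecFast.check_of (by decide +kernel))

theorem l32 : Cj (W h2 M.d₀) (M.d (1 : Fin 5)) (W [.X0, .p9] M.d₀) (M.d (3 : Fin 5)) :=
  link (v := [.p7, .xii, .p4, .xi, .p3, .y3, .h, .xi, .p6, .Z5, .tau, .p3, .h, .p10, .hi, .p10, .X6, .Z1, .Z3])
    false false (by decide +kernel)
    (show check _ dv1 [] (sn false dv3) = true from Cfsg.Agent.Monster.VecFast.check_of (by decide +kernel))

theorem sw4' : Sw (W h4 M.d₀) (M.d (0 : Fin 5)) := by rw [M_d_zero]; exact sw4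

theorem sw_four' {h : List Ltr} {j : Fin 5} (h1 : Cj (W h4 M.d₀) (M.d (0 : Fin 5)) (W h M.d₀) (M.d j)) :
    Sw (W h M.d₀) (M.d j) := Sw.of_cj h1.symm sw4'

/-! ### All pairs -/

theorem sw_rep {K₀ : Type} [Group K₀] (A : BAll M K₀) (j : Fin 5) :
    ∀ r ∈ (TT j).reps, Sw (W r.h M.d₀) (M.d j) := by
  intro r hr
  by_cases h28 : r.c = 28
  · rcases c_le j r hr with ⟨h1, -⟩ | ⟨hj, hh, -⟩
    · omega
    · subst hj
      rw [hh, W_nil, M_d_zero]
      exact Cj.refl _ _
  by_cases hc : r.c = -4 ∨ r.c = 4
  · exact sw_four hr hc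
  by_cases hn : r.n = 3
  · exact sw_three A hr hn
  revert h28 hc hn
  revert r
  fin_cases j
  · show ∀ r ∈ T0.reps, _
    simp only [T0, List.forall_mem_cons, List.not_mem_nil, false_imp_iff, implies_true, and_true]
    refine ⟨fun h => absurd trivial h, fun _ h => absurd (Or.inl trivial) h, fun _ h => absurd (Or.inl trivial) h,
      fun _ _ _ => sw4'⟩
  · show ∀ r ∈ T1.reps, _
    simp only [T1, List.forall_mem_cons, List.not_mem_nil, false_imp_iff, implies_true, and_true]
    exact ⟨fun _ h => absurd (Or.inr trivial) h, fun _ _ _ => sw_four' l11, fun _ _ _ => sw2⟩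
  · show ∀ r ∈ T2.reps, _
    simp only [T2, List.forall_mem_cons, List.not_mem_nil, false_imp_iff, implies_true, and_true]
    exact ⟨fun _ h => absurd (Or.inr trivial) h, fun _ _ _ => sw_four' l21, fun _ _ _ => sw_four' (l11.trans l22),
      fun _ _ h => absurd trivial h⟩
  · show ∀ r ∈ T3.reps, _
    simp only [T3, List.forall_mem_cons, List.not_mem_nil, false_imp_iff, implies_true, and_true]
    exact ⟨fun _ _ _ => sw_four' (l11.trans l30), fun _ _ _ => sw_four' (l11.trans l31),
      fun _ _ _ => Sw.of_cj l32.symm sw2, fun _ _ h => absurd trivial h⟩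
  · show ∀ r ∈ T4.reps, _
    simp only [T4, List.forall_mem_cons, List.not_mem_nil, false_imp_iff, implies_true, and_true]
    exact ⟨fun _ _ h => absurd trivial h, fun _ _ _ => sw_four' (l21.trans l41), fun _ _ h => absurd trivial h,
      fun _ h => absurd (Or.inl trivial) h, fun _ _ _ => sw_four' ((l11.trans l30).trans l44)⟩

/-- **Any two axes are interchanged (up to sign) by an element of the group.** -/
theorem swap {K₀ : Type} [Group K₀] (A : BAll M K₀) {x y : V} (hx : x ∈ M.D) (hy : y ∈ M.D) : Sw x y := by
  obtain ⟨j, r, hr, h⟩ := rep A hx hy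
  exact Sw.of_cj h (sw_rep A j r hr)

end Cfsg.Agent.H711.BabySwap
end

-- part: H711/RealBSwap
section
/-!
# S4918 / S4915, row `B`: the primes dividing the number of transpositions

The rank five action on the `13571955000` transpositions: all orbitals are self-paired.
-/

set_option autoImplicit false

namespace Cfsg.Agent.H711.RealBSwap

open Cfsg Cfsg.Agent.BabyM.Model Cfsg.Agent.BabyM.Inst Cfsg.Agent.BabyM.Instance Cfsg.Agent.H702.RealB0
  Cfsg.Agent.H711.BabySwap

/-- the transposition of the base axis -/
noncomputable def t : M.G := ⟨M.t₀, all.C_le_G all.t₀_C⟩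

theorem index_cent : (Subgroup.centralizer ({t} : Set M.G)).index = 13571955000 := by
  have := all.finite_G
  have h1 := all.card_cent tr
  have h2 := Subgroup.index_mul_card (Subgroup.centralizer ({t} : Set M.G))
  have h3 : Nat.card (Subgroup.centralizer ({t} : Set M.G)) = 306129918735099415756800 := h1
  rw [h3, all.card_G] at h2
  exact Nat.eq_of_mul_eq_mul_right (show 0 < 306129918735099415756800 by norm_num) (h2.trans (by norm_num))

theorem mem_cent {g : M.G} (h : Pm ((g : BabyM.Conc.V ≃ₗ[ℚ] BabyM.Conc.V) M.d₀) M.d₀) :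
    g ∈ Subgroup.centralizer ({t} : Set M.G) := by
  rw [Subgroup.mem_centralizer_singleton_iff]
  exact Subtype.ext (all.t₀_comm _ (all.G_le g.2) h)

theorem selfpaired (x : M.G) : ∃ a ∈ Subgroup.centralizer ({t} : Set M.G),
    ∃ b ∈ Subgroup.centralizer ({t} : Set M.G), x⁻¹ = a * x * b := by
  obtain ⟨k, hk, h1, h2⟩ := swap all all.d₀_mem ((all.D_eq _).2 ⟨x, x.2, rfl⟩)
  refine ⟨((⟨k, hk⟩ : M.G) * x)⁻¹, inv_mem (mem_cent h2), x⁻¹ * ⟨k, hk⟩, mem_cent ?_, by group⟩
  have h3 := h1.map (x : BabyM.Conc.V ≃ₗ[ℚ] BabyM.Conc.V)⁻¹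
  rw [inv_apply_self'] at h3
  exact h3

theorem hasReal_model {p : ℕ} (hp : p ∣ 13571955000) : HasReal p M.G := by
  have := all.finite_G
  exact H139.RealB0.Crit.of_selfpaired _ (by rw [index_cent]; exact hp) selfpaired

end Cfsg.Agent.H711.RealBSwap
end

-- part: H711/RealB
section
/-!
# S4918 / S4915, row `B`
-/

set_option autoImplicit false

namespace Cfsg.Agent.H711.RealB

open Cfsg Cfsg.Agent.BabyM.Inst Cfsg.Agent.BabyM.Instance Cfsg.Agent.H702.RealB0

theorem model {p : ℕ} [Fact p.Prime] (hd : p ∣ 13571955000 ∨ ∃ x : M.G, p ∣ orderOf x ∧ IsConj x x⁻¹) :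
    HasReal p M.G := by
  have := all.finite_G
  rcases hd with hd | ⟨x, h1, h2⟩
  · exact RealBSwap.hasReal_model hd
  · exact H706.RealB.hasReal_of_isConj_inv h1 h2

theorem cases {p : ℕ} (hp : p.Prime) (hp2 : p ≠ 2) (hd : p ∣ 4154781481226426191177580544000000) :
    p ∣ 13571955000 ∨ ∃ x : M.G, p ∣ orderOf x ∧ IsConj x x⁻¹ := by
  have h1 : (4154781481226426191177580544000000 : ℕ) =
      2 ^ 41 * 3 ^ 13 * 5 ^ 6 * 7 ^ 2 * 11 * 13 * 17 * 19 * 23 * 31 * 47 := by norm_num
  rw [h1] at hd
  have key : ∀ {q n : ℕ}, q.Prime → p ∣ q ^ n → p = q := fun hq h =>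
    (Nat.prime_dvd_prime_iff_eq hp hq).1 (hp.dvd_of_dvd_pow h)
  rcases (Nat.Prime.dvd_mul hp).1 hd with hd | hd
  swap
  · left; rw [(Nat.prime_dvd_prime_iff_eq hp (by norm_num)).1 hd]; norm_num
  rcases (Nat.Prime.dvd_mul hp).1 hd with hd | hd
  swap
  · left; rw [(Nat.prime_dvd_prime_iff_eq hp (by norm_num)).1 hd]; norm_num
  rcases (Nat.Prime.dvd_mul hp).1 hd with hd | hd
  swap
  · left; rw [(Nat.prime_dvd_prime_iff_eq hp (by norm_num)).1 hd]; norm_num
  rcases (Nat.Prime.dvd_mul hp).1 hd with hd | hd
  swap
  · right; rw [(Nat.prime_dvd_prime_iff_eq hp (by norm_num)).1 hd]; exact BabyReal.nineteen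
  rcases (Nat.Prime.dvd_mul hp).1 hd with hd | hd
  swap
  · right; rw [(Nat.prime_dvd_prime_iff_eq hp (by norm_num)).1 hd]; exact BabyReal.seventeen
  rcases (Nat.Prime.dvd_mul hp).1 hd with hd | hd
  swap
  · right; rw [(Nat.prime_dvd_prime_iff_eq hp (by norm_num)).1 hd]; exact BabyReal.thirteen
  rcases (Nat.Prime.dvd_mul hp).1 hd with hd | hd
  swap
  · right; rw [(Nat.prime_dvd_prime_iff_eq hp (by norm_num)).1 hd]; exact BabyReal.eleven
  rcases (Nat.Prime.dvd_mul hp).1 hd with hd | hd
  swap
  · right; rw [key (by norm_num) hd]; exact BabyReal.seven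
  rcases (Nat.Prime.dvd_mul hp).1 hd with hd | hd
  swap
  · left; rw [key (by norm_num) hd]; norm_num
  rcases (Nat.Prime.dvd_mul hp).1 hd with hd | hd
  swap
  · left; rw [key (by norm_num) hd]; norm_num
  · exact absurd (key Nat.prime_two hd) hp2

/-- **Row `B`.** -/
theorem b {p : ℕ} [Fact p.Prime] (hp2 : p ≠ 2) {X : Type} [Group X] [Finite X] [IsSimpleGroup X]
    (hd : p ∣ Nat.card X) (h : Spor.IsoB X) : HasReal p X := by
  obtain ⟨e⟩ := h
  rw [Nat.card_congr e.toEquiv, BM.KHAll.card_B] at hd
  exact ((model (cases Fact.out hp2 hd)).congr BM.KHAll.iso.symm).congr e.symm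

end Cfsg.Agent.H711.RealB
end

-- part: H462/RealJanko
section
/-!
# REALB0: the rows `J1`, `J2`, `J3`, `J4` (helper462)

All odd primes have real elements except `J3`, `p = 19` and `J4`, `p = 7`, where the sieve of helper702 applies.
-/

set_option autoImplicit false

namespace Cfsg.Agent.H462.RealJanko

open Subgroup Cfsg Cfsg.Agent.H462.RealJ
open Cfsg.Agent.H702.RealB0 Cfsg.Agent.H702.Sieve

universe u

/-- the row `J1` -/
theorem j1 {p : ℕ} [Fact p.Prime] (hp2 : p ≠ 2) {X : Type} [Group X] [Finite X] [IsSimpleGroup X]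
    (hd : p ∣ Nat.card X) (h : Spor.IsoJ1 X) : HasReal p X := RealJ.j1 hp2 hd h

/-- the row `J2` -/
theorem j2 {p : ℕ} [Fact p.Prime] (hp2 : p ≠ 2) {X : Type} [Group X] [Finite X] [IsSimpleGroup X]
    (hd : p ∣ Nat.card X) (h : Spor.IsoJ2 X) : HasReal p X := RealJ.j2 hp2 hd h

/-- a self-centralizing real element excludes -/
theorem nonab_of {S : Type u} [Group S] [Finite S] (h : ¬ ∀ x y : S, x * y = y * x) : ¬ IsMulCommutative S :=
  fun hc => h hc.is_comm.comm

section J3

variable {S : Type u} [Group S] [Finite S] [IsSimpleGroup S]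

theorem arith19 {n : ℕ} (hn : n ∣ 50232960) (h2 : ¬ 2 ∣ n) (h5 : ¬ 5 ∣ n) (h17 : ¬ 17 ∣ n)
    (h19 : n % 19 = 9 ∨ n % 19 = 10) : n = 9 := by
  have c2 : n.Coprime (2 ^ 7 * 5 * 17 * 19) := by
    have k : ∀ q : ℕ, q.Prime → ¬ q ∣ n → n.Coprime q := fun q hq h => ((Nat.Prime.coprime_iff_not_dvd hq).2 h).symm
    exact Nat.Coprime.mul_right (Nat.Coprime.mul_right (Nat.Coprime.mul_right
      (Nat.Coprime.pow_right _ (k 2 Nat.prime_two h2)) (k 5 (by norm_num) h5)) (k 17 (by norm_num) h17))
      (k 19 (by norm_num) (by (clear * - h19; omega)))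
  have h3 : n ∣ 243 := by
    refine c2.dvd_of_dvd_mul_left ?_
    rw [show 2 ^ 7 * 5 * 17 * 19 * 243 = 50232960 by norm_num]
    exact hn
  have h4 : n ∈ Nat.divisors 243 := Nat.mem_divisors.2 ⟨h3, by norm_num⟩
  have h6 : Nat.divisors 243 = {1, 3, 9, 27, 81, 243} := by decide +kernel
  rw [h6] at h4
  simp only [Finset.mem_insert, Finset.mem_singleton] at h4
  (clear * - h19 h4; omega)

theorem j3_nineteen (h : Spor.IsoJ3 S) : HasReal 19 S := by
  have hp : Fact (Nat.Prime 19) := ⟨by norm_num⟩
  have h17 : Fact (Nat.Prime 17) := ⟨by norm_num⟩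
  have h2 : Fact (Nat.Prime 2) := ⟨Nat.prime_two⟩
  have h5f : Fact (Nat.Prime 5) := ⟨by norm_num⟩
  have hc : Nat.card S = 50232960 := card_of_isoJ3 h
  have hna : ¬ IsMulCommutative S := nonab_of (nonab_of_card (by rw [hc]; norm_num))
  by_contra hno
  obtain ⟨E⟩ := exists_exc (by norm_num) hna (by rw [hc]; norm_num) (by rw [hc]; norm_num) hno
  -- `e = 9`
  obtain ⟨a, ha⟩ := exists_prime_orderOf_dvd_card' (G := S) 2 (by rw [hc]; norm_num)
  have ha2 : a * a = 1 := by rw [← pow_two, ← ha, pow_orderOf_eq_one]
  have ha1 : a ≠ 1 := by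
    rintro rfl
    rw [orderOf_one] at ha
    norm_num at ha
  have he3 := E.e_ne_three (by norm_num) hna ha2 ha1
  have het := E.het
  have he : E.e = 9 := by
    obtain ⟨m, hm⟩ := E.odd_e
    have h5 := E.one_lt_e
    have h6 : E.e ∣ 18 := Dvd.intro _ het
    have h7 : E.e ∈ Nat.divisors 18 := Nat.mem_divisors.2 ⟨h6, by norm_num⟩
    have h8 : Nat.divisors 18 = {1, 2, 3, 6, 9, 18} := by decide
    rw [h8] at h7
    simp only [Finset.mem_insert, Finset.mem_singleton] at h7
    omega
  have ht : E.t = 2 := by
    rw [he] at het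
    omega
  -- the degree
  have hpos := E.v_one_pos
  obtain ⟨n, hn⟩ : ∃ n : ℕ, E.v 1 = n := ⟨(E.v 1).toNat, by omega⟩
  have hnd : n ∣ 50232960 := by
    have h3 := E.v_one_dvd
    rw [hn, hc] at h3
    exact_mod_cast h3
  have hn2 : ¬ 2 ∣ n := by
    have h3 := E.odd_v_one
    rw [hn] at h3
    obtain ⟨k, hk⟩ := h3
    omega
  have nd : ∀ r : ℕ, (r = 5 ∨ r = 17) → ¬ r ∣ n := by
    intro r hr hd
    have hrp : Fact r.Prime := ⟨by rcases hr with rfl | rfl <;> norm_num⟩
    obtain ⟨g, hg, hreal⟩ := real_J3 h (p := r) (by omega)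
    refine E.not_pow_dvd (n := 1) hrp.out (by rw [hc, pow_one]; rcases hr with rfl | rfl <;> norm_num)
      (by rw [hc]; rcases hr with rfl | rfl <;> norm_num) (g := g)
      (by rw [hg]; rcases hr with rfl | rfl <;> norm_num) (by rw [hg]) hreal ?_
    rw [hn, pow_one]
    exact_mod_cast hd
  have h19 : n % 19 = 9 ∨ n % 19 = 10 := by
    have h3 := E.dvd_sub
    have h9 : (E.e : ℤ) = 9 := by rw [he]; rfl
    rw [hn] at h3
    rcases E.B.d_eq with hd | hd
    · rw [hd] at h3; left; push_cast at h3; (clear * - he h3; omega)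
    · rw [hd] at h3; right; push_cast at h3; (clear * - he h3; omega)
  have hn9 := arith19 hnd hn2 (nd 5 (Or.inl rfl)) (nd 17 (Or.inr rfl)) h19
  rw [hn9] at hn
  -- an element of order 17
  obtain ⟨P⟩ : Nonempty (Sylow 17 S) := inferInstance
  obtain ⟨hP, hC, -⟩ := H95.JThree.seventeen h (fun i hi => ((CpAutJThree.base h).2.1 i hi).2.1) P
  obtain ⟨g, hg⟩ := exists_prime_orderOf_dvd_card' (G := (P : Subgroup S)) 17 (by rw [hP])
  have hg' : orderOf (g : S) = 17 := by rw [Subgroup.orderOf_coe, hg]
  have hz : (P : Subgroup S) = zpowers (g : S) := by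
    symm
    exact eq_of_le_of_card_ge (zpowers_le.2 g.2) (by rw [Nat.card_zpowers, hg', hP])
  have hreg : ¬ 19 ∣ orderOf (g : S) := by rw [hg']; norm_num
  have h3 := E.col hreg
  rw [hz, H858.NormC.centralizer_zpowers] at hC
  rw [hC, ht] at h3
  have h4 := E.congr_one (s := 17) (by norm_num) (by norm_num) (a := (g : S)) ⟨1, by rw [hg', pow_one]⟩
  rw [hn] at h4
  push_cast at h3 h4
  have h5 : E.v (g : S) < 3 := by nlinarith only [h3]
  have h6 : -3 < E.v (g : S) := by nlinarith only [h3]
  omega

/-- the row `J3` -/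
theorem j3 {p : ℕ} [hp : Fact p.Prime] (hp2 : p ≠ 2) {X : Type} [Group X] [Finite X] [IsSimpleGroup X]
    (hd : p ∣ Nat.card X) (h : Spor.IsoJ3 X) : HasReal p X := by
  rw [card_of_isoJ3 h] at hd
  by_cases h19 : p = 19
  · subst h19
    exact j3_nineteen h
  · obtain ⟨x, hx, hr⟩ := real_J3 h (p := p) (by have := prime_cases_J3 hp.out hd; omega)
    exact hasReal_of_real hx hr

end J3

section J4

theorem j4_seven : HasReal 7 Spor.J4 := by
  have hp : Fact (Nat.Prime 7) := ⟨by norm_num⟩
  have h2 : Fact (Nat.Prime 2) := ⟨Nat.prime_two⟩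
  have hs : IsSimpleGroup Spor.J4 := Cfsg.Agent.S1703.result.1
  have hc := card_J4
  have hfin : Finite Spor.J4 := Nat.finite_of_card_ne_zero (by rw [hc]; norm_num)
  have hna : ¬ IsMulCommutative Spor.J4 := nonab_of (nonab_of_card (by rw [hc]; norm_num))
  by_contra hno
  obtain ⟨E⟩ := exists_exc (by norm_num) hna (by rw [hc]; norm_num) (by rw [hc]; norm_num) hno
  obtain ⟨a, ha⟩ := exists_prime_orderOf_dvd_card' (G := Spor.J4) 2 (by rw [hc]; norm_num)
  have ha2 : a * a = 1 := by rw [← pow_two, ← ha, pow_orderOf_eq_one]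
  have ha1 : a ≠ 1 := by
    rintro rfl
    rw [orderOf_one] at ha
    norm_num at ha
  have he3 := E.e_ne_three (by norm_num) hna ha2 ha1
  obtain ⟨m, hm⟩ := E.odd_e
  have h5 := E.one_lt_e
  have h6 : E.e ∣ 6 := Dvd.intro _ E.het
  have h7 : E.e ∈ Nat.divisors 6 := Nat.mem_divisors.2 ⟨h6, by norm_num⟩
  have h8 : Nat.divisors 6 = {1, 2, 3, 6} := by decide
  rw [h8] at h7
  simp only [Finset.mem_insert, Finset.mem_singleton] at h7
  omega

/-- the row `J4` -/
theorem j4 {p : ℕ} [hp : Fact p.Prime] (hp2 : p ≠ 2) {X : Type} [Group X] [Finite X] [IsSimpleGroup X]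
    (hd : p ∣ Nat.card X) (h : Spor.IsoJ4 X) : HasReal p X := by
  obtain ⟨e⟩ := h
  rw [Nat.card_congr e.toEquiv] at hd
  have hfin : Finite Spor.J4 := Finite.of_equiv X e.toEquiv
  by_cases h7 : p = 7
  · subst h7
    exact j4_seven.congr e.symm
  · obtain ⟨x, hx, hr⟩ := real_J4 hp2 h7 hd
    exact (hasReal_of_real hx hr).congr e.symm

end J4

end Cfsg.Agent.H462.RealJanko
end

-- part: H702/RealSporAll
section
/-!
# REALB0: the sporadic rows
-/

set_option autoImplicit false

namespace Cfsg.Agent.H702.RealSporAll

open Cfsg Cfsg.Agent.H702.RealB0 Cfsg.Agent.H702.RealTable Cfsg.Agent.H702.RealSpor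

/-- all sporadic rows, the Monster as a hypothesis -/
theorem rows {p : ℕ} [hp : Fact p.Prime] (hp2 : p ≠ 2)
    (m : RowFor p (fun X _ => Spor.IsoM X)) : SporRows p where
  m11 X _ _ _ _ hd h := H447.RealMathieu.m11 hp2 hd h
  m12 X _ _ _ _ hd h := H447.RealMathieu.m12 hp2 hd h
  m22 X _ _ _ _ hd h := H447.RealMathieu.m22 hp2 hd h
  m23 X _ _ _ _ hd h := H447.RealMathieu.m23 hp2 hd h
  m24 X _ _ _ _ hd h := H447.RealMathieu.m24 hp2 hd h
  j1 X _ _ _ _ hd h := H462.RealJanko.j1 hp2 hd h
  j2 X _ _ _ _ hd h := H462.RealJanko.j2 hp2 hd h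
  j3 X _ _ _ _ hd h := H462.RealJanko.j3 hp2 hd h
  j4 X _ _ _ _ hd h := H462.RealJanko.j4 hp2 hd h
  co1 X _ _ _ _ hd h := H474.RealCo.co1 hp2 hd h
  co2 X _ _ _ _ hd h := H474.RealCo.co2 hp2 hd h
  co3 X _ _ _ _ hd h := H474.RealCo.co3 hp2 hd h
  mcl X _ _ _ _ hd h := H852.RealMcL.mcl hp2 hd h
  hs X _ _ _ _ hd h := H852.RealHS.hs hp2 hd h
  suz X _ _ _ _ hd h := H852.RealSuz.suz hp2 hd h
  he X _ _ _ _ hd h := H852.RealSuz.he hp2 hd h
  ru X _ _ _ _ hd h := H852.RealRu.ru hp2 hd h
  on X _ _ _ _ hd h := H809.RealONLy.on hp2 hd h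
  ly X _ _ _ _ hd h := H809.RealONLy.ly hp2 hd h
  fi22 X _ _ _ _ hd h := H30.RealFi.fi22 hp2 hd h
  fi23 X _ _ _ _ hd h := H30.RealFi.fi23 hp2 hd h
  fi24 X _ _ _ _ hd h := H30.RealFi.fi24 hp2 hd h
  hn X _ _ _ _ hd h := H809.RealONLy.hn hp2 hd h
  th X _ _ _ _ hd h := H809.RealONLy.th hp2 hd h
  b X _ _ _ _ hd h := H711.RealB.b hp2 hd h
  m := m

end Cfsg.Agent.H702.RealSporAll
end

private theorem dce_073bfea27611 : _root_.True := by
  try have : _root_.True := by simp only [_root_.Cfsg.Agent.BabyM.TransData.T4.eq_1]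
  try have : _root_.True := by simp only [_root_.Cfsg.Agent.H809.RealB0.HN.pw.eq_1]
  try have : _root_.True := by simp only [_root_.Cfsg.Agent.H809.RealB0.HN.pw.eq_2]
  try have : _root_.True := by simp only [_root_.Cfsg.Agent.BabyM.TransData.T2.eq_1]
  try have : _root_.True := by simp only [_root_.Cfsg.Agent.BabyM.TransData.T3.eq_1]
  try have : _root_.True := by simp only [_root_.Cfsg.Agent.BabyM.TransData.T1.eq_1]
  try have : _root_.True := by simp only [_root_.Cfsg.Agent.H809.RealB0.HN.pw.eq_def]
  exact _root_.True.intro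
end

-- part: H436/RealMFin
section
set_option linter.all false

/-!
# Real characters in the principal `p`-blocks of the Monster, `p = 23, 31, 47`, without hypotheses (helper436)
-/

set_option autoImplicit false

open Cfsg

namespace Cfsg.Agent.H436.RealMFin

universe u

/-- **The Monster, `p = 23, 31, 47`.** -/
theorem hasReal {p : ℕ} (hp : p = 23 ∨ p = 31 ∨ p = 47) {X : Type u} [Group X] (h : Spor.IsoM X) :
    Cfsg.Agent.H702.RealB0.HasReal p X :=
  RealM.hasReal (Cfsg.Agent.H241.NH.three_of fun X hX hC => Cfsg.Agent.S3331.result X hX hC)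
    (fun _ _ _ _ => Cfsg.Agent.S0000.result) hp h

end Cfsg.Agent.H436.RealMFin
end

-- part: H424/RealOrth
section
prune_inst 0x10104100042200000018000002001c42b2000000004808000000000005802c4020000021a02000120080004400300040110004000200000000000000013d0689000000000000a000000000000000000000000000000000000000000000000000200402000
set_option linter.all false
open scoped Cfsg.Agent.FastGrp

-- part: H424/RealPts
section
/-!
# Singular points of orthogonal spaces: two of them are interchanged by `Ω` (helper424, REALB0-ORTH)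

* `swap` : any two singular points are interchanged by an element of `P Q = E Q / Z`;
* `card_SP_mul` : the number of singular points;
* `hasReal_plus`, `hasReal_minus`, `hasReal_odd` : `HasReal p` for the primes `p` dividing the number of points.
-/

set_option autoImplicit false

namespace Cfsg.Agent.H424.RealPts

open QuadraticMap Cfsg.Agent.LieClassical.OrthCore Cfsg.Agent.LieClassical.OrthTrans
  Cfsg.Agent.LieClassical.OrthSimple Cfsg.Agent.ClassicalGeometry.OrthSemi
  Cfsg.Agent.ClassicalGeometry.OrthAut1 Cfsg.Agent.ClassicalGeometry.OrthSemiForms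
  Cfsg.Agent.LieClassical.OrthForms Cfsg.Agent.H989.HasInvOrth Cfsg.Agent.H884.SingMax

open Cfsg.Agent.H702.RealB0

universe u

section Gen

variable {F V : Type u} [Field F] [AddCommGroup V] [Module F V] {Q : QuadraticForm F V}

theorem perp_span {x y : V} (h : Perp Q (Submodule.span F {x}) y) : polar Q x y = 0 :=
  h x (Submodule.mem_span_singleton_self x)

theorem perp_span' {x y : V} (h : polar Q x y = 0) : Perp Q (Submodule.span F {x}) y := by
  intro w hw
  obtain ⟨a, rfl⟩ := Submodule.mem_span_singleton.1 hw
  rw [polar_smul_left, h, smul_zero]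

/-- two independent singular vectors are interchanged up to scalars -/
theorem swap_vec [FiniteDimensional F V] (hG : Good Q) {x y : V} (hx0 : x ≠ 0) (hy0 : y ≠ 0) (hx : Q x = 0)
    (hy : Q y = 0) (hxy : ∀ a : F, x ≠ a • y) :
    ∃ g ∈ E Q, (∃ a : F, a ≠ 0 ∧ g x = a • y) ∧ ∃ b : F, b ≠ 0 ∧ g y = b • x := by
  obtain ⟨g₁, hg₁, h1⟩ := hG.trans_sing hx hy hx0 hy0
  have hO := E_le_O hg₁
  have hg₁y : Q (g₁ y) = 0 := by rw [mem_O.1 hO, hy]
  have hW : ∀ w ∈ Submodule.span F {y}, Q w = 0 := by
    intro w hw
    obtain ⟨a, rfl⟩ := Submodule.mem_span_singleton.1 hw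
    rw [QuadraticMap.map_smul, hy, smul_zero]
  have hpol : polar Q y (g₁ y) = polar Q x y := by
    have h2 : polar Q (g₁ x) (g₁ y) = polar Q x y := by
      rw [polar, polar, ← map_add, mem_O.1 hO, mem_O.1 hO, mem_O.1 hO]
    rwa [h1] at h2
  by_cases h0 : polar Q x y = 0
  · -- orthogonal points
    have hdim : 2 * Module.finrank F (Submodule.span F {y}) + 3 ≤ Module.finrank F V := by
      rw [finrank_span_singleton hy0]
      have := hG.dim
      omega
    obtain ⟨g₂, hg₂, h2, b, hb, h3⟩ := trans_in hG.nondeg (W := Submodule.span F {y}) hdim (x := g₁ y) (y := x) hg₁y hx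
      (perp_span' (by rw [hpol, h0])) (perp_span' (by rw [polar_comm]; exact h0)) (by
        intro hm
        obtain ⟨a, ha⟩ := Submodule.mem_span_singleton.1 hm
        have ha0 : a ≠ 0 := by
          rintro rfl
          rw [zero_smul] at ha
          exact hy0 (g₁.map_eq_zero_iff.1 ha.symm)
        apply hxy a⁻¹
        apply g₁.injective
        rw [h1, map_smul, ← ha, smul_smul, inv_mul_cancel₀ ha0, one_smul]) (by
        intro hm
        obtain ⟨a, ha⟩ := Submodule.mem_span_singleton.1 hm
        exact hxy a ha.symm)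
    refine ⟨g₂ * g₁, E_mul hg₂ hg₁, ⟨1, one_ne_zero, ?_⟩, b, hb, ?_⟩
    · show g₂ (g₁ x) = _
      rw [h1, h2 _ (Submodule.mem_span_singleton_self y), one_smul]
    · show g₂ (g₁ y) = _
      exact h3
  · -- a hyperbolic pair
    obtain ⟨g₂, hg₂, h2, b, hb, h3⟩ := trans_out (Q := Q) (W := Submodule.span F {y}) hW (x := g₁ y) (y := x) hg₁y hx
      (fun h => h0 (by rw [← hpol]; exact perp_span h)) (fun h => h0 (by rw [polar_comm]; exact perp_span h))
    obtain ⟨a, ha⟩ := Submodule.mem_span_singleton.1 (h2 _ (Submodule.mem_span_singleton_self y))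
    refine ⟨g₂ * g₁, E_mul hg₂ hg₁, ⟨a, ?_, ?_⟩, b, hb, ?_⟩
    · rintro rfl
      rw [zero_smul] at ha
      exact hy0 (g₂.map_eq_zero_iff.1 ha.symm)
    · show g₂ (g₁ x) = _
      rw [h1, ha]
    · show g₂ (g₁ y) = _
      exact h3

/-- **Two singular points are interchanged.** -/
theorem swap [FiniteDimensional F V] (hG : Good Q) : letI := act hG; ∀ L L' : SP Q, ∃ g : P Q, g • L = L' ∧ g • L' = L := by
  let _ := act hG
  intro L L'
  by_cases h : ∃ a : F, L.vec = a • L'.vec
  · obtain ⟨a, ha⟩ := h
    have ha0 : a ≠ 0 := by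
      rintro rfl
      rw [zero_smul] at ha
      exact L.vec_ne ha
    have : L = L' := by
      apply Subtype.ext
      rw [L.span_vec, L'.span_vec, ha, span_smul ha0]
    subst this
    exact ⟨1, one_smul _ _, one_smul _ _⟩
  · push Not at h
    obtain ⟨g, hg, ⟨a, ha, h1⟩, b, hb, h2⟩ := swap_vec hG L.vec_ne L'.vec_ne L.vec_sing L'.vec_sing h
    refine ⟨(QuotientGroup.mk (⟨g, hg⟩ : ↥(E Q)) : P Q), ?_, ?_⟩
    · apply Subtype.ext
      show mapHom g L.1 = L'.1
      rw [L.span_vec, L'.span_vec, mapHom_span, h1, span_smul ha]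
    · apply Subtype.ext
      show mapHom g L'.1 = L.1
      rw [L.span_vec, L'.span_vec, mapHom_span, h2, span_smul hb]

/-- the number of singular points -/
theorem card_SP_mul [Finite F] [Finite V] :
    Nat.card (SP Q) * (Nat.card F - 1) = Nat.card {v : V // Q v = 0} - 1 := by
  classical
  have hfin : Finite (SP Q) := Subtype.finite
  let f : SP Q × Fˣ → {v : {v : V // Q v = 0} // v ≠ ⟨0, map_zero Q⟩} := fun z =>
    ⟨⟨(z.2 : F) • z.1.vec, by rw [QuadraticMap.map_smul, z.1.vec_sing, smul_zero]⟩, by
      intro h
      have h1 : (z.2 : F) • z.1.vec = 0 := congrArg Subtype.val h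
      rcases smul_eq_zero.1 h1 with h2 | h2
      · exact z.2.ne_zero h2
      · exact z.1.vec_ne h2⟩
  have hf : Function.Bijective f := by
    constructor
    · rintro ⟨L, a⟩ ⟨L', b⟩ h
      have h1 : (a : F) • L.vec = (b : F) • L'.vec := congrArg (fun z => z.1.1) h
      have h2 : L = L' := by
        apply Subtype.ext
        rw [L.span_vec, L'.span_vec, ← span_smul a.ne_zero L.vec, h1, span_smul b.ne_zero]
      subst h2
      have h3 : ((a : F) - b) • L.vec = 0 := by rw [sub_smul, h1, sub_self]
      rcases smul_eq_zero.1 h3 with h4 | h4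
      · rw [Units.ext (sub_eq_zero.1 h4)]
      · exact absurd h4 L.vec_ne
    · rintro ⟨⟨v, hv⟩, hv0⟩
      have hv1 : v ≠ 0 := fun h => hv0 (Subtype.ext h)
      let L : SP Q := pt hv1 hv
      have h1 : Submodule.span F {v} = Submodule.span F {L.vec} := L.span_vec
      obtain ⟨a, ha, h2⟩ := span_eq_iff hv1 h1
      refine ⟨(L, Units.mk0 a ha), ?_⟩
      apply Subtype.ext
      apply Subtype.ext
      exact h2.symm
  have h1 := Nat.card_congr (Equiv.ofBijective f hf)
  rw [Nat.card_prod, Nat.card_units] at h1
  rw [h1]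
  have h2 := Nat.card_congr (Equiv.sumCompl (fun v : {v : V // Q v = 0} => v = ⟨0, map_zero Q⟩))
  rw [Nat.card_sum] at h2
  have h3 : Nat.card {v : {v : V // Q v = 0} // v = ⟨0, map_zero Q⟩} = 1 := by
    rw [Nat.card_eq_one_iff_unique]
    exact ⟨⟨fun a b => Subtype.ext (a.2.trans b.2.symm)⟩, ⟨⟨_, rfl⟩⟩⟩
  have h4 : Nat.card {v : {v : V // Q v = 0} // v ≠ ⟨0, map_zero Q⟩} =
    Nat.card {v : {v : V // Q v = 0} // ¬ v = ⟨0, map_zero Q⟩} := rfl
  rw [h3] at h2
  rw [h4]
  omega

theorem hasReal_P [Finite F] [Finite V] (hG : Good Q) {p : ℕ} (hp : p.Prime) (h1 : ¬ p ∣ Nat.card F - 1)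
    (hd : p ∣ Nat.card {v : V // Q v = 0} - 1) : HasReal p (P Q) := by
  have : FiniteDimensional F V := Module.Finite.of_finite
  let _ := act hG
  obtain ⟨x, y, hxy⟩ := hG.exists_hyp
  have hfin' : Finite (V ≃ₗ[F] V) := Finite.of_injective (fun e : V ≃ₗ[F] V => (e : V → V)) DFunLike.coe_injective
  have hfin : Finite (P Q) := inferInstanceAs (Finite (↥(E Q) ⧸ Subgroup.center ↥(E Q)))
  refine Cfsg.Agent.H139.RealB0.Crit.of_symm_action (SP Q) (pt hxy.left_ne hxy.left) ?_ (swap hG)
  rw [← card_SP_mul] at hd
  exact (hp.dvd_mul.1 hd).resolve_right h1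

end Gen

variable {F : Type} [Field F] [Fintype F]

/-- `PΩ_{2m+1}(q)`. -/
theorem hasReal_odd {m p : ℕ} (hm : 3 ≤ m) (hodd : Odd (Fintype.card F)) (hp : p.Prime) (h1 : ¬ p ∣ Fintype.card F - 1)
    (hd : p ∣ Fintype.card F ^ (2 * m) - 1) : HasReal p (Cfsg.POmega F (Cfsg.quadFormOdd m F)) := by
  have h2 : (2 : F) ≠ 0 := Cfsg.Agent.LieClassical.PomegaCard.odd_card_iff.1 hodd
  have hG := good_odd (F := F) (m := m) (by omega) h2
  rw [← coe_oddForm]
  refine (hasReal_P hG hp (by rwa [Nat.card_eq_fintype_card]) ?_).congr (pomegaEquiv hG).symm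
  rw [coe_oddForm, Cfsg.Agent.S0291.result rfl hodd m]
  exact hd

/-- `PΩ⁺_{2m}(q)`. -/
theorem hasReal_plus {m p : ℕ} (hm : 4 ≤ m) (hp : p.Prime) (h1 : ¬ p ∣ Fintype.card F - 1)
    (hd : p ∣ Fintype.card F ^ m - 1) : HasReal p (Cfsg.POmega F (Cfsg.quadFormPlus m F)) := by
  have hG := good_plus (F := F) (m := m) (by omega)
  rw [← coe_plusForm]
  refine (hasReal_P hG hp (by rwa [Nat.card_eq_fintype_card]) ?_).congr (pomegaEquiv hG).symm
  rw [coe_plusForm, Cfsg.Agent.S0289.result rfl m (by omega)]
  refine hd.trans ⟨Fintype.card F ^ (m - 1) + 1, ?_⟩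
  obtain ⟨k, rfl⟩ : ∃ k, m = k + 1 := ⟨m - 1, by omega⟩
  have e1 : 2 * (k + 1) - 1 = (k + 1) + k := by omega
  rw [e1, Nat.add_sub_cancel, pow_add]
  have hk : 1 ≤ Fintype.card F ^ (k + 1) := Nat.one_le_pow _ _ Fintype.card_pos
  have hk' : Fintype.card F ^ k ≤ Fintype.card F ^ (k + 1) := Nat.pow_le_pow_right Fintype.card_pos (by omega)
  generalize Fintype.card F ^ (k + 1) = A at *
  generalize Fintype.card F ^ k = B at *
  obtain ⟨A', rfl⟩ : ∃ A', A = A' + 1 := ⟨A - 1, by omega⟩
  have e2 : (A' + 1) * B + (A' + 1) = A' * (B + 1) + B + 1 := by ring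
  rw [Nat.add_sub_cancel]
  omega

/-- `PΩ⁻_{2m}(q)`. -/
theorem hasReal_minus {m p : ℕ} (hm : 4 ≤ m) (a b : F)
    (hab : ∀ z₁ z₂ : F, z₁ ^ 2 + a * z₁ * z₂ + b * z₂ ^ 2 = 0 → z₁ = 0 ∧ z₂ = 0) (hp : p.Prime)
    (h1 : ¬ p ∣ Fintype.card F - 1) (hd : p ∣ Fintype.card F ^ m + 1) :
    HasReal p (Cfsg.POmega F (Cfsg.quadFormMinus (m - 1) F a b)) := by
  have hG := good_minus (F := F) (m := m - 1) (by omega) a b hab
  rw [← coe_minusForm]
  refine (hasReal_P hG hp (by rwa [Nat.card_eq_fintype_card]) ?_).congr (pomegaEquiv hG).symm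
  rw [coe_minusForm, Cfsg.Agent.S0290.result rfl m (by omega) a b hab]
  refine hd.trans ⟨Fintype.card F ^ (m - 1) - 1, ?_⟩
  obtain ⟨k, rfl⟩ : ∃ k, m = k + 1 := ⟨m - 1, by omega⟩
  have e1 : 2 * (k + 1) - 1 = (k + 1) + k := by omega
  rw [e1, Nat.add_sub_cancel, pow_add]
  have hk : 1 ≤ Fintype.card F ^ k := Nat.one_le_pow _ _ Fintype.card_pos
  generalize Fintype.card F ^ (k + 1) = A at *
  generalize Fintype.card F ^ k = B at *
  obtain ⟨B', rfl⟩ : ∃ B', B = B' + 1 := ⟨B - 1, by omega⟩
  have e2 : A * (B' + 1) + (B' + 1) = (A + 1) * B' + A + 1 := by ring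
  rw [Nat.add_sub_cancel]
  omega

end Cfsg.Agent.H424.RealPts
end

-- part: H424/RealFix
section
/-!
# Real elements of `PΩ` from isometries with fixed vectors (helper424, REALB0-ORTH)

* `exists_conj_inv` : an isometry of odd prime order (not the characteristic) is conjugate to its inverse in the
  isometry group;
* `real_omega_fix` : if moreover the space of fixed vectors has dimension at least 2, then by an element of `Ω`;
* `hasReal_plus_fix`, `hasReal_minus_fix`, `hasReal_odd_fix`.
-/

set_option autoImplicit false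
set_option linter.unusedSectionVars false

namespace Cfsg.Agent.H424.RealFix

open QuadraticMap Matrix Module Polynomial Cfsg
open Cfsg.Agent.ClassicalGeometry.Reflection Cfsg.Agent.ClassicalGeometry.OrthCharTwo
  Cfsg.Agent.ClassicalGeometry.SpinorSign Cfsg.Agent.ClassicalGeometry.OmegaIndex
  Cfsg.Agent.ClassicalGeometry.OrthDickson
open Cfsg.Agent.H507.GmnOrth Cfsg.Agent.H507.GmnOrthRows
open Cfsg.Agent.LieClassical.OrthCore

section Gen

variable {ι : Type} [Fintype ι] [DecidableEq ι] {F : Type*} [Field F] {Q : QuadraticForm F (ι → F)}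

theorem nondeg_of (hQ : (polarBilin Q).Nondegenerate) : Nondeg Q :=
  fun x hx => nondeg_left Q hQ x hx

/-- an isometry of odd prime order is conjugate to its inverse -/
theorem exists_conj_inv [Fintype F] (hQ : (polarBilin Q).Nondegenerate) {p : ℕ} (hp : p.Prime) (hp2 : p ≠ 2)
    (hpF : (p : F) ≠ 0) {g : Cfsg.isometryGroup F (⇑Q)} (hg : g ^ p = 1) :
    ∃ h : Cfsg.isometryGroup F (⇑Q), h * g * h⁻¹ = g⁻¹ := by
  have hgq : g⁻¹ ^ p = 1 := by rw [inv_pow, hg, inv_one]
  rw [← isConj_iff, Cfsg.Agent.H193.OrthConj.isConj_iff Q hQ g g⁻¹ (hp.odd_of_ne_two hp2) hpF hg hgq]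
  have hsq : Squarefree (Polynomial.X ^ p - 1 : F[X]) := by
    have h1 : (Polynomial.X ^ p - Polynomial.C (1 : F)).Separable :=
      Polynomial.separable_X_pow_sub_C (1 : F) hpF one_ne_zero
    rw [Polynomial.C_1] at h1
    exact h1.squarefree
  have hpow : ∀ k : Cfsg.isometryGroup F (⇑Q), k ^ p = 1 →
      aeval ((k : GL ι F) : Matrix ι ι F) (Polynomial.X ^ p - 1 : F[X]) = 0 := by
    intro k hk
    have h1 : ((k : GL ι F) : Matrix ι ι F) ^ p = 1 := by
      rw [← Units.val_pow_eq_pow_val, ← SubmonoidClass.coe_pow, hk]; rfl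
    rw [map_sub, map_pow, aeval_X, h1, map_one, sub_self]
  have h1 := Cfsg.Agent.H193.SsConj.isConj_of_charpoly (g : GL ι F)
    ((g⁻¹ : Cfsg.isometryGroup F (⇑Q)) : GL ι F) _ hsq (hpow _ hg) (hpow _ hgq) (by
      rw [InvMemClass.coe_inv, Matrix.coe_units_inv]
      exact Cfsg.Agent.H149.PGO.charpoly_isometry Q (nondeg_of hQ) _ (fun v => Q_act g v))
  exact MonoidHom.map_isConj (Units.coeHom (Matrix ι ι F)) h1

/-- reflections in fixed vectors commute with `g` -/
theorem comm_refl {g : Cfsg.isometryGroup F (⇑Q)} {w : ι → F} (hw : act g w = w) (hQw : Q w ≠ 0) :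
    Commute (reflIso Q w hQw) g := by
  have h1 := conj_reflIso Q w hQw g (by
    have : act g w = w := hw
    rw [act_def] at this
    rw [this]; exact hQw)
  rw [mul_inv_eq_iff_eq_mul] at h1
  refine Commute.symm (h1.trans ?_)
  congr 1
  exact reflIso_congr Q _ _ hw

theorem conj_comm {g r h : Cfsg.isometryGroup F (⇑Q)} (hr : Commute r g) (hh : h * g * h⁻¹ = g⁻¹) :
    (r * h) * g * (r * h)⁻¹ = g⁻¹ := by
  calc (r * h) * g * (r * h)⁻¹ = r * (h * g * h⁻¹) * r⁻¹ := by group
    _ = r * g⁻¹ * r⁻¹ := by rw [hh]
    _ = g⁻¹ := by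
        rw [(hr.inv_right).eq, mul_inv_cancel_right]

theorem det_pm [Finite F] (h0 : (2 : F) ≠ 0) (hQ : (polarBilin Q).Nondegenerate) (h : Cfsg.isometryGroup F (⇑Q)) :
    ((h : Matrix.GeneralLinearGroup ι F) : Matrix ι ι F).det = 1 ∨
      ((h : Matrix.GeneralLinearGroup ι F) : Matrix ι ι F).det = -1 := by
  have hcoe : ∀ x y : Cfsg.isometryGroup F ⇑Q, (((x * y : Cfsg.isometryGroup F ⇑Q) :
      Matrix.GeneralLinearGroup ι F) : Matrix ι ι F).det =
      ((x : Matrix.GeneralLinearGroup ι F) : Matrix ι ι F).det *
      ((y : Matrix.GeneralLinearGroup ι F) : Matrix ι ι F).det := fun x y => by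
    rw [← Matrix.det_mul]; rfl
  refine Cfsg.Agent.ClassicalGeometry.CartanDieudonne.isometry_induction h0 Q hQ
    (fun g => ((g : Matrix.GeneralLinearGroup ι F) : Matrix ι ι F).det = 1 ∨
      ((g : Matrix.GeneralLinearGroup ι F) : Matrix ι ι F).det = -1) (Or.inl ?_) ?_ h
  · change ((1 : Matrix ι ι F)).det = 1
    exact Matrix.det_one
  · intro v hv g hg
    rw [hcoe, det_reflIso]
    rcases hg with hg | hg
    · right; rw [hg, mul_one]
    · left; rw [hg]; ring

/-- **a real element**: the conjugating element can be taken in `Ω` if there are enough fixed vectors. -/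
theorem real_omega_fix [Fintype F] (hQ : (polarBilin Q).Nondegenerate) {p : ℕ} (hp : p.Prime) (hp2 : p ≠ 2)
    (hpF : (p : F) ≠ 0) (hn : 2 ≤ Fintype.card ι) (h4 : (∃ θ : F, θ ≠ 0 ∧ θ ≠ 1) ∨ Fintype.card ι ≠ 4)
    {g : Cfsg.isometryGroup F (⇑Q)} (hg : g ^ p = 1) (hfx : 2 ≤ finrank F (fixSp g)) :
    ∃ h ∈ Cfsg.Omega F (⇑Q), h * g * h⁻¹ = g⁻¹ := by
  classical
  obtain ⟨h₀, hh₀⟩ := exists_conj_inv hQ hp hp2 hpF hg
  have hnd : ∀ x ∈ fixSp g, (∀ y ∈ fixSp g, polar Q x y = 0) → x = 0 := by
    intro x hx hxy
    apply nondeg_left Q hQ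
    intro y
    obtain ⟨a, b, rfl, ha, hb⟩ := exists_decomp hpF hg y
    rw [polar_add_right, hxy a ha, hb x hx, add_zero]
  by_cases h2 : (2 : F) = 0
  · have hom : ∀ k : Cfsg.isometryGroup F (⇑Q), k ∈ Cfsg.Omega F (⇑Q) ↔ dsign Q k = 1 := fun k =>
      Cfsg.Agent.H183.mem_Omega_iff_dsign _ h2 hQ h4 k
    rcases Int.units_eq_one_or (dsign Q h₀) with h1 | h1
    · exact ⟨h₀, (hom _).2 h1, hh₀⟩
    · obtain ⟨w, hw, hQw⟩ := Cfsg.Agent.H175.OmegaAdjust.exists_nonsing Q (fixSp g) (by
        intro h
        rw [h, finrank_bot] at hfx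
        omega) hnd
      refine ⟨reflIso Q w hQw * h₀, (hom _).2 ?_, conj_comm (comm_refl hw hQw) hh₀⟩
      rw [dsign_refl_mul Q hQ, h1]
      decide
  · have hom : ∀ k : Cfsg.isometryGroup F (⇑Q), k ∈ Cfsg.Omega F (⇑Q) ↔
        ((k : Matrix.GeneralLinearGroup ι F) : Matrix ι ι F).det = 1 ∧ spinorSign (⇑Q) (1 : F) k = 1 := fun k =>
      mem_Omega_iff h2 Q hQ hn one_ne_zero k
    have hcoe : ∀ x y : Cfsg.isometryGroup F ⇑Q, (((x * y : Cfsg.isometryGroup F ⇑Q) :
        Matrix.GeneralLinearGroup ι F) : Matrix ι ι F).det =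
        ((x : Matrix.GeneralLinearGroup ι F) : Matrix ι ι F).det *
        ((y : Matrix.GeneralLinearGroup ι F) : Matrix ι ι F).det := fun x y => by
      rw [← Matrix.det_mul]; rfl
    obtain ⟨c, hc⟩ := FiniteField.exists_nonsquare (F := F) (by
      intro h
      apply h2
      have := CharP.cast_eq_zero F (ringChar F)
      rw [h] at this
      exact_mod_cast this)
    have hc0 : c ≠ 0 := by
      rintro rfl
      exact hc (IsSquare.zero)
    obtain ⟨w₁, hw₁, hQw₁⟩ := Cfsg.Agent.H175.OmegaAdjust.exists_value h2 Q (fixSp g) hfx hnd 1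
    obtain ⟨w₂, hw₂, hQw₂⟩ := Cfsg.Agent.H175.OmegaAdjust.exists_value h2 Q (fixSp g) hfx hnd c
    have hn₁ : Q w₁ ≠ 0 := by rw [hQw₁]; exact one_ne_zero
    have hn₂ : Q w₂ ≠ 0 := by rw [hQw₂]; exact hc0
    have s₁ : spinorSign (⇑Q) (1 : F) (reflIso Q w₁ hn₁) = -1 := by
      rw [spinorSign_reflIso h2 Q one_ne_zero w₁ hn₁, one_mul, hQw₁, if_pos IsSquare.one]
    have s₂ : spinorSign (⇑Q) (1 : F) (reflIso Q w₂ hn₂) = 1 := by
      rw [spinorSign_reflIso h2 Q one_ne_zero w₂ hn₂, one_mul, hQw₂, if_neg hc]
    have d₁ := det_reflIso Q w₁ hn₁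
    have d₂ := det_reflIso Q w₂ hn₂
    have c₁ : Commute (reflIso Q w₁ hn₁) g := comm_refl hw₁ hn₁
    have c₂ : Commute (reflIso Q w₂ hn₂) g := comm_refl hw₂ hn₂
    rcases det_pm h2 hQ h₀ with hd | hd <;> rcases Int.units_eq_one_or (spinorSign (⇑Q) (1 : F) h₀) with hs | hs
    · exact ⟨h₀, (hom _).2 ⟨hd, hs⟩, hh₀⟩
    · refine ⟨reflIso Q w₁ hn₁ * (reflIso Q w₂ hn₂ * h₀), (hom _).2 ⟨?_, ?_⟩, conj_comm c₁ (conj_comm c₂ hh₀)⟩
      · rw [hcoe, hcoe, d₁, d₂, hd]; ring
      · rw [map_mul, map_mul, s₁, s₂, hs]; decide
    · refine ⟨reflIso Q w₂ hn₂ * h₀, (hom _).2 ⟨?_, ?_⟩, conj_comm c₂ hh₀⟩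
      · rw [hcoe, d₂, hd]; ring
      · rw [map_mul, s₂, hs, one_mul]
    · refine ⟨reflIso Q w₁ hn₁ * h₀, (hom _).2 ⟨?_, ?_⟩, conj_comm c₁ hh₀⟩
      · rw [hcoe, d₁, hd]; ring
      · rw [map_mul, s₁, hs]; decide

end Gen

section Pom

open Cfsg.Agent.LieClassical.OrthForms Cfsg.Agent.H403.Classify Cfsg.Agent.H377
open Cfsg.Agent.H702.RealB0

variable {F : Type*} [Field F] [Fintype F]

/-- real elements of `POmega` from isometries with fixed vectors -/
theorem hasReal_of_isom {ι : Type} [Fintype ι] [DecidableEq ι] (Q : QuadraticForm F (ι → F)) (hQ : Nondeg Q)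
    (h5 : 5 ≤ Fintype.card ι) {V : Type*} [AddCommGroup V] [Module F V] (Q' : V → F) (e : (ι → F) ≃ₗ[F] V)
    (c : F) (hc : c ≠ 0) (he : ∀ u, Q' (e u) = c * Q u) (T : Module.End F V) (hT : ∀ v, Q' (T v) = Q' v) {p : ℕ}
    (hp : p.Prime) (hp2 : p ≠ 2) (hpF : (p : F) ≠ 0) (hTp : orderOf T = p) (W : Submodule F V)
    (hW : 2 ≤ finrank F W) (hTW : ∀ w ∈ W, T w = w) : HasReal p (POmega F ⇑Q) := by
  classical
  let φ : Module.End F V ≃ₐ[F] Matrix ι ι F := (e.symm.conjAlgEquiv F).trans LinearMap.toMatrixAlgEquiv'
  have hφ : ∀ (S : Module.End F V) (x : ι → F), (φ S).mulVec x = e.symm (S (e x)) := by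
    intro S x
    show (LinearMap.toMatrix' (e.symm.conj S)).mulVec x = _
    rw [LinearMap.toMatrix'_mulVec]
    rfl
  have hM : ∀ x, Q ((φ T).mulVec x) = Q x := by
    intro x
    apply mul_left_cancel₀ hc
    rw [← he, ← he, hφ, e.apply_symm_apply, hT]
  have hTp1 : T ^ p = 1 := by rw [← hTp]; exact pow_orderOf_eq_one T
  have hunit : IsUnit (φ T) := by
    have h1 : φ T ^ p = 1 := by rw [← map_pow, hTp1, map_one]
    exact IsUnit.of_pow_eq_one h1 hp.ne_zero
  obtain ⟨M, hM'⟩ := hunit
  have hmem : M ∈ isometryGroup F ⇑Q := by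
    rw [Cfsg.Agent.LieClassical.OrthFinite.mem_isometryGroup_iff]
    intro x
    rw [hM']
    exact hM x
  let g : isometryGroup F ⇑Q := ⟨M, hmem⟩
  have hgv : ∀ j : ℕ, (((g ^ j : isometryGroup F ⇑Q) : Matrix.GeneralLinearGroup ι F) : Matrix ι ι F)
      = φ (T ^ j) := by
    intro j
    rw [map_pow, ← hM']
    rfl
  have hgp : g ^ p = 1 := by
    apply Subtype.ext
    apply Units.ext
    rw [hgv, hTp1, map_one]
    rfl
  have hQ' := nondegenerate_of_nondeg hQ
  have hfx : 2 ≤ finrank F (fixSp g) := by
    have h1 : W.map (e.symm : V →ₗ[F] (ι → F)) ≤ fixSp g := by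
      rintro _ ⟨w, hw, rfl⟩
      change act g (e.symm w) = e.symm w
      rw [act_def]
      change (M : Matrix ι ι F) *ᵥ (e.symm w) = e.symm w
      rw [hM', hφ, e.apply_symm_apply, hTW w hw]
    have h2 := Submodule.finrank_mono h1
    rw [LinearEquiv.finrank_map_eq] at h2
    exact hW.trans h2
  obtain ⟨h, hh, hhg⟩ := real_omega_fix hQ' hp hp2 hpF (by omega) (Or.inr (by omega)) hgp hfx
  -- `g` lies in `Ω`
  obtain ⟨k, hk⟩ := hp.odd_of_ne_two hp2
  have hg2 : g = g ^ (k + 1) * g ^ (k + 1) := by
    rw [← pow_add, show k + 1 + (k + 1) = p + 1 by omega, pow_succ, hgp, one_mul]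
  have hgO : g ∈ Cfsg.Omega F (⇑Q) := by
    rw [hg2]
    exact sq_mem_omega hQ' (by omega) (Or.inr (by omega)) _
  let z : Omega F ⇑Q := ⟨g, hgO⟩
  have hz : ∀ j : ℕ, ((((z ^ j : Omega F ⇑Q) : isometryGroup F ⇑Q) : Matrix.GeneralLinearGroup ι F) : Matrix ι ι F)
      = φ (T ^ j) := by
    intro j
    rw [← hgv]
    rfl
  have hs : ∃ u : ι → F, u ≠ 0 ∧ Q u = 0 := by
    obtain ⟨w, -, h1, h2⟩ := Cfsg.Agent.LieClassical.OrthFinite.exists_sing_mem (Q := Q) (⊤ : Submodule F (ι → F)) (by
      rw [finrank_top, Module.finrank_fintype_fun_eq_card]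
      omega)
    exact ⟨w, h1, h2⟩
  refine Cfsg.Agent.H139.RealB0.Crit.of_real_element (QuotientGroup.mk z : POmega F ⇑Q) ?_ ?_
  · -- order `p`
    rw [show orderOf (QuotientGroup.mk z : POmega F ⇑Q) = p from orderOf_eq_of_forall fun j => ?_]
    rw [← QuotientGroup.mk_pow, QuotientGroup.eq_one_iff,
      Cfsg.Agent.LieClassical.OrthCenter.mem_center_omega_iff hQ' (by omega) hs, hz, ← hTp, orderOf_dvd_iff_pow_eq_one]
    have hne : Nontrivial W := by
      apply Module.nontrivial_of_finrank_pos (R := F)
      omega
    obtain ⟨⟨w, hw⟩, hw0⟩ := exists_ne (0 : W)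
    have hw0' : w ≠ 0 := fun h => hw0 (Subtype.ext h)
    have hfix : ∀ j : ℕ, (T ^ j) w = w := by
      intro j
      induction j with
      | zero => rfl
      | succ j ih => rw [pow_succ, Module.End.mul_apply, hTW w hw, ih]
    constructor
    · rintro (h | h)
      · apply φ.injective; rw [h, map_one]
      · have h3 : T ^ j = -1 := by apply φ.injective; rw [h, map_neg, map_one]
        have h4 : w = -w := by
          conv_lhs => rw [← hfix j, h3]
          rfl
        have h2 : (2 : F) = 0 := by
          have h5 : (2 : F) • w = 0 := by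
            rw [two_smul]
            nth_rewrite 2 [h4]
            exact add_neg_cancel w
          exact (smul_eq_zero.1 h5).resolve_right hw0'
        rw [h3]
        refine LinearMap.ext fun x => ?_
        change -x = x
        have h6 : (2 : F) • x = 0 := by rw [h2, zero_smul]
        rw [two_smul] at h6
        exact (eq_neg_of_add_eq_zero_left h6).symm
    · intro h
      left; rw [h, map_one]
  · have h1 : IsConj z z⁻¹ := isConj_iff.2 ⟨⟨h, hh⟩, Subtype.ext hhg⟩
    exact MonoidHom.map_isConj (QuotientGroup.mk' _) h1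

/-- an isometry of order `p` with many fixed vectors, on a space of either type -/
theorem exists_fix {i j : ℕ} (hi : 1 ≤ i) (hj : 1 ≤ j) {p : ℕ} (hp : p.Prime) (hd : p ∣ Nat.card F ^ (2 * i) - 1)
    {δ : ℤ} (hδ : δ = 1 ∨ δ = -1) :
    ∃ (Q : QuadraticForm F ((Fin (2 * i) → F) × (Fin (2 * j) → F)))
      (T : Module.End F ((Fin (2 * i) → F) × (Fin (2 * j) → F))), Nondeg Q ∧ HasSign (⇑Q) (i + j) δ ∧
        (∀ v, Q (T v) = Q v) ∧ orderOf T = p ∧
        ∃ W : Submodule F ((Fin (2 * i) → F) × (Fin (2 * j) → F)), 2 ≤ finrank F W ∧ ∀ w ∈ W, T w = w := by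
  obtain ⟨ε, hε, h⟩ : ∃ ε : ℤ, (ε = 1 ∨ ε = -1) ∧ Elt F i ε p := by
    rcases Cfsg.Agent.H377.OOdd.elt_of_dvd hi hp hd with h | h
    · exact ⟨1, Or.inl rfl, h⟩
    · exact ⟨-1, Or.inr rfl, h⟩
  obtain ⟨-, Q, g, hQ, hs, hg, ho⟩ := h
  obtain ⟨-, Q', -, hQ', hs', -, -⟩ := elt_one_pm (F := F) hj (ε := ε * δ) (by
    rcases hε with rfl | rfl <;> rcases hδ with rfl | rfl <;> simp)
  refine ⟨sumQ Q Q', g.prodMap 1, sumQ_nondeg hQ hQ', ?_, ?_, ?_, LinearMap.range (LinearMap.inr F _ _), ?_, ?_⟩
  · have h1 := hs.prod hs'
    have h2 : ε * (ε * δ) = δ := by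
      rcases hε with rfl | rfl <;> ring
    rw [h2] at h1
    exact h1
  · intro v
    rw [sumQ_apply, sumQ_apply, LinearMap.prodMap_apply, hg]
    rfl
  · rw [orderOf_prodMap, ho, orderOf_one, Nat.lcm_one_right]
  · rw [LinearMap.finrank_range_of_inj LinearMap.inr_injective, Module.finrank_fin_fun]
    omega
  · rintro _ ⟨x, rfl⟩
    rw [LinearMap.prodMap_apply]
    refine Prod.ext ?_ rfl
    exact map_zero g

theorem hasReal_plus_fix {m : ℕ} (hm : 4 ≤ m) {p : ℕ} (hp : p.Prime) (hp2 : p ≠ 2) (hpF : (p : F) ≠ 0) {i : ℕ}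
    (hi : 1 ≤ i) (him : i < m) (hd : p ∣ Nat.card F ^ (2 * i) - 1) : HasReal p (POmega F (quadFormPlus m F)) := by
  obtain ⟨j, rfl⟩ : ∃ j, m = i + j := ⟨m - i, by omega⟩
  obtain ⟨Q, T, hQ, hs, hT, ho, W, hW, hTW⟩ := exists_fix (F := F) hi (j := j) (by omega) hp hd (Or.inl rfl)
  obtain ⟨e, he⟩ := exists_plus (m := i + j) (by omega) (by
    rw [Module.finrank_prod, Module.finrank_fin_fun, Module.finrank_fin_fun]; ring) Q hQ hs
  rw [← coe_plusForm]
  refine hasReal_of_isom (plusForm (i + j) F) (nondeg_plusForm (i + j) F) ?_ (⇑Q) e 1 one_ne_zero ?_ T hT hp hp2 hpF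
    ho W hW hTW
  · rw [Fintype.card_sum, Fintype.card_fin]
    omega
  · intro u
    rw [he, one_mul, coe_plusForm]

theorem hasReal_minus_fix {m : ℕ} (hm : 4 ≤ m) {a b : F}
    (hab : ∀ z₁ z₂ : F, z₁ ^ 2 + a * z₁ * z₂ + b * z₂ ^ 2 = 0 → z₁ = 0 ∧ z₂ = 0)
    {p : ℕ} (hp : p.Prime) (hp2 : p ≠ 2) (hpF : (p : F) ≠ 0) {i : ℕ}
    (hi : 1 ≤ i) (him : i < m) (hd : p ∣ Nat.card F ^ (2 * i) - 1) :
    HasReal p (POmega F (quadFormMinus (m - 1) F a b)) := by
  obtain ⟨j, rfl⟩ : ∃ j, m = i + j := ⟨m - i, by omega⟩
  obtain ⟨Q, T, hQ, hs, hT, ho, W, hW, hTW⟩ := exists_fix (F := F) hi (j := j) (by omega) hp hd (Or.inr rfl)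
  obtain ⟨e, he⟩ := exists_minus (m := i + j) (by omega) (by
    rw [Module.finrank_prod, Module.finrank_fin_fun, Module.finrank_fin_fun]; ring) Q hQ hs hab
  rw [← coe_minusForm]
  refine hasReal_of_isom (minusForm (i + j - 1) F a b) (nondeg_minusForm (i + j - 1) F a b hab) ?_ (⇑Q) e 1
    one_ne_zero ?_ T hT hp hp2 hpF ho W hW hTW
  · simp only [Fintype.card_sum, Fintype.card_fin]
    omega
  · intro u
    rw [he, one_mul, coe_minusForm]

theorem hasReal_odd_fix (h2 : (2 : F) ≠ 0) {m : ℕ} (hm : 3 ≤ m) {p : ℕ} (hp : p.Prime) (hp2 : p ≠ 2)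
    (hpF : (p : F) ≠ 0) {i : ℕ}
    (hi : 1 ≤ i) (him : i < m) (hd : p ∣ Nat.card F ^ (2 * i) - 1) : HasReal p (POmega F (quadFormOdd m F)) := by
  obtain ⟨j, rfl⟩ : ∃ j, m = i + j := ⟨m - i, by omega⟩
  obtain ⟨Q, T, hQ, hs, hT, ho, W, hW, hTW⟩ := exists_fix (F := F) hi (j := j) (by omega) hp hd (Or.inl rfl)
  let Q₁ : QuadraticForm F F := QuadraticMap.sq
  have hQ₁ : Nondeg Q₁ := by
    intro x hx
    have h3 := hx 1
    simp only [polar, Q₁, QuadraticMap.sq_apply] at h3
    have h4 : 2 * x = 0 := by linear_combination h3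
    exact (mul_eq_zero.1 h4).resolve_left h2
  have hR : Nondeg (sumQ Q Q₁) := sumQ_nondeg hQ hQ₁
  have hfr : Module.finrank F (((Fin (2 * i) → F) × (Fin (2 * j) → F)) × F) = 2 * (i + j) + 1 := by
    rw [Module.finrank_prod, Module.finrank_prod, Module.finrank_fin_fun, Module.finrank_fin_fun, Module.finrank_self]
    ring
  obtain ⟨c, e, hc, he⟩ := exists_similar_odd hfr (sumQ Q Q₁) hR
  rw [← coe_oddForm]
  refine hasReal_of_isom (oddForm (i + j) F) (nondeg_oddForm (i + j) F h2) ?_ (⇑(sumQ Q Q₁)) e c hc he
    (T.prodMap (1 : Module.End F F)) ?_ hp hp2 hpF ?_ (W.map (LinearMap.inl F _ F)) ?_ ?_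
  · simp only [Fintype.card_sum, Fintype.card_fin, Fintype.card_unit]
    omega
  · intro v
    rw [sumQ_apply, sumQ_apply, LinearMap.prodMap_apply, hT]
    rfl
  · rw [orderOf_prodMap, ho, orderOf_one, Nat.lcm_one_right]
  · rw [← (LinearEquiv.finrank_eq (Submodule.equivMapOfInjective (LinearMap.inl F _ F) LinearMap.inl_injective W))]
    exact hW
  · rintro _ ⟨x, hx, rfl⟩
    rw [LinearMap.prodMap_apply]
    refine Prod.ext ?_ rfl
    exact hTW x hx

end Pom

end Cfsg.Agent.H424.RealFix
end

-- part: H424/RealOrth
section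
/-!
# The rows `PΩ` of the table REALB0 (helper424)

`row_oodd`, `row_oplus`, `row_ominus` : the rows `oodd`, `oplus`, `ominus` of `Cfsg.Agent.H702.RealTable.Rows p`, `p` odd.
-/

set_option autoImplicit false

namespace Cfsg.Agent.H424.RealOrth

open Cfsg Cfsg.Agent.H702.RealB0 Cfsg.Agent.H702.RealTable Cfsg.Agent.H424.RealPts Cfsg.Agent.H424.RealFix

theorem not_dvd_card {F : Type} [Field F] [Fintype F] {p : ℕ} (hp : p.Prime) (hpF : (p : F) ≠ 0) :
    ¬ p ∣ Fintype.card F := by
  intro h
  obtain ⟨r, hr⟩ := CharP.exists F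
  have hrp : r.Prime := CharP.char_is_prime F r
  have : Fact r.Prime := ⟨hrp⟩
  obtain ⟨k, -, hk⟩ := FiniteField.card F r
  rw [hk] at h
  have h1 : p = r := (Nat.prime_dvd_prime_iff_eq hp hrp).1 (hp.dvd_of_dvd_pow h)
  apply hpF
  rw [h1]
  exact CharP.cast_eq_zero F r

/-- a prime divisor of the product of the `q ^ (2 i) - 1`, `1 ≤ i ≤ k` -/
theorem exists_dvd {p q k : ℕ} (hp : p.Prime) (h : p ∣ ∏ i ∈ Finset.range k, (q ^ (2 * (i + 1)) - 1)) :
    ∃ i, 1 ≤ i ∧ i ≤ k ∧ p ∣ q ^ (2 * i) - 1 := by
  obtain ⟨i, hi, hi2⟩ := (hp.prime.dvd_finsetProd_iff _).1 h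
  rw [Finset.mem_range] at hi
  exact ⟨i + 1, by omega, by omega, hi2⟩

theorem dvd_of_one {p q i : ℕ} (h : p ∣ q - 1) : p ∣ q ^ i - 1 := by
  refine h.trans ?_
  have := Nat.sub_dvd_pow_sub_pow q 1 i
  rwa [one_pow] at this

section

variable {F : Type} [Field F] [Fintype F] {p : ℕ}

theorem hasReal_oodd {m : ℕ} (hm : 3 ≤ m) (hodd : Odd (Fintype.card F)) (hp : p.Prime) (hp2 : p ≠ 2)
    (hpF : (p : F) ≠ 0) (hd : p ∣ Nat.card (POmega F (quadFormOdd m F))) :
    HasReal p (POmega F (quadFormOdd m F)) := by
  have h2 : (2 : F) ≠ 0 := Cfsg.Agent.LieClassical.PomegaCard.odd_card_iff.1 hodd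
  by_cases hi : ∃ i, 1 ≤ i ∧ i < m ∧ p ∣ Fintype.card F ^ (2 * i) - 1
  · obtain ⟨i, hi1, him, hd'⟩ := hi
    exact hasReal_odd_fix h2 hm hp hp2 hpF hi1 him (by rwa [Nat.card_eq_fintype_card])
  · have h1 : p ∣ 2 * Nat.card (POmega F (quadFormOdd m F)) := Dvd.dvd.mul_left hd 2
    rw [Cfsg.Agent.S0292.result (F := F) rfl hodd m hm] at h1
    have h3 := ((Nat.Prime.dvd_mul hp).1 h1).resolve_left fun h => not_dvd_card hp hpF (hp.dvd_of_dvd_pow h)
    obtain ⟨i, hi1, him, hd'⟩ := exists_dvd hp h3
    have h4 : i = m := by
      by_contra h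
      exact hi ⟨i, hi1, by omega, hd'⟩
    subst h4
    exact hasReal_odd hm hodd hp (fun h => hi ⟨1, le_rfl, by omega, dvd_of_one h⟩) hd'

theorem hasReal_oplus {m : ℕ} (hm : 4 ≤ m) (hp : p.Prime) (hp2 : p ≠ 2)
    (hpF : (p : F) ≠ 0) (hd : p ∣ Nat.card (POmega F (quadFormPlus m F))) :
    HasReal p (POmega F (quadFormPlus m F)) := by
  by_cases hi : ∃ i, 1 ≤ i ∧ i < m ∧ p ∣ Fintype.card F ^ (2 * i) - 1
  · obtain ⟨i, hi1, him, hd'⟩ := hi
    exact hasReal_plus_fix hm hp hp2 hpF hi1 him (by rwa [Nat.card_eq_fintype_card])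
  · have h1 : p ∣ Nat.gcd 4 (Fintype.card F ^ m - 1) * Nat.card (POmega F (quadFormPlus m F)) := Dvd.dvd.mul_left hd _
    rw [Cfsg.Agent.S0293.result (F := F) rfl m hm] at h1
    rcases (Nat.Prime.dvd_mul hp).1 h1 with h3 | h3
    · have h4 := ((Nat.Prime.dvd_mul hp).1 h3).resolve_left fun h => not_dvd_card hp hpF (hp.dvd_of_dvd_pow h)
      exact hasReal_plus hm hp (fun h => hi ⟨1, le_rfl, by omega, dvd_of_one h⟩) h4
    · exfalso
      obtain ⟨i, hi1, him, hd'⟩ := exists_dvd hp h3
      exact hi ⟨i, hi1, by omega, hd'⟩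

theorem hasReal_ominus {m : ℕ} (hm : 4 ≤ m) (a b : F)
    (hab : ∀ z₁ z₂ : F, z₁ ^ 2 + a * z₁ * z₂ + b * z₂ ^ 2 = 0 → z₁ = 0 ∧ z₂ = 0) (hp : p.Prime) (hp2 : p ≠ 2)
    (hpF : (p : F) ≠ 0) (hd : p ∣ Nat.card (POmega F (quadFormMinus (m - 1) F a b))) :
    HasReal p (POmega F (quadFormMinus (m - 1) F a b)) := by
  by_cases hi : ∃ i, 1 ≤ i ∧ i < m ∧ p ∣ Fintype.card F ^ (2 * i) - 1
  · obtain ⟨i, hi1, him, hd'⟩ := hi
    exact hasReal_minus_fix hm hab hp hp2 hpF hi1 him (by rwa [Nat.card_eq_fintype_card])
  · have h1 : p ∣ Nat.gcd 4 (Fintype.card F ^ m + 1) * Nat.card (POmega F (quadFormMinus (m - 1) F a b)) :=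
      Dvd.dvd.mul_left hd _
    rw [Cfsg.Agent.S0294.result (F := F) rfl m hm a b hab] at h1
    rcases (Nat.Prime.dvd_mul hp).1 h1 with h3 | h3
    · have h4 := ((Nat.Prime.dvd_mul hp).1 h3).resolve_left fun h => not_dvd_card hp hpF (hp.dvd_of_dvd_pow h)
      exact hasReal_minus hm a b hab hp (fun h => hi ⟨1, le_rfl, by omega, dvd_of_one h⟩) h4
    · exfalso
      obtain ⟨i, hi1, him, hd'⟩ := exists_dvd hp h3
      exact hi ⟨i, hi1, by omega, hd'⟩

end

section Rows

variable {p : ℕ} [hp : Fact p.Prime]

/-- **the row `oodd`** -/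
theorem row_oodd (hp2 : p ≠ 2) : RowFor p (fun X _ => ∃ (F : Type) (_ : Field F) (_ : Fintype F) (m : ℕ), (p : F) ≠ 0 ∧
    3 ≤ m ∧ Odd (Fintype.card F) ∧ Nonempty (X ≃* POmega F (quadFormOdd m F))) := by
  rintro X _ _ _ - hd ⟨F, _, _, m, hpF, hm, hodd, ⟨e⟩⟩
  rw [Nat.card_congr e.toEquiv] at hd
  exact (hasReal_oodd hm hodd hp.out hp2 hpF hd).congr e.symm

/-- **the row `oplus`** -/
theorem row_oplus (hp2 : p ≠ 2) : RowFor p (fun X _ => ∃ (F : Type) (_ : Field F) (_ : Fintype F) (m : ℕ), (p : F) ≠ 0 ∧
    4 ≤ m ∧ Nonempty (X ≃* POmega F (quadFormPlus m F))) := by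
  rintro X _ _ _ - hd ⟨F, _, _, m, hpF, hm, ⟨e⟩⟩
  rw [Nat.card_congr e.toEquiv] at hd
  exact (hasReal_oplus hm hp.out hp2 hpF hd).congr e.symm

/-- **the row `ominus`** -/
theorem row_ominus (hp2 : p ≠ 2) : RowFor p (fun X _ => ∃ (F : Type) (_ : Field F) (_ : Fintype F) (m : ℕ) (a b : F),
    (p : F) ≠ 0 ∧ 4 ≤ m ∧ (∀ z₁ z₂ : F, z₁ ^ 2 + a * z₁ * z₂ + b * z₂ ^ 2 = 0 → z₁ = 0 ∧ z₂ = 0) ∧
    Nonempty (X ≃* POmega F (quadFormMinus (m - 1) F a b))) := by
  rintro X _ _ _ - hd ⟨F, _, _, m, a, b, hpF, hm, hab, ⟨e⟩⟩
  rw [Nat.card_congr e.toEquiv] at hd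
  exact (hasReal_ominus hm a b hab hp.out hp2 hpF hd).congr e.symm

end Rows

end Cfsg.Agent.H424.RealOrth
end
end
end
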